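import Cfsg.Agent.Lib.Characterizations.SuzType.Seven.SelfThree

/-!
# The centraliser and normalizer of a Sylow 7-subgroup

Generic assembly: the centraliser of an element of order seven is `Z_7 × A_4` and its normalizer
induces all of the automorphism group of order six.
-/

set_option autoImplicit false

namespace CfsgLib.Characterizations.SuzType.Seven

open Subgroup

/-- A central subgroup of coprime index is a direct factor. -/
theorem nonempty_equiv_prod_of_central {H : Type*} [Group H] (Z : Subgroup H) [Z.Normal]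
    (hz : ∀ z ∈ Z, ∀ h : H, Commute z h) (hcop : (Nat.card Z).Coprime Z.index) :
    Nonempty (H ≃* Z × H ⧸ Z) := by
  obtain ⟨K, hK⟩ := exists_right_complement'_of_coprime hcop
  let f : Z × K →* H := MonoidHom.noncommCoprod Z.subtype K.subtype (fun z k => hz z z.2 k)
  have hf : Function.Bijective f := hK
  let π : K →* H ⧸ Z := (QuotientGroup.mk' Z).comp K.subtype
  have hπ : Function.Bijective π := by
    constructor
    · intro a c e
      have h1 : (a : H)⁻¹ * c ∈ Z := QuotientGroup.eq.1 e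
      have h2 : (a : H)⁻¹ * c ∈ K := K.mul_mem (K.inv_mem a.2) c.2
      have h3 : (a : H)⁻¹ * c ∈ Z ⊓ K := ⟨h1, h2⟩
      rw [hK.disjoint.eq_bot, mem_bot, inv_mul_eq_one] at h3
      exact Subtype.ext h3
    · intro q
      induction q using QuotientGroup.induction_on with
      | H h =>
        obtain ⟨⟨z, k⟩, hzk⟩ := hf.2 h
        have e : (z : H) * k = h := hzk
        refine ⟨k, QuotientGroup.eq.2 ?_⟩
        show (k : H)⁻¹ * h ∈ Z
        rw [← e, (hz z z.2 k).eq, inv_mul_cancel_left]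
        exact z.2
  exact ⟨(MulEquiv.ofBijective f hf).symm.trans
    ((MulEquiv.refl Z).prodCongr (MulEquiv.ofBijective π hπ))⟩

/-- An element of order seven whose centraliser has order prime to `49` generates a Sylow
subgroup. -/
theorem factorization_seven {G : Type*} [Group G] [Finite G] {b : G} (hb : orderOf b = 7)
    (h49 : ¬ 49 ∣ Nat.card (centralizer ({b} : Set G))) : (Nat.card G).factorization 7 = 1 := by
  haveI : Fact (Nat.Prime 7) := ⟨by norm_num⟩
  have hP : IsPGroup 7 (zpowers b) := IsPGroup.of_card (n := 1) (by rw [Nat.card_zpowers, hb, pow_one])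
  obtain ⟨P, hle⟩ := hP.exists_le_sylow
  have h1 : 7 ∣ Nat.card G := hb ▸ orderOf_dvd_natCard b
  have h2 : 1 ≤ (Nat.card G).factorization 7 :=
    (Nat.Prime.pow_dvd_iff_le_factorization (by norm_num) Nat.card_pos.ne').1 (by simpa using h1)
  by_contra hne
  have h72 : 7 ^ (1 + 1) ∣ Nat.card (P : Subgroup G) := by
    rw [P.card_eq_multiplicity]
    exact pow_dvd_pow 7 (by omega)
  obtain ⟨K, hK, hbK⟩ := Sylow.exists_subgroup_card_pow_succ (G := (P : Subgroup G)) h72
    (H := (zpowers b).subgroupOf P)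
    (by rw [Nat.card_congr (subgroupOfEquivOfLe hle).toEquiv, Nat.card_zpowers, hb, pow_one])
  apply h49
  have hcomm : ∀ u v : K, u * v = v * u := IsPGroup.commutative_of_card_eq_prime_sq (p := 7) hK
  have hbP : b ∈ (P : Subgroup G) := hle (mem_zpowers b)
  have hsub : K.map (P : Subgroup G).subtype ≤ centralizer {b} := by
    rintro _ ⟨u, hu, rfl⟩
    have := hcomm ⟨u, hu⟩ ⟨⟨b, hbP⟩, hbK (mem_zpowers b)⟩
    exact mem_centralizer_singleton_iff.2 (congrArg (fun w : K => ((w : (P : Subgroup G)) : G)) this)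
  have := card_dvd_of_le hsub
  rwa [card_map_of_injective (subtype_injective _), hK] at this

/-- The subgroup generated by two commuting elements. -/
theorem exists_zpow_of_mem_sup {G : Type*} [Group G] {b y c : G} (hyb : Commute y b)
    (hc : c ∈ zpowers b ⊔ zpowers y) : ∃ i j : ℤ, c = b ^ i * y ^ j := by
  have comm : ∀ (u : zpowers b) (v : zpowers y),
      Commute ((zpowers b).subtype u) ((zpowers y).subtype v) := by
    rintro ⟨u, hu⟩ ⟨v, hv⟩
    obtain ⟨i, rfl⟩ := mem_zpowers_iff.1 hu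
    obtain ⟨j, rfl⟩ := mem_zpowers_iff.1 hv
    exact hyb.symm.zpow_zpow i j
  rw [← (zpowers b).range_subtype, ← (zpowers y).range_subtype,
    ← MonoidHom.noncommCoprod_range (comm := comm)] at hc
  obtain ⟨⟨⟨u, hu⟩, ⟨v, hv⟩⟩, e⟩ := hc
  obtain ⟨i, rfl⟩ := mem_zpowers_iff.1 hu
  obtain ⟨j, rfl⟩ := mem_zpowers_iff.1 hv
  exact ⟨i, j, e.symm⟩

/-- An involution inverting `y` from any inverting element centralising `b`, when the common
centraliser of `b` and `y` is generated by them. -/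
theorem exists_involution_inverting {G : Type*} [Group G] {y b w : G} (hy : orderOf y = 3)
    (hb : orderOf b = 7) (hyb : Commute y b)
    (hcyb : ∀ c, Commute c y → Commute c b → c ∈ zpowers b ⊔ zpowers y)
    (hwb : Commute w b) (hw : w * y * w⁻¹ = y⁻¹) :
    ∃ s, orderOf s = 2 ∧ Commute s b ∧ s * y * s⁻¹ = y⁻¹ := by
  have hw2 : Commute (w * w) y := by
    show w * w * y = y * (w * w)
    calc w * w * y = w * (w * y * w⁻¹) * w⁻¹ * (w * w) := by group
      _ = y * (w * w) := by
        rw [hw, show w * y⁻¹ * w⁻¹ = (w * y * w⁻¹)⁻¹ by group, hw, inv_inv]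
  have h21 : (w * w) ^ 21 = 1 := by
    obtain ⟨i, j, e⟩ := exists_zpow_of_mem_sup hyb (hcyb _ hw2 (hwb.mul_left hwb))
    have h1 : b ^ 21 = 1 := orderOf_dvd_iff_pow_eq_one.1 (by rw [hb]; norm_num)
    have h2 : y ^ 21 = 1 := orderOf_dvd_iff_pow_eq_one.1 (by rw [hy]; norm_num)
    rw [e, (hyb.symm.zpow_zpow i j).mul_pow, ← zpow_natCast, ← zpow_natCast, zpow_comm b,
      zpow_comm y, zpow_natCast, zpow_natCast, h1, h2, one_zpow, one_zpow, one_mul]
  have hs : w ^ 21 * y * (w ^ 21)⁻¹ = y⁻¹ := by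
    have e : w ^ 21 = w * (w * w) ^ 10 := by rw [← sq, ← pow_mul, ← pow_succ']
    have hc : (w * w) ^ 10 * y * ((w * w) ^ 10)⁻¹ = y := by
      rw [(hw2.pow_left 10).eq, mul_inv_cancel_right]
    calc w ^ 21 * y * (w ^ 21)⁻¹ = w * ((w * w) ^ 10 * y * ((w * w) ^ 10)⁻¹) * w⁻¹ := by
          rw [e]; group
      _ = y⁻¹ := by rw [hc, hw]
  refine ⟨w ^ 21, orderOf_eq_prime
    (by rw [← pow_mul, mul_comm, pow_mul, pow_two]; exact h21) fun e => ?_, hwb.pow_left 21, hs⟩
  rw [e, one_mul, inv_one, mul_one] at hs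
  have h3 : orderOf y ∣ 2 := orderOf_dvd_of_pow_eq_one (by
    rw [pow_two]; nth_rewrite 2 [hs]; exact mul_inv_cancel y)
  rw [hy] at h3
  omega

/-- Conjugation carries centralisers to centralisers. -/
theorem map_centralizer_equiv {G : Type*} [Group G] (e : G ≃* G) (S : Subgroup G) :
    (centralizer (S : Set G)).map e.toMonoidHom = centralizer (S.map e.toMonoidHom : Set G) := by
  ext g
  constructor
  · rintro ⟨c, hc, rfl⟩
    refine mem_centralizer_iff.2 ?_
    rintro _ ⟨u, hu, rfl⟩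
    rw [← map_mul, ← map_mul, mem_centralizer_iff.1 hc u hu]
  · intro hg
    refine ⟨e.symm g, mem_centralizer_iff.2 fun u hu => e.injective ?_, e.apply_symm_apply g⟩
    rw [map_mul, map_mul, e.apply_symm_apply]
    exact mem_centralizer_iff.1 hg (e u) ⟨u, hu, rfl⟩

/-- The structure of the centraliser of an element of order seven. -/
theorem centralizer_structure {G : Type*} [Group G] [Finite G] {y b : G} (E : Subgroup G)
    (hy : orderOf y = 3) (hb : orderOf b = 7) (hyb : Commute y b)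
    (hcyb : ∀ c, Commute c y → Commute c b → c ∈ zpowers b ⊔ zpowers y)
    (hE : Nat.card E = 4) (hEb : ∀ e ∈ E, Commute e b)
    (hCE : ∀ c, Commute c b → (∀ e ∈ E, Commute c e) → c ∈ E ⊔ zpowers b)
    (hno : ∀ s, orderOf s = 2 → Commute s b → s * y * s⁻¹ ≠ y⁻¹) :
    Nat.card ↥(centralizer ({b} : Set G)) = 84 ∧
      Nonempty (↥(centralizer ({b} : Set G)) ≃* Multiplicative (ZMod 7) × alternatingGroup (Fin 4)) := by
  set H := centralizer ({b} : Set G) with hH
  have mH : ∀ {g : G}, g ∈ H ↔ Commute g b := fun {g} => mem_centralizer_singleton_iff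
  set bH : H := ⟨b, mH.2 (Commute.refl b)⟩ with hbH
  set yH : H := ⟨y, mH.2 hyb⟩ with hyH
  set Z : Subgroup H := zpowers bH with hZ
  have hz : ∀ z ∈ Z, ∀ h : H, Commute z h := by
    intro z hzz h
    obtain ⟨k, rfl⟩ := mem_zpowers_iff.1 hzz
    have h1 : Commute bH h := Subtype.ext (mH.1 h.2).eq.symm
    exact h1.zpow_left k
  haveI : Z.Normal := ⟨fun z hzz h => by rw [← (hz z hzz h).eq, mul_inv_cancel_right]; exact hzz⟩
  have hZc : Nat.card Z = 7 := by rw [hZ, Nat.card_zpowers, hbH, Subgroup.orderOf_mk, hb]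
  -- congruent elements with equal order prime to seven are equal
  have cancel : ∀ {n : ℕ}, n.Coprime 7 → ∀ u v : H, u ^ n = 1 → v ^ n = 1 → u⁻¹ * v ∈ Z → v = u := by
    intro n hn u v hu hv hZuv
    have hc : Commute u (u⁻¹ * v) := (hz _ hZuv u).symm
    have h1 : (u⁻¹ * v) ^ n = 1 := by
      have := hc.mul_pow n
      rwa [mul_inv_cancel_left, hu, hv, one_mul, eq_comm] at this
    have h7 : (u⁻¹ * v) ^ 7 = 1 := orderOf_dvd_iff_pow_eq_one.1
      (hZc ▸ orderOf_dvd_natCard Z hZuv)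
    have h0 : u⁻¹ * v = 1 := orderOf_eq_one_iff.1
      (Nat.eq_one_of_dvd_coprimes hn (orderOf_dvd_of_pow_eq_one h1) (orderOf_dvd_of_pow_eq_one h7))
    exact (inv_mul_eq_one.1 h0).symm
  have memZ : ∀ {h : H}, h ∈ Z → (h : G) ∈ zpowers b := by
    intro h hh
    obtain ⟨k, rfl⟩ := mem_zpowers_iff.1 hh
    exact mem_zpowers_iff.2 ⟨k, by simp [hbH]⟩
  have hy3 : yH ^ 3 = 1 := by
    apply Subtype.ext
    rw [SubmonoidClass.coe_pow, ← hy]
    exact pow_orderOf_eq_one y
  have hyZ : yH ∉ Z := fun h => by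
    have h7 : orderOf y ∣ 7 := by
      rw [← hb, ← Nat.card_zpowers b]
      exact Subgroup.orderOf_dvd_natCard (zpowers b) (memZ h)
    rw [hy] at h7
    norm_num at h7
  have hcom : ∀ (g : H), Commute (g : H ⧸ Z) (yH : H ⧸ Z) → Commute (g : G) y := by
    intro g hg
    have h1 : g * yH * g⁻¹ = yH := by
      refine cancel (n := 3) (by norm_num) yH _ hy3 ?_ (QuotientGroup.eq.1 ?_)
      · rw [conj_pow, hy3, mul_one, mul_inv_cancel]
      · rw [QuotientGroup.mk_mul, QuotientGroup.mk_mul, QuotientGroup.mk_inv, hg.eq,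
          mul_inv_cancel_right]
    exact mul_inv_eq_iff_eq_mul.1 (congrArg Subtype.val h1)
  have hX : CfsgLib.Recognition.SelfCentThree.Hyp (yH : H ⧸ Z) := by
    refine ⟨orderOf_eq_prime (by rw [← QuotientGroup.mk_pow, hy3, QuotientGroup.mk_one])
      fun e => hyZ ((QuotientGroup.eq_one_iff _).1 e), fun q hq => ?_⟩
    induction q using QuotientGroup.induction_on with
    | H g =>
      obtain ⟨i, j, e⟩ := exists_zpow_of_mem_sup hyb (hcyb _ (hcom g hq) (mH.1 g.2))
      refine mem_zpowers_iff.2 ⟨j, ?_⟩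
      rw [show g = bH ^ i * yH ^ j from Subtype.ext (by simpa [hbH, hyH] using e),
        QuotientGroup.mk_mul, QuotientGroup.mk_zpow, QuotientGroup.mk_zpow,
        (QuotientGroup.eq_one_iff bH).2 (mem_zpowers bH), one_zpow, one_mul]
  have hEH : E ≤ H := fun e he => mH.2 (hEb e he)
  set EH : Subgroup H := E.subgroupOf H with hEHdef
  set EX : Subgroup (H ⧸ Z) := EH.map (QuotientGroup.mk' Z) with hEX
  have hEHc : Nat.card EH = 4 := by rw [Nat.card_congr (subgroupOfEquivOfLe hEH).toEquiv, hE]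
  have hEXc : Nat.card EX = 4 := by
    have hd : EH ⊓ Z = ⊥ := (disjoint_of_coprime_natCard (by rw [hEHc, hZc]; norm_num)).eq_bot
    have hinj : Function.Injective ((QuotientGroup.mk' Z).comp EH.subtype) := by
      intro u v e
      refine Subtype.ext ?_
      have h1 : (u : H)⁻¹ * v ∈ EH ⊓ Z :=
        ⟨EH.mul_mem (EH.inv_mem u.2) v.2, QuotientGroup.eq.1 e⟩
      rw [hd, mem_bot] at h1
      exact inv_mul_eq_one.1 h1
    have := Nat.card_congr (MonoidHom.ofInjective hinj).toEquiv
    rw [hEHc, MonoidHom.range_eq_map, ← Subgroup.map_map, ← MonoidHom.range_eq_map,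
      range_subtype] at this
    exact this.symm
  have hcomm : ∀ u v : E, u * v = v * u := by
    haveI : Fact (Nat.Prime 2) := ⟨Nat.prime_two⟩
    exact IsPGroup.commutative_of_card_eq_prime_sq (p := 2) (by rw [hE]; norm_num)
  have hE4 : ∀ e : H, e ∈ EH → e ^ 4 = 1 := fun e he =>
    orderOf_dvd_iff_pow_eq_one.1 (hEHc ▸ orderOf_dvd_natCard EH he)
  have hself : centralizer (EX : Set (H ⧸ Z)) = EX := by
    refine le_antisymm (fun q hq => ?_) ?_
    · induction q using QuotientGroup.induction_on with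
      | H g =>
        have hge : ∀ e ∈ E, Commute (g : G) e := by
          intro e he
          set eH : H := ⟨e, hEH he⟩
          have h4 : eH ^ 4 = 1 := hE4 eH he
          have h1 : g * eH * g⁻¹ = eH := by
            refine cancel (n := 4) (by norm_num) eH _ h4 ?_ (QuotientGroup.eq.1 ?_)
            · rw [conj_pow, h4, mul_one, mul_inv_cancel]
            · rw [QuotientGroup.mk_mul, QuotientGroup.mk_mul, QuotientGroup.mk_inv,
                ← mem_centralizer_iff.1 hq (eH : H ⧸ Z) ⟨eH, he, rfl⟩, mul_inv_cancel_right]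
          exact mul_inv_eq_iff_eq_mul.1 (congrArg Subtype.val h1)
        have h2 : g ∈ EH ⊔ Z := by
          have h3 : (g : G) ∈ (EH ⊔ Z).map H.subtype := by
            rw [Subgroup.map_sup, hEHdef, subgroupOf_map_subtype, inf_eq_left.2 hEH, hZ,
              MonoidHom.map_zpowers]
            exact hCE _ (mH.1 g.2) hge
          obtain ⟨g', hg', e⟩ := h3
          rwa [← H.subtype_injective e]
        have h3 := mem_map_of_mem (QuotientGroup.mk' Z) h2
        rw [Subgroup.map_sup, QuotientGroup.map_mk'_self, sup_bot_eq] at h3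
        exact h3
    · rintro _ ⟨u, hu, rfl⟩
      refine mem_centralizer_iff.2 ?_
      rintro _ ⟨v, hv, rfl⟩
      rw [← map_mul, ← map_mul]
      exact congrArg _ (Subtype.ext (congrArg (fun w : E => (w : G)) (hcomm ⟨_, hv⟩ ⟨_, hu⟩)))
  have hnoX : ∀ q : H ⧸ Z, orderOf q = 2 → q * (yH : H ⧸ Z) * q⁻¹ ≠ (yH : H ⧸ Z)⁻¹ := by
    intro q _
    induction q using QuotientGroup.induction_on with
    | H g =>
      intro e
      have h1 : g * yH * g⁻¹ = yH⁻¹ := by
        refine cancel (n := 3) (by norm_num) yH⁻¹ _ (by rw [inv_pow, hy3, inv_one]) ?_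
          (QuotientGroup.eq.1 ?_)
        · rw [conj_pow, hy3, mul_one, mul_inv_cancel]
        · rw [QuotientGroup.mk_inv, ← e]; rfl
      obtain ⟨s, hs2, hsb, hsy⟩ := exists_involution_inverting hy hb hyb hcyb (mH.1 g.2)
        (congrArg Subtype.val h1)
      exact hno s hs2 hsb hsy
  obtain ⟨h12, ⟨e12⟩⟩ := card_twelve hX EX hEXc hself hnoX
  have hidx : Z.index = 12 := h12
  refine ⟨by rw [← Z.card_mul_index, hZc, hidx], ?_⟩
  obtain ⟨e⟩ := nonempty_equiv_prod_of_central Z hz (by rw [hZc, hidx]; norm_num)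
  haveI : Fact (Nat.Prime 7) := ⟨by norm_num⟩
  haveI : IsCyclic Z := isCyclic_of_prime_card (p := 7) hZc
  have eZ : Z ≃* Multiplicative (ZMod 7) := mulEquivOfCyclicCardEq (by
    rw [hZc, Nat.card_congr (Multiplicative.toAdd : Multiplicative (ZMod 7) ≃ ZMod 7), Nat.card_zmod])
  exact ⟨e.trans (eZ.prodCongr e12)⟩

/-- The centraliser and the order of the normalizer of a Sylow 7-subgroup. -/
theorem seven_structure {G : Type*} [Group G] [Finite G] {y b : G} (E : Subgroup G)
    (hy : orderOf y = 3) (hb : orderOf b = 7) (hyb : Commute y b)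
    (hcyb : ∀ c, Commute c y → Commute c b → c ∈ Subgroup.zpowers b ⊔ Subgroup.zpowers y)
    (hE : Nat.card E = 4) (hEb : ∀ e ∈ E, Commute e b)
    (hCE : ∀ c, Commute c b → (∀ e ∈ E, Commute c e) → c ∈ E ⊔ Subgroup.zpowers b)
    (hno : ∀ s, orderOf s = 2 → Commute s b → s * y * s⁻¹ ≠ y⁻¹)
    (hinv : ∃ n, n * y * n⁻¹ = y⁻¹)
    (hfuse : ∃ d, Commute d y ∧ d * b * d⁻¹ ∈ Subgroup.zpowers b ∧ ¬ Commute d b)
    (B : Sylow 7 G) :
    Nonempty (↥(Subgroup.centralizer ((B : Subgroup G) : Set G)) ≃*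
        Multiplicative (ZMod 7) × alternatingGroup (Fin 4)) ∧
      Nat.card ↥(Subgroup.normalizer ((B : Subgroup G) : Set G)) = 504 := by
  haveI : Fact (Nat.Prime 7) := ⟨by norm_num⟩
  obtain ⟨hC84, hCiso⟩ := centralizer_structure E hy hb hyb hcyb hE hEb hCE hno
  have hfac := factorization_seven hb (by rw [hC84]; norm_num)
  have hcard7 : ∀ (c : G), Nat.card ↥((zpowers b).map (MulAut.conj c).toMonoidHom) = 7 := fun c => by
    rw [card_map_of_injective (f := (MulAut.conj c).toMonoidHom) (MulAut.conj c).injective,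
      Nat.card_zpowers, hb]
  let P : Sylow 7 G := Sylow.ofCard (zpowers b) (by rw [hfac, Nat.card_zpowers, hb, pow_one])
  obtain ⟨g, hg⟩ := MulAction.exists_smul_eq G P B
  have hB : (B : Subgroup G) = (zpowers b).map (MulAut.conj g).toMonoidHom := by
    rw [← hg]; rfl
  set N := normalizer ((zpowers b : Subgroup G) : Set G) with hN
  have hCP : centralizer ((zpowers b : Subgroup G) : Set G) = centralizer ({b} : Set G) := by
    rw [zpowers_eq_closure, centralizer_closure]
  -- `N` induces a group of order six on `⟨b⟩`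
  set φ := normalizerMonoidHom (zpowers b) with hφ
  have hker : Nat.card φ.ker = 84 := by
    rw [normalizerMonoidHom_ker, Nat.card_congr (subgroupOfEquivOfLe (centralizer_le_normalizer _)).toEquiv,
      hCP, hC84]
  have hφ1 : ∀ w : N, φ w = 1 ↔ Commute (w : G) b := fun w => by
    rw [← MonoidHom.mem_ker, normalizerMonoidHom_ker, mem_subgroupOf, hCP,
      mem_centralizer_singleton_iff]
    rfl
  have memN : ∀ {w : G}, w * b * w⁻¹ ∈ zpowers b → w ∈ N := by
    intro w hw
    rw [hN, mem_normalizer_iff_map_conj_eq]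
    refine eq_of_le_of_card_ge ?_ ?_
    · rw [MonoidHom.map_zpowers]
      exact zpowers_le.2 hw
    · exact le_of_eq ((Nat.card_zpowers b).trans (hb.trans (hcard7 w).symm))
  obtain ⟨d, hdy, hdb, hdc⟩ := hfuse
  obtain ⟨n, hn⟩ := hinv
  -- Frattini
  obtain ⟨n', hn'N, hn'y⟩ : ∃ n' ∈ N, n' * y * n'⁻¹ = y⁻¹ := by
    set Y := centralizer ({y} : Set G) with hY
    have hbY : zpowers b ≤ Y := zpowers_le.2 (mem_centralizer_singleton_iff.2 hyb.eq.symm)
    have hnY : (zpowers b).map (MulAut.conj n).toMonoidHom ≤ Y := by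
      rw [MonoidHom.map_zpowers]
      refine zpowers_le.2 (mem_centralizer_singleton_iff.2 ?_)
      have h1 : Commute (n * b * n⁻¹) (n * y * n⁻¹) := by
        show n * b * n⁻¹ * (n * y * n⁻¹) = n * y * n⁻¹ * (n * b * n⁻¹)
        calc n * b * n⁻¹ * (n * y * n⁻¹) = n * (b * y) * n⁻¹ := by group
          _ = n * y * n⁻¹ * (n * b * n⁻¹) := by rw [← hyb.eq]; group
      rw [hn, Commute.inv_right_iff] at h1
      exact h1.eq
    have hfY : (Nat.card Y).factorization 7 = 1 := by
      refine le_antisymm ?_ ?_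
      · rw [← hfac]
        exact (Nat.factorization_le_iff_dvd Nat.card_pos.ne' Nat.card_pos.ne').2
          Y.card_subgroup_dvd_card 7
      · refine (Nat.Prime.pow_dvd_iff_le_factorization (by norm_num) Nat.card_pos.ne').1 ?_
        rw [pow_one, ← hb, ← Nat.card_zpowers]
        exact card_dvd_of_le hbY
    let Q1 : Sylow 7 Y := Sylow.ofCard ((zpowers b).subgroupOf Y)
      (by rw [hfY, Nat.card_congr (subgroupOfEquivOfLe hbY).toEquiv, Nat.card_zpowers, hb, pow_one])
    let Q2 : Sylow 7 Y := Sylow.ofCard (((zpowers b).map (MulAut.conj n).toMonoidHom).subgroupOf Y)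
      (by rw [hfY, Nat.card_congr (subgroupOfEquivOfLe hnY).toEquiv, hcard7, pow_one])
    obtain ⟨c, hc⟩ := MulAction.exists_smul_eq Y Q2 Q1
    have hmemY : (⟨n * b * n⁻¹, hnY ⟨b, mem_zpowers b, rfl⟩⟩ : Y) ∈ (Q2 : Subgroup Y) :=
      mem_subgroupOf.2 ⟨b, mem_zpowers b, rfl⟩
    have h1 : c * ⟨n * b * n⁻¹, hnY ⟨b, mem_zpowers b, rfl⟩⟩ * c⁻¹ ∈ (Q1 : Subgroup Y) := by
      rw [← hc]
      exact ⟨_, hmemY, rfl⟩
    have h2 : (c : G) * (n * b * n⁻¹) * (c : G)⁻¹ ∈ zpowers b := h1
    refine ⟨c * n, memN (by rwa [mul_inv_rev, show (c : G) * n * b * (n⁻¹ * (c : G)⁻¹) =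
      c * (n * b * n⁻¹) * (c : G)⁻¹ by group]), ?_⟩
    have hcy : (c : G) * y = y * c := mem_centralizer_singleton_iff.1 c.2
    calc (c : G) * n * y * ((c : G) * n)⁻¹ = c * (n * y * n⁻¹) * (c : G)⁻¹ := by group
      _ = ((c : G) * y * (c : G)⁻¹)⁻¹ := by rw [hn]; group
      _ = y⁻¹ := by rw [hcy, mul_inv_cancel_right]
  set A0 : Subgroup (MulAut ↥(zpowers b)) := ((centralizer ({y} : Set G)).subgroupOf N).map φ
    with hA0
  have hA0le : A0 ≤ φ.range := map_le_range _ _
  have hd0 : φ ⟨d, memN hdb⟩ ∈ A0 :=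
    ⟨⟨d, memN hdb⟩, mem_subgroupOf.2 (mem_centralizer_singleton_iff.2 hdy.eq), rfl⟩
  have hA0ne : Nat.card A0 ≠ 1 := fun e => by
    have h1 : A0 = ⊥ := card_eq_one.1 e
    rw [h1, mem_bot, hφ1] at hd0
    exact hdc hd0
  have hn'A0 : φ ⟨n', hn'N⟩ ∉ A0 := by
    rintro ⟨⟨m, hmN⟩, hm, e⟩
    have hmy : Commute m y := mem_centralizer_singleton_iff.1 (mem_subgroupOf.1 hm)
    have hc : φ (⟨n', hn'N⟩ * ⟨m, hmN⟩⁻¹) = 1 := by rw [map_mul, map_inv, e, mul_inv_cancel]
    rw [hφ1] at hc
    obtain ⟨s, hs2, hsb, hsy⟩ := exists_involution_inverting hy hb hyb hcyb hc (by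
      show n' * m⁻¹ * y * (n' * m⁻¹)⁻¹ = y⁻¹
      calc n' * m⁻¹ * y * (n' * m⁻¹)⁻¹ = n' * (m⁻¹ * (y * m)) * n'⁻¹ := by group
        _ = y⁻¹ := by rw [← hmy.eq, inv_mul_cancel_left, hn'y])
    exact hno s hs2 hsb hsy
  have haut : Nat.card (MulAut ↥(zpowers b)) = 6 := by
    rw [IsCyclic.card_mulAut, Nat.card_zpowers, hb, Nat.totient_prime (by norm_num)]
  have h6 : Nat.card φ.range = 6 := by
    have hd1 : Nat.card φ.range ∣ 6 := haut ▸ φ.range.card_subgroup_dvd_card
    have hd2 : Nat.card A0 ∣ Nat.card φ.range := card_dvd_of_le hA0le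
    have hne : Nat.card A0 ≠ Nat.card φ.range := fun e =>
      hn'A0 (eq_of_le_of_card_ge hA0le e.ge ▸ ⟨⟨n', hn'N⟩, rfl⟩)
    have hle := Nat.le_of_dvd (by norm_num) hd1
    have hle2 := Nat.le_of_dvd Nat.card_pos hd2
    have h0 : 0 < Nat.card A0 := Nat.card_pos
    interval_cases h : Nat.card φ.range <;> interval_cases h' : Nat.card A0 <;> omega
  have hN504 : Nat.card N = 504 := by
    rw [← φ.ker.card_mul_index, index_ker, hker, h6]
  refine ⟨?_, ?_⟩
  · obtain ⟨e⟩ := hCiso
    rw [hB, ← map_centralizer_equiv, hCP]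
    exact ⟨((MulAut.conj g).subgroupMap _).symm.trans e⟩
  · rw [hB, ← map_equiv_normalizer_eq,
      card_map_of_injective (f := (MulAut.conj g).toMonoidHom) (MulAut.conj g).injective]
    exact hN504

/-- In a simple group other than the one of order seven, an element of order seven generating a
Sylow subgroup is fused in its normalizer. -/
theorem exists_fuse {X : Type*} [Group X] [Finite X] [IsSimpleGroup X] {b : X} (hb : orderOf b = 7)
    (h49 : ¬ 49 ∣ Nat.card X) (hne : Nat.card X ≠ 7) :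
    ∃ d, d * b * d⁻¹ ∈ Subgroup.zpowers b ∧ ¬ Commute d b := by
  haveI : Fact (Nat.Prime 7) := ⟨by norm_num⟩
  by_contra hcon
  push Not at hcon
  have hfac : (Nat.card X).factorization 7 = 1 :=
    factorization_seven hb fun h => h49 (h.trans (card_subgroup_dvd_card _))
  let P : Sylow 7 X := Sylow.ofCard (zpowers b) (by rw [hfac, Nat.card_zpowers, hb, pow_one])
  have hP : normalizer (P : Set X) ≤ centralizer (P : Set X) := by
    intro d hd
    have h1 : d * b * d⁻¹ ∈ zpowers b := (mem_normalizer_iff.1 hd b).1 (mem_zpowers b)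
    have hdb := hcon d h1
    refine mem_centralizer_iff.2 fun u hu => ?_
    obtain ⟨k, rfl⟩ := mem_zpowers_iff.1 (show u ∈ zpowers b from hu)
    exact (hdb.symm.zpow_left k).eq
  have hK := MonoidHom.ker_transferSylow_isComplement' P hP
  have hcm := hK.card_mul
  rw [show Nat.card (P : Subgroup X) = 7 from by
    rw [show (P : Subgroup X) = zpowers b from rfl, Nat.card_zpowers, hb]] at hcm
  rcases IsSimpleGroup.eq_bot_or_eq_top_of_normal (MonoidHom.transferSylow P hP).ker inferInstance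
    with e | e
  · rw [e, card_bot, one_mul] at hcm
    exact hne hcm.symm
  · rw [e, card_top] at hcm
    have := Nat.card_pos (α := X)
    omega

end CfsgLib.Characterizations.SuzType.Seven
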