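import Cfsg.Agent.Lib.Characterizations.SuzType.Seven.Local
import Cfsg.Agent.Lib.Characterizations.SuzType.Three.Quot
import Cfsg.Agent.Lib.Recognition.CIT.Basic

/-!
# The centraliser of a rotated four-group in `C(y)`
-/

set_option autoImplicit false
set_option linter.unusedSectionVars false
set_option linter.style.haveILetI false

namespace CfsgLib.Characterizations.SuzType.Seven

open Suz CfsgLib.Characterizations.SuzType.Three

variable {G : Type*} [Group G]

/-- `C(y) ∩ C(t)`. -/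
def lz (y t : G) : Subgroup G := cy y ⊓ Subgroup.centralizer ({t} : Set G)

theorem mem_lz {y t c : G} : c ∈ lz y t ↔ c * y = y * c ∧ c * t = t * c := by
  rw [lz, Subgroup.mem_inf, Subgroup.mem_centralizer_singleton_iff, Subgroup.mem_centralizer_singleton_iff]

theorem lz_comm_rot {y t c : G} (hc' : c ∈ lz y t) : c * (y * t * y⁻¹) = y * t * y⁻¹ * c := by
  obtain ⟨h1, h2⟩ := mem_lz.1 hc'
  exact (((show Commute c y from h1).mul_right h2).mul_right (show Commute c y from h1).inv_right).eq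

variable [Finite G] {z u g : G} {Q : Subgroup G} {π : G → V} {S : Suz z Q π} {y t : G}
variable (hy : IsStd S y) (h : Four z y t)
include hy h

theorem not_commute : ¬ Commute y t := fun hc' => by
  have h1 : y * t * y⁻¹ = t := by rw [hc'.eq, mul_inv_cancel_right]
  have e := h.prod
  rw [show y * y * t * (y * y)⁻¹ = y * (y * t * y⁻¹) * y⁻¹ by group, h1, h1, h.sq, one_mul] at e
  exact h.ne e

theorem eq_one_of_zpowers {c : G} (hc' : c ∈ Subgroup.zpowers y) (ht : c * t = t * c) : c = 1 := by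
  rcases zpowers_cases S hy hc' with e | e | e
  · exact e
  · exact absurd (show Commute y t by rw [← e]; exact ht) (not_commute hy h)
  · exfalso
    have hy3 : (y * y) * (y * y) = y := by
      rw [show y * y * (y * y) = y ^ 3 * y by simp [pow_succ, mul_assoc], y3 S hy, one_mul]
    refine not_commute hy h ?_
    have hh : Commute (y * y) t := by rw [← e]; exact ht
    rw [← hy3]; exact hh.mul_left hh

/-- The map to `C(y)/⟨y⟩`. -/
def lzQ (y t : G) : ↥(lz y t) →* CQ y := (toQ y).comp (Subgroup.inclusion inf_le_left)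

theorem lzQ_injective : Function.Injective (lzQ y t) := (injective_iff_map_eq_one _).2 fun c hc' =>
  Subtype.ext (eq_one_of_zpowers hy h (toQ_eq_one.1 hc') (mem_lz.1 c.2).2)

/-- Involutions of `C(y)` are conjugate to `z` there. -/
theorem exists_conj_z (hconj : ∀ a b : CQ y, orderOf a = 2 → orderOf b = 2 → IsConj a b) {i : G}
    (hi : i * y = y * i) (h1 : i * i = 1) (h2 : i ≠ 1) : ∃ k, k * y = y * k ∧ k * z * k⁻¹ = i := by
  haveI : Fact (Nat.Prime 2) := ⟨Nat.prime_two⟩
  set ic : ↥(cy y) := ⟨i, Subgroup.mem_centralizer_singleton_iff.2 hi⟩ with hic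
  have hne : toQ y ic ≠ 1 := fun e => by
    rw [toQ_eq_one] at e
    exact h2 (eq_one_of_pow S hy e (n := 2) (by norm_num) (by rw [pow_two]; exact h1))
  have ho : orderOf (toQ y ic) = 2 :=
    orderOf_eq_prime (by rw [← map_pow, pow_two, show ic * ic = 1 from Subtype.ext h1, map_one]) hne
  obtain ⟨gg, hgg⟩ := isConj_iff.1 (hconj _ _ (orderOf_zbar S hy) ho)
  obtain ⟨k, rfl⟩ := toQ_surjective y gg
  have hky : (k : G) * y = y * (k : G) := Subgroup.mem_centralizer_singleton_iff.1 k.2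
  refine ⟨k, hky, ?_⟩
  set a := (k : G) * z * (k : G)⁻¹ with ha
  have ha2 : a * a = 1 := by rw [ha, conj_mul, S.extra.z_sq]; group
  have hd : a * i⁻¹ ∈ Subgroup.zpowers y := by
    have e : toQ y (k * zc S hy * k⁻¹ * ic⁻¹) = 1 := by
      rw [map_mul, map_mul, map_mul, map_inv, map_inv]
      exact mul_inv_eq_one.2 hgg
    exact toQ_eq_one.1 e
  have hii : i⁻¹ = i := inv_eq_of_mul_eq_one_right h1
  have hcom : Commute (a * i⁻¹) i := by
    obtain ⟨n, hn⟩ := Subgroup.mem_zpowers_iff.1 hd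
    rw [← hn]; exact (show Commute y i from hi.symm).zpow_left n
  refine mul_inv_eq_one.1 (eq_one_of_pow S hy hd (n := 2) (by norm_num) ?_)
  have e := hcom.mul_pow 2
  rw [inv_mul_cancel_right, pow_two a, ha2, pow_two i, h1, mul_one] at e
  exact e.symm

variable (p : S.Pair u g) (hf : Form p t φ01 m02)
include p hf

/-- One class of involutions. -/
theorem lz_conj (hconj : ∀ a b : CQ y, orderOf a = 2 → orderOf b = 2 → IsConj a b) {i : G}
    (hi : i ∈ lz y t) (h1 : i * i = 1) (h2 : i ≠ 1) : ∃ k ∈ lz y t, k * z * k⁻¹ = i := by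
  obtain ⟨hiy, hit⟩ := mem_lz.1 hi
  obtain ⟨k, hky, hkz⟩ := exists_conj_z hy h hconj hiy h1 h2
  set t' := k⁻¹ * t * k with ht'
  have hky' : k⁻¹ * y = y * k⁻¹ := (Commute.inv_left hky).eq
  have htz : t' * z = z * t' := by
    calc t' * z = k⁻¹ * (t * (k * z * k⁻¹)) * k := by rw [ht']; group
      _ = k⁻¹ * ((k * z * k⁻¹) * t) * k := by rw [hkz, hit]
      _ = z * t' := by rw [ht']; group
  have h' : Four z y t' := by
    refine ⟨⟨?_, fun e => h.ne ?_, htz, fun e => h.cls (e.trans (isConj_iff.2 ⟨k, by rw [ht']; group⟩))⟩, ?_⟩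
    · rw [ht', show k⁻¹ * t * k * (k⁻¹ * t * k) = k⁻¹ * (t * t) * k by group, h.sq]; group
    · calc t = k * t' * k⁻¹ := by rw [ht']; group
        _ = 1 := by rw [e]; group
    · have h1 : Commute k⁻¹ y := hky'
      have e1 : y * t' * y⁻¹ = k⁻¹ * (y * t * y⁻¹) * k := by
        calc y * t' * y⁻¹ = (y * k⁻¹) * t * (y * k⁻¹)⁻¹ := by rw [ht']; group
          _ = _ := by rw [← hky']; group
      have e2 : y * y * t' * (y * y)⁻¹ = k⁻¹ * (y * y * t * (y * y)⁻¹) * k := by
        calc y * y * t' * (y * y)⁻¹ = (y * y * k⁻¹) * t * (y * y * k⁻¹)⁻¹ := by rw [ht']; group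
          _ = _ := by rw [← (h1.mul_right h1).eq]; group
      rw [e1, e2, ht', show k⁻¹ * t * k * (k⁻¹ * (y * t * y⁻¹) * k) * (k⁻¹ * (y * y * t * (y * y)⁻¹) * k) =
        k⁻¹ * (t * (y * t * y⁻¹) * (y * y * t * (y * y)⁻¹)) * k by group, h.prod, mul_one, inv_mul_cancel]
  obtain ⟨l, hl, hlt⟩ := conj_four p hy h hf h'
  obtain ⟨hlz, hly⟩ := mem_hc.1 hl
  refine ⟨k * l⁻¹, mem_lz.2 ⟨((show Commute k y from hky).mul_left (show Commute l y from hly).inv_left).eq, ?_⟩, ?_⟩
  · calc k * l⁻¹ * t = k * l⁻¹ * (l * t' * l⁻¹) := by rw [hlt]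
      _ = t * (k * l⁻¹) := by rw [ht']; group
  · rw [show k * l⁻¹ * z * (k * l⁻¹)⁻¹ = k * (l⁻¹ * (z * l)) * k⁻¹ by group, ← hlz, inv_mul_cancel_left, hkz]

theorem z_mem_lz : z ∈ lz y t := mem_lz.2 ⟨hy.yz.symm, h.tz.symm⟩

theorem centralizer_z_le {c : ↥(lz y t)} (hc' : Commute c ⟨z, z_mem_lz hy h p hf⟩) : (c : G) ∈ hct z y t :=
  mem_hct.2 ⟨congrArg Subtype.val hc'.eq, (mem_lz.1 c.2).1, (mem_lz.1 c.2).2⟩

/-- All the hypotheses of the recognition of `PSL(3, 4)`. -/
theorem lz_hyps (hconj : ∀ a b : CQ y, orderOf a = 2 → orderOf b = 2 → IsConj a b) :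
    ∃ zl : ↥(lz y t), (zl : G) = z ∧ orderOf zl = 2 ∧ CfsgLib.Recognition.CIT.IsCIT ↥(lz y t) ∧
      (∀ i : ↥(lz y t), orderOf i = 2 → IsConj zl i) ∧
      Nat.card (Subgroup.centralizer ({zl} : Set ↥(lz y t))) ≤ 64 ∧
      (∃ A : Subgroup ↥(lz y t), zl ∈ A ∧ Nat.card A = 8 ∧ (∀ a ∈ A, a * a = 1) ∧ IsMulCommutative A) ∧
      ∃ i j : ↥(lz y t), orderOf i = 2 ∧ orderOf j = 2 ∧ Commute i zl ∧ Commute j zl ∧ ¬ Commute i j := by
  classical
  haveI : Fact (Nat.Prime 2) := ⟨Nat.prime_two⟩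
  set zl : ↥(lz y t) := ⟨z, z_mem_lz hy h p hf⟩ with hzl
  have ho : ∀ {i : ↥(lz y t)}, orderOf i = 2 → (i : G) * i = 1 ∧ (i : G) ≠ 1 := fun {i} hi => by
    have e := pow_orderOf_eq_one i
    rw [hi, pow_two] at e
    refine ⟨congrArg Subtype.val e, fun e' => ?_⟩
    rw [show i = 1 from Subtype.ext e', orderOf_one] at hi
    norm_num at hi
  have hcon : ∀ i : ↥(lz y t), orderOf i = 2 → IsConj zl i := fun i hi => by
    obtain ⟨k, hk, e⟩ := lz_conj hy h p hf hconj i.2 (ho hi).1 (ho hi).2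
    exact isConj_iff.2 ⟨⟨k, hk⟩, Subtype.ext e⟩
  have hP : IsPGroup 2 (Subgroup.centralizer ({zl} : Set ↥(lz y t))) := by
    intro c
    have hm := mem_hct.1 (centralizer_z_le hy h p hf (Subgroup.mem_centralizer_singleton_iff.1 c.2))
    obtain ⟨k, hk⟩ := isPGroup_cent p h.toSecondClass hf ⟨((c : ↥(lz y t)) : G),
      Subgroup.mem_centralizer_singleton_iff.2 hm.1, Subgroup.mem_centralizer_singleton_iff.2 hm.2.2⟩
    exact ⟨k, Subtype.ext (Subtype.ext (by simpa using congrArg Subtype.val hk))⟩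
  have hcit : CfsgLib.Recognition.CIT.IsCIT ↥(lz y t) := by
    intro i hi
    obtain ⟨k, hk⟩ := isConj_iff.1 (hcon i hi)
    refine hP.of_injective
      (MonoidHom.codRestrict ((MulAut.conj k⁻¹).toMonoidHom.comp (Subgroup.centralizer ({i} : Set _)).subtype)
        (Subgroup.centralizer ({zl} : Set _)) fun c => ?_) fun a b e => ?_
    · rw [Subgroup.mem_centralizer_singleton_iff]
      have hc' := Subgroup.mem_centralizer_singleton_iff.1 c.2
      show k⁻¹ * (c : ↥(lz y t)) * k⁻¹⁻¹ * zl = zl * (k⁻¹ * (c : ↥(lz y t)) * k⁻¹⁻¹)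
      have hc'' : (c : ↥(lz y t)) * (k * zl * k⁻¹) = k * zl * k⁻¹ * (c : ↥(lz y t)) := by
        generalize (c : ↥(lz y t)) = c₀ at hc' ⊢
        rw [hk]
        exact hc'
      calc k⁻¹ * (c : ↥(lz y t)) * k⁻¹⁻¹ * zl = k⁻¹ * ((c : ↥(lz y t)) * (k * zl * k⁻¹)) * k := by group
        _ = _ := by rw [hc'']; group
    · exact Subtype.ext ((MulAut.conj k⁻¹).injective (congrArg Subtype.val e))
  refine ⟨zl, rfl, orderOf_eq_prime (Subtype.ext (by simp [hzl, pow_two, S.extra.z_sq]))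
    (fun e => S.extra.z_ne (congrArg Subtype.val e)), hcit, hcon, ?_, ?_, ?_⟩
  · refine le_trans ?_ (card_hct p hy h hf)
    refine Nat.card_le_card_of_injective
      (fun c : Subgroup.centralizer ({zl} : Set ↥(lz y t)) => (⟨_, centralizer_z_le hy h p hf
        (Subgroup.mem_centralizer_singleton_iff.1 c.2)⟩ : ↥(hct z y t))) fun a b e =>
      Subtype.ext (Subtype.ext (congrArg (fun x : ↥(hct z y t) => (x : G)) e))
  all_goals obtain ⟨a, b, ha, hb, ha2, ha1, hb2, hb1, hab, hu, hau, haz, hau', hauz⟩ := exists_witness p hy h hf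
  · have hl : ∀ {c : G}, c ∈ hct z y t → c ∈ lz y t := fun hc' =>
      mem_lz.2 ⟨(mem_hct.1 hc').2.1, (mem_hct.1 hc').2.2⟩
    have hzu : Commute z u := p.uz.symm
    have hza : Commute z a := (mem_hct.1 ha).1.symm
    have cz' : ∀ {w v : G}, Commute w v → ∀ i j, Commute (zp w i) (zp v j) := fun {w v} hwv i j => by
      rcases two_cases i with rfl | rfl <;> rcases two_cases j with rfl | rfl <;> simp [zp_zero, zp_one, hwv]
    have zadd : ∀ {w : G}, w * w = 1 → ∀ i j, zp w i * zp w j = zp w (i + j) := fun {w} hw i j => by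
      rcases two_cases i with rfl | rfl <;> rcases two_cases j with rfl | rfl <;>
        simp [zp_zero, zp_one, hw, CharTwo.add_self_eq_zero]
    have zm : ∀ {w : G}, w ∈ lz y t → ∀ i, zp w i ∈ lz y t := fun {w} hw i => by
      rcases two_cases i with rfl | rfl
      · rw [zp_zero]; exact one_mem _
      · rw [zp_one]; exact hw
    let F : Multiplicative (ZMod 2 × ZMod 2 × ZMod 2) →* ↥(lz y t) := MonoidHom.mk'
      (fun i => ⟨zp z i.toAdd.1 * zp u i.toAdd.2.1 * zp a i.toAdd.2.2,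
        mul_mem (mul_mem (zm (z_mem_lz hy h p hf) _) (zm (hl hu) _)) (zm (hl ha) _)⟩)
      fun i j => Subtype.ext (by
        simp only [Subgroup.coe_mul, toAdd_mul, Prod.fst_add, Prod.snd_add]
        rw [← zadd S.extra.z_sq, ← zadd p.uu, ← zadd ha2]
        symm
        calc zp z i.toAdd.1 * zp u i.toAdd.2.1 * zp a i.toAdd.2.2 * (zp z j.toAdd.1 * zp u j.toAdd.2.1 * zp a j.toAdd.2.2)
            = zp z i.toAdd.1 * (zp u i.toAdd.2.1 * zp a i.toAdd.2.2 * zp z j.toAdd.1) * zp u j.toAdd.2.1 * zp a j.toAdd.2.2 := by group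
          _ = zp z i.toAdd.1 * zp z j.toAdd.1 * zp u i.toAdd.2.1 * (zp a i.toAdd.2.2 * zp u j.toAdd.2.1) * zp a j.toAdd.2.2 := by
              rw [← ((cz' hzu _ _).mul_right (cz' hza _ _)).eq]; group
          _ = _ := by rw [(cz' hau _ _).eq]; group)
    have hinj : Function.Injective F := (injective_iff_map_eq_one F).2 fun i hi => by
      have e : zp z i.toAdd.1 * zp u i.toAdd.2.1 * zp a i.toAdd.2.2 = 1 := congrArg Subtype.val hi
      have huz : u * z ≠ 1 := fun e => p.u_ne_z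
        ((eq_inv_of_mul_eq_one_left e).trans (inv_eq_of_mul_eq_one_right S.extra.z_sq))
      apply Multiplicative.toAdd.injective
      obtain ⟨h1, h2, h3⟩ : i.toAdd.1 = 0 ∧ i.toAdd.2.1 = 0 ∧ i.toAdd.2.2 = 0 := by
        rcases two_cases i.toAdd.1 with e1 | e1 <;> rcases two_cases i.toAdd.2.1 with e2 | e2 <;>
          rcases two_cases i.toAdd.2.2 with e3 | e3 <;>
          simp only [e1, e2, e3, zp_zero, zp_one, one_mul, mul_one] at e
        · exact ⟨e1, e2, e3⟩
        · exact absurd e ha1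
        · exact absurd e p.u_ne
        · exact absurd (eq_inv_of_mul_eq_one_left e) (fun e' => hau' (by
            rw [inv_eq_of_mul_eq_one_right ha2] at e'; exact e'.symm))
        · exact absurd e S.extra.z_ne
        · exact absurd (eq_inv_of_mul_eq_one_left e) (fun e' => haz (by
            rw [inv_eq_of_mul_eq_one_right ha2] at e'; exact e'.symm))
        · exact absurd (p.uz.trans e) huz
        · exact absurd (eq_inv_of_mul_eq_one_left e) (fun e' => hauz (by
            rw [inv_eq_of_mul_eq_one_right ha2] at e'; rw [p.uz]; exact e'.symm))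
      exact Prod.ext h1 (Prod.ext h2 h3)
    refine ⟨F.range, ⟨Multiplicative.ofAdd (1, 0, 0), Subtype.ext (by simp [F, hzl, zp_zero, zp_one])⟩, ?_, ?_, ?_⟩
    · rw [← Nat.card_congr (MonoidHom.ofInjective hinj).toEquiv, Nat.card_congr Multiplicative.toAdd]
      simp [Nat.card_prod]
    · rintro _ ⟨i, rfl⟩
      rw [← map_mul, show i * i = 1 from Multiplicative.toAdd.injective (by
        refine Prod.ext (CharTwo.add_self_eq_zero _) (Prod.ext (CharTwo.add_self_eq_zero _)
          (CharTwo.add_self_eq_zero _))), map_one]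
    · refine ⟨⟨fun x x' => ?_⟩⟩
      obtain ⟨_, i, rfl⟩ := x
      obtain ⟨_, j, rfl⟩ := x'
      exact Subtype.ext ((map_mul F i j).symm.trans ((congrArg F (mul_comm i j)).trans (map_mul F j i)))
  · have hl : ∀ {c : G}, c ∈ hct z y t → c ∈ lz y t := fun hc' =>
      mem_lz.2 ⟨(mem_hct.1 hc').2.1, (mem_hct.1 hc').2.2⟩
    refine ⟨⟨a, hl ha⟩, ⟨b, hl hb⟩, orderOf_eq_prime (Subtype.ext (by simp [pow_two, ha2]))
      (fun e => ha1 (congrArg Subtype.val e)), orderOf_eq_prime (Subtype.ext (by simp [pow_two, hb2]))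
      (fun e => hb1 (congrArg Subtype.val e)), Subtype.ext (mem_hct.1 ha).1, Subtype.ext (mem_hct.1 hb).1,
      fun e => hab (congrArg Subtype.val e.eq)⟩

end CfsgLib.Characterizations.SuzType.Seven
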