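import Cfsg.Agent.Lib.Involution.StronglyEmbedded

/-!
# No strongly embedded subgroup of order 20160

A subgroup of order `20160` containing the centralisers of its involutions, with one class of
involutions of centraliser order `64` and a self-centralising element of order five, is the whole
group: otherwise the intersection with a conjugate would have order `315` and a self-centralising
Sylow 5-subgroup.
-/

set_option autoImplicit false

namespace CfsgLib.Characterizations.SuzType.Seven

open Subgroup CfsgLib.Involution.SE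

/-- The size of the orbit of `s` under conjugation by `K`. -/
theorem card_conjOrbit_mul {H : Type*} [Group H] (K : Subgroup H) (s : H) :
    Nat.card {t : H // ∃ k ∈ K, k * s * k⁻¹ = t} *
      Nat.card ↥(centralizer ({s} : Set H) ⊓ K) = Nat.card K := by
  set S : Subgroup K := (centralizer ({s} : Set H)).subgroupOf K with hS
  have hrel : ∀ a b : K, (a : H) * s * (a : H)⁻¹ = (b : H) * s * (b : H)⁻¹ ↔ a⁻¹ * b ∈ S := by
    intro a b
    rw [hS, mem_subgroupOf, mem_centralizer_singleton_iff]
    push_cast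
    constructor
    · intro e
      calc (a : H)⁻¹ * b * s = (a : H)⁻¹ * (b * s * (b : H)⁻¹) * b := by group
        _ = s * ((a : H)⁻¹ * b) := by rw [← e]; group
    · intro e
      calc (a : H) * s * (a : H)⁻¹ = a * (s * ((a : H)⁻¹ * b)) * (b : H)⁻¹ := by group
        _ = (b : H) * s * (b : H)⁻¹ := by rw [← e]; group
  let f : K ⧸ S → {t : H // ∃ k ∈ K, k * s * k⁻¹ = t} :=
    Quotient.lift (fun a : K => ⟨(a : H) * s * (a : H)⁻¹, a, a.2, rfl⟩)
      (fun a b h => Subtype.ext ((hrel a b).2 (QuotientGroup.leftRel_apply.1 h)))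
  have hf : Function.Bijective f := by
    constructor
    · intro p q e
      induction p using QuotientGroup.induction_on with
      | H a =>
        induction q using QuotientGroup.induction_on with
        | H b => exact QuotientGroup.eq.2 ((hrel a b).1 (congrArg Subtype.val e))
    · rintro ⟨t, k, hk, e⟩
      exact ⟨((⟨k, hk⟩ : K) : K ⧸ S), Subtype.ext e⟩
  rw [← Nat.card_congr (Equiv.ofBijective f hf), S.card_eq_card_quotient_mul_card_subgroup]
  congr 1
  rw [hS, ← card_map_of_injective K.subtype_injective, subgroupOf_map_subtype]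

/-- A group of order `315` has no self-centralising element of order five. -/
theorem not_selfcent_five {K : Type*} [Group K] [Finite K] (hK : Nat.card K = 315)
    (h5 : ∀ b g : K, orderOf b = 5 → Commute g b → g ∈ zpowers b) : False := by
  haveI : Fact (Nat.Prime 5) := ⟨by norm_num⟩
  obtain ⟨b, hb⟩ := exists_prime_orderOf_dvd_card' (G := K) 5 (by rw [hK]; norm_num)
  have hfac : (Nat.card K).factorization 5 = 1 := by
    rw [hK]
    have h1 : (315 : ℕ) = 5 ^ 1 * 63 := by norm_num
    rw [h1, Nat.factorization_mul (by norm_num) (by norm_num), Finsupp.add_apply,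
      Nat.Prime.factorization_pow (by norm_num), Finsupp.single_eq_same,
      Nat.factorization_eq_zero_of_not_dvd (by norm_num : ¬ 5 ∣ 63)]
  let P : Sylow 5 K := Sylow.ofCard (zpowers b) (by rw [hfac, Nat.card_zpowers, hb]; norm_num)
  have hPb : (P : Subgroup K) = zpowers b := rfl
  have hN : normalizer ((P : Subgroup K) : Set K) = zpowers b := by
    refine le_antisymm (fun g hg => ?_) (hPb ▸ le_normalizer)
    rw [hPb] at hg
    have hc := (mem_normalizer_iff.1 hg b).1 (mem_zpowers b)
    have hbf : IsOfFinOrder b := orderOf_pos_iff.1 (by rw [hb]; norm_num)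
    obtain ⟨k, hk'⟩ := hbf.mem_powers_iff_mem_zpowers.2 hc
    have hk : g * b * g⁻¹ = b ^ k := hk'.symm
    have hiter : ∀ m : ℕ, g ^ m * b * (g ^ m)⁻¹ = b ^ (k ^ m) := by
      intro m
      induction m with
      | zero => simp
      | succ m ih =>
        calc g ^ (m + 1) * b * (g ^ (m + 1))⁻¹ = g * (g ^ m * b * (g ^ m)⁻¹) * g⁻¹ := by
              rw [pow_succ']; group
          _ = (g * b * g⁻¹) ^ (k ^ m) := by rw [ih, conj_pow]
          _ = b ^ (k ^ (m + 1)) := by rw [hk, ← pow_mul, pow_succ']
    have hk5 : ¬ 5 ∣ k := by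
      rintro ⟨j, rfl⟩
      rw [pow_mul, show b ^ 5 = 1 from hb ▸ pow_orderOf_eq_one b, one_pow, mul_inv_eq_one] at hk
      have h1 : b = 1 := mul_left_cancel (hk.trans (mul_one g).symm)
      rw [h1, orderOf_one] at hb
      omega
    have h4 : b ^ (k ^ 4) = b := by
      rw [← pow_mod_orderOf, hb, Nat.pow_mod]
      have : k % 5 = 1 ∨ k % 5 = 2 ∨ k % 5 = 3 ∨ k % 5 = 4 := by omega
      rcases this with e | e | e | e <;> simp [e]
    have hg4 : g ^ 4 ∈ zpowers b := h5 b _ hb (by
      have := hiter 4
      rw [h4, mul_inv_eq_iff_eq_mul] at this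
      exact this)
    have hcop : (4 : ℕ).Coprime (orderOf g) :=
      Nat.Coprime.coprime_dvd_right (orderOf_dvd_natCard g) (by rw [hK]; norm_num)
    obtain ⟨m, hm⟩ := exists_pow_eq_self_of_coprime hcop
    rw [← hm]
    exact pow_mem hg4 m
  have h63 : Nat.card (Sylow 5 K) = 63 := by
    rw [P.card_eq_index_normalizer,
      show normalizer (P : Set K) = zpowers b from hN]
    have := (zpowers b).card_mul_index
    rw [Nat.card_zpowers, hb, hK] at this
    omega
  have := card_sylow_modEq_one 5 K
  rw [h63] at this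
  exact absurd this (by decide)

/-- A subgroup of order `20160` containing the centralisers of its involutions is the whole
group. -/
theorem eq_top_of_card_20160 {H : Type*} [Group H] [Finite H] (M : Subgroup H)
    (hM : Nat.card M = 20160)
    (hC : ∀ i ∈ M, orderOf i = 2 → Subgroup.centralizer ({i} : Set H) ≤ M)
    (hconj : ∀ i ∈ M, ∀ j ∈ M, orderOf i = 2 → orderOf j = 2 → ∃ m ∈ M, m * i * m⁻¹ = j)
    (hcz : ∀ i ∈ M, orderOf i = 2 → Nat.card ↥(Subgroup.centralizer ({i} : Set H) ⊓ M) = 64)
    (h5 : ∀ b ∈ M, orderOf b = 5 →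
      Subgroup.centralizer ({b} : Set H) ⊓ M = Subgroup.zpowers b) : M = ⊤ := by
  by_contra hne
  have hSE : Cfsg.IsStronglyEmbedded M := by
    refine ⟨hne, by rw [hM]; exact ⟨10080, by norm_num⟩, fun g hg => ?_⟩
    rw [← Nat.not_even_iff_odd]
    intro he
    obtain ⟨x, hx, hx2⟩ := CfsgLib.Involution.Basic.exists_involution_of_even _ he
    obtain ⟨hxM, y, hy, hxy⟩ := hx
    have hxy' : g * y * g⁻¹ = x := hxy
    have hy2 : orderOf y = 2 := by
      rw [← hxy', CfsgLib.Involution.Dihedral.orderOf_conj] at hx2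
      exact hx2
    obtain ⟨m, hm, hmy⟩ := hconj x hxM y hy hx2 hy2
    apply hg
    have hgm : g * m ∈ M := hC x hxM hx2 (mem_centralizer_singleton_iff.2 (by
      calc g * m * x = g * (m * x * m⁻¹) * g⁻¹ * (g * m) := by group
        _ = x * (g * m) := by rw [hmy, hxy']))
    have := M.mul_mem hgm (M.inv_mem hm)
    rwa [mul_inv_cancel_right] at this
  obtain ⟨s, hs, hs2⟩ := CfsgLib.Involution.Basic.exists_involution_of_even M hSE.2.1
  obtain ⟨u, hu, huM⟩ : ∃ u : H, orderOf u = 2 ∧ u ∉ M := by
    obtain ⟨c, hc⟩ : ∃ c : H, c ∉ M := by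
      by_contra h
      push Not at h
      exact hne (eq_top_iff.2 fun z _ => h z)
    refine ⟨c * s * c⁻¹, (CfsgLib.Involution.Dihedral.orderOf_conj c s).trans hs2, fun h => ?_⟩
    exact hc (mem_of_conj_mem hSE hs hs2 h)
  set D : Subgroup H := M ⊓ M.map (MulAut.conj u).toMonoidHom with hD
  have hodd : Odd (Nat.card D) := hSE.2.2 u huM
  have horb : Nat.card {t : H // ∃ k ∈ M, k * s * k⁻¹ = t} = 315 := by
    have h1 := card_conjOrbit_mul M s
    rw [hM, hcz s hs hs2] at h1
    omega
  have heq : Nat.card {t : H // ∃ k ∈ D, k * s * k⁻¹ = t} = 315 := by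
    rw [← horb]
    refine Nat.card_congr (Equiv.subtypeEquivRight fun t => ⟨?_, ?_⟩)
    · rintro ⟨k, hk, e⟩; exact ⟨k, hk.1, e⟩
    · rintro ⟨k, hk, e⟩
      exact transitive_pair hSE hu huM hs2 hs
        (e ▸ (CfsgLib.Involution.Dihedral.orderOf_conj k s).trans hs2)
        (e ▸ M.mul_mem (M.mul_mem hk hs) (M.inv_mem hk))
  have hdiv : 315 ∣ Nat.card D := ⟨_, (heq ▸ card_conjOrbit_mul D s).symm⟩
  have hD315 : Nat.card D = 315 := by
    refine Nat.dvd_antisymm ?_ hdiv
    have h1 : Nat.card D ∣ 2 ^ 6 * 315 := by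
      have := card_dvd_of_le (inf_le_left : D ≤ M)
      rw [hM] at this
      norm_num
      exact this
    exact (Nat.Coprime.pow_right 6 (Nat.coprime_two_right.2 hodd)).dvd_of_dvd_mul_left h1
  refine not_selfcent_five hD315 fun b g hb hgb => ?_
  have hb' : orderOf (b : H) = 5 := by rw [orderOf_coe, hb]
  have hg : (g : H) ∈ centralizer ({(b : H)} : Set H) ⊓ M :=
    ⟨mem_centralizer_singleton_iff.2 (congrArg Subtype.val hgb), g.2.1⟩
  rw [h5 b b.2.1 hb'] at hg
  obtain ⟨k, hk⟩ := mem_zpowers_iff.1 hg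
  exact mem_zpowers_iff.2 ⟨k, Subtype.ext (by simpa using hk)⟩

end CfsgLib.Characterizations.SuzType.Seven
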