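import Cfsg.Agent.Lib.Characterizations.SuzType.Three.Model
import Cfsg.Agent.Lib.Characterizations.SuzType.Pair

/-!
# Finite facts about the second class of involutions at a fixed singular point
-/

set_option autoImplicit false
set_option maxRecDepth 100000
set_option synthInstance.maxSize 4096
set_option synthInstance.maxHeartbeats 400000

namespace CfsgLib.Characterizations.SuzType.Seven

open CfsgLib.Characterizations.SuzType.Three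

/-- The rotated parameter. -/
def rot (φ : W5) : W5 := fun i => φ (τ0⁻¹ i)

/-- The parameter `f₁₂`. -/
def φ12 : W5 := ![0, 1, 1, 0, 0]

theorem rot_facts : rot φ01 = φ12 ∧ rot φ12 = m02 ∧ rot m02 = φ01 ∧ φ01 + φ12 = m02 ∧ Ev φ12 ∧ m02 + φ01 = φ12 := by
  decide +kernel

theorem rot_ev : ∀ φ : W5, Ev φ → Ev (rot φ) ∧ qe (rot φ) = qe φ := by decide +kernel

theorem perp_T0 : ∀ v : V, B v (T0 v) = 0 → T0 v = v := by decide +kernel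

theorem t_point : ∀ v : V, q (M 1 φ01 v + v) = 0 → M 1 φ01 v + v = 0 ∨ M 1 φ01 v + v = u0 := by decide +kernel

theorem t_point_attained : ∃ v : V, M 1 φ01 v + v = u0 := by decide +kernel

theorem moving_second : ∀ σ : Equiv.Perm (Fin 5), σ * σ = 1 → Equiv.Perm.sign σ = 1 → σ ≠ 1 → ∀ φ : W5, Ev φ →
    (∀ i, φ (σ⁻¹ i) = φ i) →
    ∃ v : V, q (M σ φ v + v) = 0 ∧ M σ φ v + v ≠ 0 ∧ M σ φ v + v ≠ u0 := by decide +kernel

theorem orientation : ∀ φ m : W5, Ev φ → Ev m → qe φ = 1 → qe m = 1 → dot m φ = 1 →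
    φ + rot φ + rot (rot φ) = 0 → m + rot m + rot (rot m) = 0 →
    ((φ = φ01 ∧ (m = m02 ∨ m = φ12)) ∨ (φ = φ12 ∧ (m = φ01 ∨ m = m02)) ∨ (φ = m02 ∧ (m = φ12 ∨ m = φ01))) := by
  decide +kernel

theorem fix_012 : ∀ σ : Equiv.Perm (Fin 5), Equiv.Perm.sign σ = 1 → (∀ i, φ01 (σ⁻¹ i) = φ01 i) →
    (∀ i, φ12 (σ⁻¹ i) = φ12 i) → σ = 1 := by decide +kernel

theorem fix_01_odd : ∀ σ : Equiv.Perm (Fin 5), (∀ i, φ01 (σ⁻¹ i) = φ01 i) →
    (∀ i, m02 (σ⁻¹ i) = m02 i) → σ ^ 2 = 1 := by decide +kernel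

/-- The `u`-exponent of a commutator. -/
def cu (φ m φ' m' : W5) : ZMod 2 := dot φ φ' + dot m φ' + dot m' φ

/-- The `z`-exponent of a commutator. -/
def cz (φ m φ' m' : W5) : ZMod 2 := dot m m' + dot m φ' + dot m' φ

theorem cent_four : ∀ φ m : W5, Ev φ → Ev m → cz φ m φ01 m02 = 0 → cu φ m φ01 m02 = 0 → cz φ m φ12 φ01 = 0 →
    cu φ m φ12 φ01 = 0 →
    ∃ a b : ZMod 2, rot (φ + (a • φ01 + b • φ12)) = φ + (a • φ01 + b • φ12) ∧
      rot (m + (a • m02 + b • φ01)) = m + (a • m02 + b • φ01) := by decide +kernel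

theorem std_commute : cz φ01 m02 φ12 φ01 = 0 ∧ cu φ01 m02 φ12 φ01 = 0 := by decide +kernel

theorem y0_fixed : T0 y0 = y0 ∧ co y0 = 0 ∧ y0 5 = 1 ∧ q y0 = 0 ∧ B u0 y0 = 1 := by decide +kernel

theorem fixed_pts : T0 (P (pt 3)) = P (pt 3) ∧ T0 (P (pt 4)) = P (pt 4) ∧ q (P (pt 3)) = 0 ∧ q (P (pt 4)) = 0 ∧
    B (P (pt 3)) (P (pt 4)) = 1 ∧ P (pt 3) ≠ 0 ∧ P (pt 4) ≠ 0 ∧ P (pt 3) ≠ u0 ∧ cz φ01 m02 0 (pt 3) = 0 ∧
    cu φ01 m02 0 (pt 3) = 0 ∧ cz φ01 m02 0 (pt 4) = 0 ∧ cu φ01 m02 0 (pt 4) = 0 := by decide +kernel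

end CfsgLib.Characterizations.SuzType.Seven
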