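import Cfsg.Agent.Lib.Characterizations.SuzType.Seven.FiveModel
import Cfsg.Agent.Lib.Characterizations.SuzType.Three.Quot
import Cfsg.Agent.Lib.Derangements.DihedralHom
import Cfsg.Agent.Lib.Involution.ZStar.Basic
import Cfsg.Agent.S3035

/-!
# The centraliser of an element of order five commuting with `z`

`C(z, r) = ⟨r⟩ × D₈` and `C(r)/⟨r⟩` is `L₃(2)` or `A₆`.
-/

set_option autoImplicit false
set_option linter.unusedSectionVars false
set_option linter.style.haveILetI false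

namespace CfsgLib.Characterizations.SuzType.Seven

open CfsgLib.Characterizations.SuzType.Three Suz

variable {G : Type*} [Group G] [Finite G] {z : G} {Q : Subgroup G} {π : G → V}

/-- An element of order five of `C(z)` acting as `T5`. -/
structure IsFive (S : Suz z Q π) (r : G) : Prop where
  ord : orderOf r = 5
  rz : r * z = z * r
  act : ∀ v, S.act r v = T5 v

/-- A member of `⟨r⟩` of trivial square is trivial. -/
theorem eq_one_of_sq {r t : G} (hr : r ^ 5 = 1) (ht : t ∈ Subgroup.zpowers r) (h2 : t * t = 1) :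
    t = 1 := by
  obtain ⟨k, rfl⟩ := Subgroup.mem_zpowers_iff.1 ht
  have h5 : (r ^ k) ^ 5 = 1 := by
    rw [← zpow_natCast, zpow_comm, zpow_natCast, hr, one_zpow]
  calc r ^ k = (r ^ k) ^ 5 * ((r ^ k * r ^ k) * (r ^ k * r ^ k))⁻¹ := by group
    _ = 1 := by rw [h5, h2]; simp

/-- An element normalising `⟨r⟩` has fourth power centralising `r`. -/
theorem pow_four_commute {r h : G} (hr : orderOf r = 5) (hh : h * r * h⁻¹ ∈ Subgroup.zpowers r) :
    h ^ 4 * r = r * h ^ 4 := by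
  have hrf : IsOfFinOrder r := orderOf_pos_iff.1 (by rw [hr]; norm_num)
  obtain ⟨k, hk'⟩ := hrf.mem_powers_iff_mem_zpowers.2 hh
  have hk : h * r * h⁻¹ = r ^ k := hk'.symm
  have hiter : ∀ m : ℕ, h ^ m * r * (h ^ m)⁻¹ = r ^ (k ^ m) := by
    intro m
    induction m with
    | zero => simp
    | succ m ih =>
      calc h ^ (m + 1) * r * (h ^ (m + 1))⁻¹ = h * (h ^ m * r * (h ^ m)⁻¹) * h⁻¹ := by
            rw [pow_succ']; group
        _ = (h * r * h⁻¹) ^ (k ^ m) := by rw [ih, _root_.conj_pow]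
        _ = r ^ (k ^ (m + 1)) := by rw [hk, ← pow_mul, pow_succ']
  have hk5 : k % 5 ≠ 0 := by
    intro hk0
    rw [← pow_mod_orderOf, hr, hk0, pow_zero, conj_eq_one_iff] at hk
    rw [hk, orderOf_one] at hr
    omega
  have h4 : r ^ (k ^ 4) = r := by
    rw [← pow_mod_orderOf, hr, Nat.pow_mod]
    have : k % 5 = 1 ∨ k % 5 = 2 ∨ k % 5 = 3 ∨ k % 5 = 4 := by omega
    rcases this with e | e | e | e <;> simp [e]
  have := hiter 4
  rw [h4, mul_inv_eq_iff_eq_mul] at this
  exact this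

variable (S : Suz z Q π)
include S

theorem act_pow {c : G} (hc : c * z = z * c) (n : ℕ) (v : V) : S.act (c ^ n) v = (S.act c)^[n] v := by
  induction n generalizing v with
  | zero => rw [pow_zero, S.act_one]; rfl
  | succ n ih =>
    rw [pow_succ, S.act_mul (Commute.pow_left hc n).eq hc, ih, Function.iterate_succ_apply]

theorem exists_five : ∃ r, IsFive S r := by
  obtain ⟨u, g, p⟩ := S.exists_pair
  obtain ⟨c, hc, -, ψ, hψ, hf⟩ := p.exists_lift c5_facts.1
  obtain ⟨e, he, hef⟩ := p.exists_sie hψ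
  have hez := (p.sie_comm he).1
  set d := e * c with hdd
  have hd : ∀ v, S.act d v = T5 v := fun v => by
    rw [hdd, S.act_mul hez hc, form_comp (S.act_iso hez) (S.act_iso hc) hψ hψ hef hf v, one_mul]
    simp [add_self_W, T5]
  have hdz : d * z = z * d := Three.mul_cz S hez hc
  have hd5 : ∀ v, (S.act d)^[5] v = v := fun v => by
    simp only [Function.iterate_succ_apply', Function.iterate_zero_apply, hd]
    exact T5_five v
  have h5Q : d ^ 5 ∈ Q := S.mem_of_act_id (Commute.pow_left hdz 5).eq fun v => by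
    rw [act_pow S hdz, hd5]
  have hr5 : (d ^ 16) ^ 5 = 1 := by
    rw [← pow_mul, show 16 * 5 = 5 * 2 * 8 by norm_num, pow_mul, pow_mul]
    rcases S.extra.sq_cases h5Q with e' | e' <;> rw [pow_two, e']
    · exact one_pow 8
    · rw [show (8 : ℕ) = 2 * 4 from rfl, pow_mul, pow_two, S.extra.z_sq, one_pow]
  have hact : ∀ v, S.act (d ^ 16) v = T5 v := fun v => by
    rw [act_pow S hdz, show (16 : ℕ) = 1 + (5 + (5 + 5)) from rfl, Function.iterate_add_apply,
      Function.iterate_add_apply, Function.iterate_add_apply, hd5, hd5, hd5]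
    exact hd v
  refine ⟨d ^ 16, ?_, (Commute.pow_left hdz 16).eq, hact⟩
  have : Fact (Nat.Prime 5) := ⟨by norm_num⟩
  refine orderOf_eq_prime hr5 fun e' => ?_
  obtain ⟨v, hv⟩ := T5_moves
  exact hv (by rw [← hact, e', S.act_one])

/-- No element of `C(z)` acts as the transvection at `s0`. -/
theorem not_transvection {c : G} (hc : c * z = z * c) (h : ∀ v, S.act c v = trans s0 v) : False := by
  obtain ⟨u, g, p⟩ := S.exists_pair
  have hev : Ev φ01 := std_facts.1
  obtain ⟨e, he, hef⟩ := p.exists_sie hev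
  have hez := (p.sie_comm he).1
  have h1 := p.form_even (τ := Equiv.swap 0 1) (c := c * (e * (c * (e * c))))
    (Three.mul_cz S hc (Three.mul_cz S hez (Three.mul_cz S hc (Three.mul_cz S hez hc)))) hev (fun v => by
      rw [S.act_mul hc (Three.mul_cz S hez (Three.mul_cz S hc (Three.mul_cz S hez hc))),
        S.act_mul hez (Three.mul_cz S hc (Three.mul_cz S hez hc)), S.act_mul hc (Three.mul_cz S hez hc),
        S.act_mul hez hc, h, hef, h, hef, h]
      exact trans_word v)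
  rw [Equiv.Perm.sign_swap (by decide)] at h1
  exact absurd h1 (by decide)

variable {r : G} (hr : IsFive S r)
include hr

theorem r5 : r ^ 5 = 1 := hr.ord ▸ pow_orderOf_eq_one r

/-- `r` centralises every element of `Q` whose image it fixes. -/
theorem five_comm {x : G} (hx : x ∈ Q) (h : T5 (π x) = π x) : r * x = x * r := by
  rw [← hr.act, S.act_π hr.rz hx] at h
  rcases S.π_eq hx (S.norm r hr.rz x hx) h.symm with e | e
  · exact mul_inv_eq_iff_eq_mul.1 e
  · exfalso
    have hzc : r * z * r⁻¹ = z := by rw [hr.rz, mul_inv_cancel_right]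
    have e2 : r * (r * x * r⁻¹) * r⁻¹ = x := by
      rw [e, show r * (x * z) * r⁻¹ = r * x * r⁻¹ * (r * z * r⁻¹) by group, e, hzc, mul_assoc,
        S.extra.z_sq, mul_one]
    have e5 : r ^ 5 * x * (r ^ 5)⁻¹ = r * x * r⁻¹ := by
      rw [show r ^ 5 * x * (r ^ 5)⁻¹ =
        r * (r * (r * (r * (r * x * r⁻¹) * r⁻¹) * r⁻¹) * r⁻¹) * r⁻¹ by simp [pow_succ, mul_assoc], e2, e2]
    rw [r5 S hr, one_mul, inv_one, mul_one, e] at e5
    exact S.extra.z_ne (mul_eq_left.1 e5.symm)

theorem mem_kq_five {x : G} : x ∈ kq Q r ↔ x ∈ Q ∧ T5 (π x) = π x := by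
  rw [kq, Subgroup.mem_inf, Subgroup.mem_centralizer_singleton_iff, ← hr.act]
  refine and_congr_right fun hx => ⟨fun h => ?_, fun h => ?_⟩
  · rw [S.act_π hr.rz hx, ← h, mul_inv_cancel_right]
  · rw [hr.act] at h
    exact (five_comm S hr hx h).symm

theorem z_mem_five : z ∈ kq Q r := (mem_kq_five S hr).2 ⟨S.extra.z_mem, by
  rw [S.π_z]; exact (T5_fixed 0).2 (Or.inl rfl)⟩

/-- `C(z, r) = ⟨r⟩ C_Q(r)`. -/
theorem exists_split {c : G} (hcz : c * z = z * c) (hcr : c * r = r * c) :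
    ∃ (d : G) (k : ℕ), d ∈ kq Q r ∧ c = d * r ^ k := by
  have hcomm : ∀ v, S.act c (T5 v) = T5 (S.act c v) := fun v => by
    rw [← hr.act, ← hr.act, ← S.act_mul hcz hr.rz, hcr, S.act_mul hr.rz hcz]
  have hi := S.act_iso hcz
  have key : ∀ f : V → V, Iso f → (∀ v, f (T5 v) = T5 (f v)) → f u0 = u0 →
      ∃ k : ℕ, ∀ v, f v = S.act (r ^ k) v := by
    intro f hf hfc hu
    obtain ⟨σ, φ, hφ, hform⟩ := exists_form hf hu
    have hT : Iso T5 := by
      have := S.act_iso hr.rz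
      rwa [show S.act r = T5 from funext hr.act] at this
    have h1 := form_comp hf hT hφ ev_zero hform (fun v => rfl)
    have h2 := form_comp hT hf ev_zero hφ (fun v => rfl) hform
    have hev : Ev (fun i => φ (c5⁻¹ i)) := ev_perm hφ _
    obtain ⟨hσ, hφ'⟩ := M_unique (σ := σ * c5) (τ := c5 * σ) (φ := φ) (ψ := fun i => φ (c5⁻¹ i)) hφ hev
      (fun v => by
        have e1 := h1 v
        have e2 := h2 v
        rw [hfc, e2] at e1
        simp only [Pi.zero_apply, add_zero] at e1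
        rw [show ((fun _ => 0) + φ : W5) = φ from zero_add φ] at e1
        exact e1.symm)
    have hφ0 : φ = 0 := const_param φ hφ fun i => (congrFun hφ' i).symm
    subst hφ0
    have hpow : ∀ (n : ℕ) v, S.act (r ^ n) v = M (c5 ^ n) 0 v := by
      intro n
      induction n with
      | zero => intro v; rw [pow_zero, pow_zero, S.act_one, evM_zero]
      | succ n ih =>
        intro v
        have hn : r ^ n * z = z * r ^ n := (Commute.pow_left hr.rz n).eq
        rw [pow_succ, pow_succ, S.act_mul hn hr.rz,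
          form_comp (S.act_iso hn) (S.act_iso hr.rz) ev_zero ev_zero ih (fun v => hr.act v)]
        exact congrArg (fun ψ => M (c5 ^ n * c5) ψ v) (add_zero _)
    rcases c5_comm σ hσ with e | e | e | e | e <;> subst e
    · exact ⟨0, fun v => by rw [hform, hpow, pow_zero]⟩
    · exact ⟨1, fun v => by rw [hform, hpow, pow_one]⟩
    · exact ⟨2, fun v => by rw [hform, hpow]⟩
    · exact ⟨3, fun v => by rw [hform, hpow]⟩
    · exact ⟨4, fun v => by rw [hform, hpow]⟩
  have hfix : T5 (S.act c u0) = S.act c u0 := by rw [← hcomm, fixed_facts.2.2.2.2.2.2.2.2.1]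
  have finish : ∀ k : ℕ, (∀ v, S.act c v = S.act (r ^ k) v) → ∃ (d : G) (k : ℕ), d ∈ kq Q r ∧ c = d * r ^ k := by
    intro k hk
    refine ⟨c * (r ^ k)⁻¹, k, ?_, (inv_mul_cancel_right c _).symm⟩
    have hkz : r ^ k * z = z * r ^ k := (Commute.pow_left hr.rz k).eq
    have hkzi := (Commute.inv_left hkz).eq
    refine ⟨S.mem_of_act_id (Three.mul_cz S hcz hkzi) fun v => ?_, ?_⟩
    · rw [S.act_mul hcz hkzi, hk, S.act_act_inv hkz]
    · exact Subgroup.mem_centralizer_singleton_iff.2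
        (Commute.mul_left hcr ((Commute.refl r).pow_left k).inv_left).eq
  rcases (T5_fixed _).1 hfix with e | e | e | e
  · exact absurd (hi.inj (e.trans hi.map_zero.symm)) fixed_facts.2.2.2.2.1
  · obtain ⟨k, hk⟩ := key _ hi hcomm e
    exact finish k hk
  · exfalso
    have hs : Iso (trans s0) := trans_iso fixed_facts.2.2.1
    obtain ⟨k, hk⟩ := key (trans s0 ∘ S.act c) (hs.comp hi)
      (fun v => by simp only [Function.comp_apply, hcomm, (T5_trans _).1])
      (by rw [Function.comp_apply, e, fixed_facts.2.2.2.2.2.2.2.2.2.2.2])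
    have hkz : r ^ k * z = z * r ^ k := (Commute.pow_left hr.rz k).eq
    have hkzi := (Commute.inv_left hkz).eq
    refine not_transvection S (c := c * (r ^ k)⁻¹) (Three.mul_cz S hcz hkzi) fun v => ?_
    rw [S.act_mul hcz hkzi]
    have h := hk (S.act (r ^ k)⁻¹ v)
    rw [S.act_act_inv hkz, Function.comp_apply] at h
    conv_rhs => rw [← h]
    exact (T5_trans _).2.symm
  · have h := hi.quad u0
    rw [e, fixed_facts.1, fixed_facts.2.2.1] at h
    exact absurd h (by decide)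

/-- `C_Q(r)` is dihedral of order eight. -/
theorem kq_dihedral : Nonempty (DihedralGroup 4 ≃* ↥(kq Q r)) := by
  obtain ⟨hqu, hqy, hqs, -, hu0, hy0, hs0, -⟩ := fixed_facts
  have ha : S.sec s0 ∈ kq Q r := (mem_kq_five S hr).2 ⟨S.sec_mem _, by
    rw [S.π_sec]; exact (T5_fixed s0).2 (by simp)⟩
  have hb : S.sec u0 ∈ kq Q r := (mem_kq_five S hr).2 ⟨S.sec_mem _, by
    rw [S.π_sec]; exact (T5_fixed u0).2 (by simp)⟩
  set a : ↥(kq Q r) := ⟨S.sec s0, ha⟩
  set b : ↥(kq Q r) := ⟨S.sec u0, hb⟩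
  set zk : ↥(kq Q r) := ⟨z, z_mem_five S hr⟩
  have ha2 : a * a = zk := Subtype.ext (by
    show S.sec s0 * S.sec s0 = z
    rw [S.sq_eq (S.sec_mem _), S.π_sec, hqs, zp_one])
  have hz2 : zk * zk = 1 := Subtype.ext S.extra.z_sq
  have hb2 : b * b = 1 := Subtype.ext (by
    show S.sec u0 * S.sec u0 = 1
    rw [S.sq_eq (S.sec_mem _), S.π_sec, hqu, zp_zero])
  have ha4 : a ^ 4 = 1 := by rw [show (4 : ℕ) = 2 * 2 from rfl, pow_mul, pow_two, pow_two, ha2, hz2]
  have hbab : b * a * b = a⁻¹ := by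
    have h1 : b * a * b⁻¹ = a * zk := Subtype.ext (by
      show S.sec u0 * S.sec s0 * (S.sec u0)⁻¹ = S.sec s0 * z
      rw [S.conj_eq (S.sec_mem _) (S.sec_mem _), S.π_sec, S.π_sec, show B u0 s0 = 1 by decide, zp_one])
    rw [inv_eq_of_mul_eq_one_right hb2] at h1
    rw [h1]
    refine eq_inv_of_mul_eq_one_left ?_
    rw [mul_assoc, ← ha2, ← mul_assoc, ← mul_assoc, mul_assoc (a * a), ha2, hz2]
  set f := CfsgLib.Derangements.DihedralHom.lift a b ha4 hb2 hbab with hf
  have hπa : π (a : G) = s0 := S.π_sec _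
  have hπb : π (b : G) = u0 := S.π_sec _
  have haQ : (a : G) ∈ Q := S.sec_mem _
  have hbQ : (b : G) ∈ Q := S.sec_mem _
  have hrange : ∀ x : ↥(kq Q r), ∀ d : DihedralGroup 4, π (x : G) = π (f d : G) → ∃ d', f d' = x := by
    intro x d h
    rcases S.π_eq (f d).2.1 x.2.1 h.symm with e | e
    · exact ⟨d, Subtype.ext e.symm⟩
    · exact ⟨d * DihedralGroup.r 2, Subtype.ext (by
        rw [map_mul, e]
        show (f d : G) * ((a ^ (2 : ZMod 4).val : ↥(kq Q r)) : G) = _
        rw [show (2 : ZMod 4).val = 2 from rfl, pow_two, ha2])⟩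
  have hsurj : Function.Surjective f := by
    intro x
    rcases (T5_fixed _).1 ((mem_kq_five S hr).1 x.2).2 with e | e | e | e
    · exact hrange x 1 (by rw [e, map_one]; exact S.π_one.symm)
    · exact hrange x (DihedralGroup.sr 0) (by
        rw [e, hf, CfsgLib.Derangements.DihedralHom.lift_sr, ZMod.val_zero, pow_zero, mul_one, hπb])
    · exact hrange x (DihedralGroup.sr 1) (by
        rw [e, hf, CfsgLib.Derangements.DihedralHom.lift_sr, show (1 : ZMod 4).val = 1 from rfl, pow_one,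
          Subgroup.coe_mul, S.π_mul _ hbQ _ haQ, hπa, hπb]
        decide)
    · exact hrange x (DihedralGroup.r 1) (by
        rw [e, hf, CfsgLib.Derangements.DihedralHom.lift_r, show (1 : ZMod 4).val = 1 from rfl, pow_one, hπa])
  have hinj : Function.Injective f := by
    rw [injective_iff_map_eq_one]
    intro d hd
    have hπd : π (f d : G) = 0 := by rw [hd]; exact S.π_one
    have hzne : zk ≠ 1 := fun e => S.extra.z_ne (congrArg Subtype.val e)
    rcases d with i | i <;> fin_cases i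
    · rfl
    · exfalso
      change π ((a ^ 1 : ↥(kq Q r)) : G) = 0 at hπd
      rw [pow_one, hπa] at hπd
      exact hs0 hπd
    · exfalso
      change a ^ 2 = 1 at hd
      rw [pow_two, ha2] at hd
      exact hzne hd
    · exfalso
      change π ((a ^ 3 : ↥(kq Q r)) : G) = 0 at hπd
      rw [pow_succ, pow_two, Subgroup.coe_mul, S.π_mul _ (a * a).2.1 _ haQ, ha2, hπa] at hπd
      rw [show π (zk : G) = 0 from S.π_z, zero_add] at hπd
      exact hs0 hπd
    · exfalso
      change π ((b * a ^ 0 : ↥(kq Q r)) : G) = 0 at hπd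
      rw [pow_zero, mul_one, hπb] at hπd
      exact hu0 hπd
    · exfalso
      change π ((b * a ^ 1 : ↥(kq Q r)) : G) = 0 at hπd
      rw [pow_one, Subgroup.coe_mul, S.π_mul _ hbQ _ haQ, hπa, hπb] at hπd
      exact absurd hπd (by decide)
    · exfalso
      change π ((b * a ^ 2 : ↥(kq Q r)) : G) = 0 at hπd
      rw [pow_two, ha2, Subgroup.coe_mul, S.π_mul _ hbQ _ S.extra.z_mem, hπb, S.π_z, add_zero] at hπd
      exact hu0 hπd
    · exfalso
      change π ((b * a ^ 3 : ↥(kq Q r)) : G) = 0 at hπd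
      rw [pow_succ, pow_two, ha2, Subgroup.coe_mul, S.π_mul _ hbQ _ (zk * a).2.1, Subgroup.coe_mul,
        S.π_mul _ S.extra.z_mem _ haQ, hπa, hπb, S.π_z, zero_add] at hπd
      exact absurd hπd (by decide)
  exact ⟨MulEquiv.ofBijective f ⟨hinj, hsurj⟩⟩

omit hr in
/-- An element mapping `z` to `x` and preserving the four-group `⟨z, x⟩`. -/
theorem exists_swap {x : G} (hx : x ∈ Q) (hx0 : π x ≠ 0) (hxq : q (π x) = 0) :
    ∃ m, m * z * m⁻¹ = x ∧ (m * x * m⁻¹ = z ∨ m * x * m⁻¹ = x * z) := by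
  obtain ⟨u, g, p⟩ := S.exists_pair
  obtain ⟨a, ha, hav⟩ := S.transitive (by decide : u0 ≠ 0) (by decide : q u0 = 0) hx0 hxq
  rw [← p.π_u, S.act_π ha p.u_mem] at hav
  have hau : a * u * a⁻¹ ∈ Q := S.norm a ha u p.u_mem
  have hau1 : a * u * a⁻¹ ≠ 1 := fun e => p.u_ne (conj_eq_one_iff.1 e)
  obtain ⟨a', ha', hax⟩ : ∃ a', a' * z = z * a' ∧ a' * u * a'⁻¹ = x := by
    rcases S.π_eq hau hx hav with e | e
    · exact ⟨a, ha, e.symm⟩
    · obtain ⟨k, hk, hke⟩ := S.extra.exists_conj_eq hau hau1 (fun e' => hx0 (by rw [← hav, e', S.π_z]))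
      refine ⟨k * a, Three.mul_cz S (S.mem_cz hk) ha, ?_⟩
      rw [e, ← hke]; group
  have haz : a' * z * a'⁻¹ = z := by rw [ha', mul_inv_cancel_right]
  have hgu : g * u * g⁻¹ = z ∨ g * u * g⁻¹ = u * z := by
    rcases S.π_eq p.u_mem p.w_mem (p.π_u.trans p.π_w.symm) with e | e
    · left; rw [← e]; group
    · right
      have h1 : g * u * g⁻¹ * (g * z * g⁻¹) = z := by
        rw [show g * u * g⁻¹ * (g * z * g⁻¹) = g * (u * z) * g⁻¹ by group, ← e]; group
      rw [p.conj, ← eq_mul_inv_iff_mul_eq, inv_eq_of_mul_eq_one_right p.uu] at h1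
      rw [h1, p.uz]
  refine ⟨a' * g * a'⁻¹, ?_, ?_⟩
  · have : a'⁻¹ * z * a' = z := by
      calc a'⁻¹ * z * a' = a'⁻¹ * (a' * z * a'⁻¹) * a' := by rw [haz]
        _ = z := by group
    calc a' * g * a'⁻¹ * z * (a' * g * a'⁻¹)⁻¹ = a' * (g * (a'⁻¹ * z * a') * g⁻¹) * a'⁻¹ := by group
      _ = x := by rw [this, p.conj, hax]
  · have h1 : a' * g * a'⁻¹ * x * (a' * g * a'⁻¹)⁻¹ = a' * (g * u * g⁻¹) * a'⁻¹ := by rw [← hax]; group
    rcases hgu with e | e
    · left; rw [h1, e, haz]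
    · right
      rw [h1, e, show a' * (u * z) * a'⁻¹ = a' * u * a'⁻¹ * (a' * z * a'⁻¹) by group, hax, haz]

/-- The involutions of `C_Q(r)` are conjugate to `z` in `C(r)`. -/
theorem exists_fuse_five {x : G} (hx : x ∈ kq Q r) (hxx : x * x = 1) (hx1 : x ≠ 1) (hxz : x ≠ z) :
    ∃ h, h * r = r * h ∧ h * z * h⁻¹ = x := by
  obtain ⟨hxQ, hxT⟩ := (mem_kq_five S hr).1 hx
  have hx0 : π x ≠ 0 := fun e => ((S.π_ker x hxQ).1 e).elim hx1 hxz
  have hxq : q (π x) = 0 := (S.q_iff x hxQ).2 hxx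
  have hzx : z * x = x * z := (S.mem_cz hxQ).symm
  have hxr : x * r = r * x := (five_comm S hr hxQ hxT).symm
  obtain ⟨m, hmz, hmx⟩ := exists_swap S hxQ hx0 hxq
  -- Frattini in `C(z, x)`
  set CV : Subgroup G := Subgroup.centralizer {z} ⊓ Subgroup.centralizer {x} with hCV
  have memCV : ∀ {c : G}, c ∈ CV ↔ c * z = z * c ∧ c * x = x * c := by
    intro c
    rw [hCV, Subgroup.mem_inf, Subgroup.mem_centralizer_singleton_iff, Subgroup.mem_centralizer_singleton_iff]
  have hrCV : r ∈ CV := memCV.2 ⟨hr.rz, hxr.symm⟩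
  have hmr : m * r * m⁻¹ ∈ CV := by
    have hconj : ∀ a, a * r = r * a → m * r * m⁻¹ * (m * a * m⁻¹) = m * a * m⁻¹ * (m * r * m⁻¹) := by
      intro a ha
      rw [conj_mul, conj_mul, ha]
    have h1 := hconj z hr.rz.symm
    rw [hmz] at h1
    refine memCV.2 ⟨?_, h1⟩
    rcases hmx with e | e
    · have h2 := hconj x hxr
      rwa [e] at h2
    · have h2 := hconj (z * x) (by rw [mul_assoc, hxr, ← mul_assoc, ← hr.rz, mul_assoc])
      rw [← conj_mul, hmz, e, show x * (x * z) = z by rw [← mul_assoc, hxx, one_mul]] at h2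
      exact h2
  have hfac : (Nat.card CV).factorization 5 = 1 := by
    refine le_antisymm ?_ ?_
    · have h1 : Nat.card CV ∣ 2 ^ 7 * 25920 := S.card_cent ▸ Subgroup.card_dvd_of_le inf_le_left
      refine ((Nat.factorization_le_iff_dvd Nat.card_pos.ne' (by norm_num)).2 h1 5).trans ?_
      rw [show 2 ^ 7 * 25920 = 5 ^ 1 * 663552 by norm_num, Nat.factorization_mul (by norm_num) (by norm_num),
        Finsupp.add_apply, Nat.Prime.factorization_pow (by norm_num), Finsupp.single_eq_same,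
        Nat.factorization_eq_zero_of_not_dvd (by norm_num : ¬ 5 ∣ 663552)]
    · refine (Nat.Prime.pow_dvd_iff_le_factorization (by norm_num) Nat.card_pos.ne').1 ?_
      rw [pow_one, ← hr.ord]
      exact Subgroup.orderOf_dvd_natCard CV hrCV
  have : Fact (Nat.Prime 5) := ⟨by norm_num⟩
  let P1 : Sylow 5 CV := Sylow.ofCard (Subgroup.zpowers ⟨r, hrCV⟩)
    (by rw [hfac, Nat.card_zpowers, Subgroup.orderOf_mk, hr.ord, pow_one])
  let P2 : Sylow 5 CV := Sylow.ofCard (Subgroup.zpowers ⟨m * r * m⁻¹, hmr⟩)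
    (by rw [hfac, Nat.card_zpowers, Subgroup.orderOf_mk, CfsgLib.Involution.Dihedral.orderOf_conj, hr.ord, pow_one])
  obtain ⟨c, hc⟩ := MulAction.exists_smul_eq CV P2 P1
  have hmem : c * ⟨m * r * m⁻¹, hmr⟩ * c⁻¹ ∈ (P1 : Subgroup CV) := by
    rw [← hc]; exact ⟨_, Subgroup.mem_zpowers _, rfl⟩
  obtain ⟨k, hk⟩ := Subgroup.mem_zpowers_iff.1 hmem
  have hk' : r ^ k = (c : G) * (m * r * m⁻¹) * (c : G)⁻¹ := by simpa using congrArg Subtype.val hk
  obtain ⟨hcz, hcx⟩ := memCV.1 c.2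
  set g' := (c : G) * m with hg'
  have hg'r : g' * r * g'⁻¹ ∈ Subgroup.zpowers r :=
    ⟨k, by show r ^ k = _; rw [hk', hg']; group⟩
  have hg'z : g' * z * g'⁻¹ = x := by
    rw [hg', show (c : G) * m * z * ((c : G) * m)⁻¹ = c * (m * z * m⁻¹) * (c : G)⁻¹ by group, hmz, hcx,
      mul_inv_cancel_right]
  have hg'x : g' * x * g'⁻¹ = z ∨ g' * x * g'⁻¹ = x * z := by
    rw [hg', show (c : G) * m * x * ((c : G) * m)⁻¹ = c * (m * x * m⁻¹) * (c : G)⁻¹ by group]
    rcases hmx with e | e <;> rw [e]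
    · left; rw [hcz, mul_inv_cancel_right]
    · right
      rw [show (c : G) * (x * z) * (c : G)⁻¹ = c * x * (c : G)⁻¹ * (c * z * (c : G)⁻¹) by group, hcx, hcz,
        mul_inv_cancel_right, mul_inv_cancel_right]
  -- an element of `C_Q(r)` moving `x`
  obtain ⟨v, hvT, hvB⟩ : ∃ v, T5 v = v ∧ B v (π x) = 1 := by
    rcases (T5_fixed _).1 hxT with e | e | e | e <;> rw [e]
    · exact absurd e hx0
    · exact ⟨y0, (T5_fixed y0).2 (by simp), by decide⟩
    · exact ⟨u0, (T5_fixed u0).2 (by simp), by decide⟩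
    · exact ⟨u0, (T5_fixed u0).2 (by simp), by decide⟩
  set b := S.sec v with hb
  have hbx : b * x * b⁻¹ = x * z := by
    rw [S.conj_eq hxQ (S.sec_mem v), S.π_sec, hvB, zp_one]
  have hbz : b * z * b⁻¹ = z := by rw [S.mem_cz (S.sec_mem v), mul_inv_cancel_right]
  have hbr : b * r = r * b := (five_comm S hr (S.sec_mem v) (by rw [S.π_sec]; exact hvT)).symm
  have cyc : ∀ (h s t : G), h * z * h⁻¹ = s → h * s * h⁻¹ = t → h * t * h⁻¹ = z →
      h ^ 4 * z * (h ^ 4)⁻¹ = s := by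
    intro h s t h1 h2 h3
    calc h ^ 4 * z * (h ^ 4)⁻¹ = h * (h * (h * (h * z * h⁻¹) * h⁻¹) * h⁻¹) * h⁻¹ := by
          simp [pow_succ, mul_assoc]
      _ = s := by rw [h1, h2, h3, h1]
  rcases hg'x with e | e
  · set h := b * g' with hh
    have h1 : h * z * h⁻¹ = x * z := by
      rw [hh, show b * g' * z * (b * g')⁻¹ = b * (g' * z * g'⁻¹) * b⁻¹ by group, hg'z, hbx]
    have h3 : h * x * h⁻¹ = z := by
      rw [hh, show b * g' * x * (b * g')⁻¹ = b * (g' * x * g'⁻¹) * b⁻¹ by group, e, hbz]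
    have h2 : h * (x * z) * h⁻¹ = x := by
      rw [← conj_mul, h3, h1, ← mul_assoc, hzx, mul_assoc, S.extra.z_sq, mul_one]
    have h4 := cyc h _ _ h1 h2 h3
    have hhr : h ^ 4 * r = r * h ^ 4 := pow_four_commute hr.ord (by
      obtain ⟨j, hj⟩ := Subgroup.mem_zpowers_iff.1 hg'r
      refine Subgroup.mem_zpowers_iff.2 ⟨j, ?_⟩
      rw [hh, show b * g' * r * (b * g')⁻¹ = b * (g' * r * g'⁻¹) * b⁻¹ by group, ← hj,
        ((show Commute b r from hbr).zpow_right j).eq, mul_inv_cancel_right])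
    refine ⟨b * h ^ 4, by rw [mul_assoc, hhr, ← mul_assoc, hbr, mul_assoc], ?_⟩
    rw [show b * h ^ 4 * z * (b * h ^ 4)⁻¹ = b * (h ^ 4 * z * (h ^ 4)⁻¹) * b⁻¹ by group, h4, ← conj_mul,
      hbx, hbz, mul_assoc, S.extra.z_sq, mul_one]
  · refine ⟨g' ^ 4, pow_four_commute hr.ord hg'r, cyc g' x (x * z) hg'z e ?_⟩
    rw [← conj_mul, e, hg'z, mul_assoc, hzx, ← mul_assoc, hxx, one_mul]

/-- `C(r)/⟨r⟩` is `L₃(2)` or `A₆`. -/
theorem five_quotient : Nonempty (CQ r ≃* Matrix.SpecialLinearGroup (Fin 3) (ZMod 2)) ∨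
    Nonempty (CQ r ≃* ↥(alternatingGroup (Fin 6))) := by
  classical
  have hzr : z ∈ cy r := Subgroup.mem_centralizer_singleton_iff.2 hr.rz.symm
  set zb : CQ r := toQ r ⟨z, hzr⟩ with hzb
  have hle : kq Q r ≤ cy r := inf_le_right
  let ι : ↥(kq Q r) →* CQ r := (toQ r).comp (Subgroup.inclusion hle)
  have hιmem : ∀ d, ι d ∈ Subgroup.centralizer ({zb} : Set (CQ r)) := fun d => by
    rw [Subgroup.mem_centralizer_singleton_iff, hzb, MonoidHom.comp_apply, ← map_mul, ← map_mul]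
    exact congrArg (toQ r) (Subtype.ext (S.mem_cz d.2.1))
  have hQr : ∀ {d : G}, d ∈ Q → d ∈ Subgroup.zpowers r → d = 1 := by
    intro d hd hdr
    have h5 : d ^ 5 = 1 := by
      obtain ⟨k, rfl⟩ := Subgroup.mem_zpowers_iff.1 hdr
      rw [← zpow_natCast, zpow_comm, zpow_natCast, r5 S hr, one_zpow]
    have h4 : d ^ 4 = 1 := by
      rcases S.extra.sq_cases hd with e | e <;> rw [show (4 : ℕ) = 2 * 2 from rfl, pow_mul, pow_two d, e]
      · exact one_pow 2
      · rw [pow_two, S.extra.z_sq]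
    rw [pow_succ, h4, one_mul] at h5
    exact h5
  have hzb2 : orderOf zb = 2 := by
    have : Fact (Nat.Prime 2) := ⟨Nat.prime_two⟩
    refine orderOf_eq_prime ?_ fun e => ?_
    · rw [hzb, ← map_pow, show (⟨z, hzr⟩ : ↥(cy r)) ^ 2 = 1 from Subtype.ext (by simp [pow_two, S.extra.z_sq]),
        map_one]
    · exact S.extra.z_ne (hQr S.extra.z_mem (toQ_eq_one.1 e))
  let ι' : ↥(kq Q r) →* ↥(Subgroup.centralizer ({zb} : Set (CQ r))) := ι.codRestrict _ hιmem
  have hbij : Function.Bijective ι' := by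
    constructor
    · refine (injective_iff_map_eq_one ι').2 fun d hd => Subtype.ext ?_
      exact hQr d.2.1 (toQ_eq_one.1 (congrArg Subtype.val hd))
    · rintro ⟨q', hq'⟩
      obtain ⟨c, rfl⟩ := toQ_surjective r q'
      rw [Subgroup.mem_centralizer_singleton_iff, hzb, ← map_mul, ← map_mul] at hq'
      have hcr : (c : G) * r = r * c := Subgroup.mem_centralizer_singleton_iff.1 c.2
      set zc : ↥(cy r) := ⟨z, hzr⟩
      have h1 : toQ r (c * zc * c⁻¹ * zc⁻¹) = 1 := by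
        rw [map_mul, map_mul, map_inv, map_inv, hq', map_mul, mul_inv_cancel_right,
          mul_inv_cancel]
      rw [toQ_eq_one] at h1
      simp only [Subgroup.coe_mul, Subgroup.coe_inv, zc] at h1
      set t := (c : G) * z * (c : G)⁻¹ * z⁻¹ with ht
      have htz : t * z = z * t := by
        obtain ⟨k, hk⟩ := Subgroup.mem_zpowers_iff.1 h1
        rw [← hk]
        exact ((show Commute r z from hr.rz).zpow_left k).eq
      have ht2 : t * t = 1 := by
        have h2 : t * z * (t * z) = 1 := by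
          rw [ht, inv_mul_cancel_right, conj_mul, S.extra.z_sq, mul_one, mul_inv_cancel]
        rw [mul_assoc, ← mul_assoc z, ← htz, mul_assoc t z, S.extra.z_sq, mul_one] at h2
        exact h2
      have ht1 := eq_one_of_sq (r5 S hr) h1 ht2
      rw [ht, mul_inv_eq_one, mul_inv_eq_iff_eq_mul] at ht1
      obtain ⟨d, k, hd, hcd⟩ := exists_split S hr ht1 hcr
      refine ⟨⟨d, hd⟩, Subtype.ext ?_⟩
      show toQ r (Subgroup.inclusion hle ⟨d, hd⟩) = toQ r c
      refine QuotientGroup.eq.2 ?_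
      show d⁻¹ * (c : G) ∈ Subgroup.zpowers r
      rw [hcd, inv_mul_cancel_left]
      exact pow_mem (Subgroup.mem_zpowers r) k
  obtain ⟨eD⟩ := kq_dihedral S hr
  let e : ↥(Subgroup.centralizer ({zb} : Set (CQ r))) ≃* DihedralGroup 4 :=
    (MulEquiv.ofBijective ι' hbij).symm.trans eD.symm
  -- one class
  have hfused : ∀ d : ↥(kq Q r), (d : G) * d = 1 → (d : G) ≠ 1 → ∃ k, k * zb * k⁻¹ = ι d := by
    intro d hd hd1
    by_cases hdz : (d : G) = z
    · refine ⟨1, ?_⟩
      rw [one_mul, inv_one, mul_one, hzb]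
      exact congrArg (toQ r) (Subtype.ext hdz.symm)
    · obtain ⟨h, hhr, hhz⟩ := exists_fuse_five S hr d.2 hd hd1 hdz
      refine ⟨toQ r ⟨h, Subgroup.mem_centralizer_singleton_iff.2 hhr⟩, ?_⟩
      rw [hzb, ← map_inv, ← map_mul, ← map_mul]
      exact congrArg (toQ r) (Subtype.ext hhz)
  have hone : ∀ i : CQ r, orderOf i = 2 → IsConj zb i := by
    intro i hi
    obtain ⟨k, hk⟩ := CfsgLib.LocalEvenB.CentralizerDihedralEight.exists_conj_mem e hzb2 hi
    obtain ⟨d, hd⟩ := hbij.2 ⟨_, hk⟩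
    have hdi : ι d = k * i * k⁻¹ := congrArg Subtype.val hd
    have hi2 : k * i * k⁻¹ * (k * i * k⁻¹) = 1 := by
      rw [conj_mul, ← pow_two i, ← hi, pow_orderOf_eq_one, mul_one, mul_inv_cancel]
    have hd2 : d * d = 1 := hbij.1 (Subtype.ext (by
      rw [map_mul, map_one, hd]
      exact hi2))
    have hd1 : (d : G) ≠ 1 := fun e' => by
      rw [show d = 1 from Subtype.ext e', map_one] at hdi
      rw [conj_eq_one_iff.1 hdi.symm, orderOf_one] at hi
      omega
    obtain ⟨j, hj⟩ := hfused d (congrArg Subtype.val hd2) hd1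
    exact isConj_iff.2 ⟨k⁻¹ * j, by
      rw [show k⁻¹ * j * zb * (k⁻¹ * j)⁻¹ = k⁻¹ * (j * zb * j⁻¹) * k by group, hj, hdi]; group⟩
  rcases Cfsg.Agent.S3035.result zb hzb2 ⟨e⟩ with h | ⟨⟨f⟩⟩ | ⟨⟨f⟩⟩ | h | h
  · exfalso
    have hu : S.sec u0 ∈ kq Q r := (mem_kq_five S hr).2 ⟨S.sec_mem _, by
      rw [S.π_sec]; exact (T5_fixed u0).2 (by simp)⟩
    have hu2 : S.sec u0 * S.sec u0 = 1 := by
      rw [S.sq_eq (S.sec_mem _), S.π_sec, fixed_facts.1, zp_zero]
    have huz : S.sec u0 ≠ z := fun e' => fixed_facts.2.2.2.2.1 (by rw [← S.π_sec u0, e', S.π_z])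
    have hu1 : S.sec u0 ≠ 1 := fun e' => fixed_facts.2.2.2.2.1 (by rw [← S.π_sec u0, e', S.π_one])
    obtain ⟨g', hg'⟩ := hfused ⟨_, hu⟩ hu2 hu1
    set O := Cfsg.oddCore (CQ r) with hO
    haveI hOn : O.Normal := CfsgLib.Involution.ZStar.oddCore_normal
    set C := Subgroup.centralizer ({zb} : Set (CQ r)) with hC
    obtain ⟨c, hc, o, ho, rfl⟩ := Subgroup.mem_sup_of_normal_right.1 (show g' ∈ C ⊔ O by rw [h]; trivial)
    have hcop : C ⊓ O = ⊥ := (Subgroup.disjoint_of_coprime_natCard (by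
      rw [Nat.card_congr e.toEquiv, DihedralGroup.nat_card,
        show 2 * 4 = 2 ^ 3 from rfl]
      exact Nat.Coprime.pow_left 3 (Nat.coprime_two_left.2 CfsgLib.Involution.ZStar.odd_card_oddCore))).eq_bot
    have hzC : zb ∈ C := Subgroup.mem_centralizer_singleton_iff.2 rfl
    have hdC : ι ⟨_, hu⟩ ∈ C := hιmem _
    have hx' : o * zb * o⁻¹ = c⁻¹ * ι ⟨_, hu⟩ * c := by rw [← hg']; group
    have hoO : o * zb * o⁻¹ * zb⁻¹ ∈ C ⊓ O := by
      refine ⟨?_, ?_⟩
      · rw [hx']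
        exact C.mul_mem (C.mul_mem (C.mul_mem (C.inv_mem hc) hdC) hc) (C.inv_mem hzC)
      · rw [show o * zb * o⁻¹ * zb⁻¹ = o * (zb * o⁻¹ * zb⁻¹) by group]
        exact O.mul_mem ho (hOn.conj_mem _ (O.inv_mem ho) zb)
    rw [hcop, Subgroup.mem_bot, mul_inv_eq_one, hx'] at hoO
    have hdz : ι ⟨_, hu⟩ = zb := by
      have hcz : c * zb = zb * c := Subgroup.mem_centralizer_singleton_iff.1 hc
      calc ι ⟨_, hu⟩ = c * (c⁻¹ * ι ⟨_, hu⟩ * c) * c⁻¹ := by group
        _ = zb := by rw [hoO, hcz, mul_inv_cancel_right]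
    have hinj := hbij.1 (a₁ := ⟨_, hu⟩) (a₂ := ⟨z, z_mem_five S hr⟩) (Subtype.ext hdz)
    exact huz (congrArg Subtype.val hinj)
  · exfalso
    have h0 : ∀ σ : Equiv.Perm (Fin 4), orderOf σ = 2 → IsConj (f zb) σ := fun σ hσ => by
      have := f.toMonoidHom.map_isConj (hone (f.symm σ) (by rw [f.symm.orderOf_eq, hσ]))
      simpa using this
    have : Fact (Nat.Prime 2) := ⟨Nat.prime_two⟩
    have h1 := h0 (Equiv.swap 0 1) (orderOf_eq_prime (by decide) (by decide))
    have h2 := h0 (Equiv.swap 0 1 * Equiv.swap 2 3) (orderOf_eq_prime (by decide) (by decide))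
    obtain ⟨k, hk⟩ := isConj_iff.1 (h1.symm.trans h2)
    revert hk; revert k; decide +kernel
  · exfalso
    have h0 : ∀ σ : Equiv.Perm (Fin 5), orderOf σ = 2 → IsConj (f zb) σ := fun σ hσ => by
      have := f.toMonoidHom.map_isConj (hone (f.symm σ) (by rw [f.symm.orderOf_eq, hσ]))
      simpa using this
    have : Fact (Nat.Prime 2) := ⟨Nat.prime_two⟩
    have h1 := h0 (Equiv.swap 0 1) (orderOf_eq_prime (by decide) (by decide))
    have h2 := h0 (Equiv.swap 0 1 * Equiv.swap 2 3) (orderOf_eq_prime (by decide) (by decide))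
    obtain ⟨k, hk⟩ := isConj_iff.1 (h1.symm.trans h2)
    revert hk; revert k; decide +kernel
  · exact Or.inl h
  · exact Or.inr h

end CfsgLib.Characterizations.SuzType.Seven
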