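import Cfsg.Agent.Lib.Characterizations.SuzType.Three.Std

/-!
# The standard element of order five: facts in coordinates
-/

set_option autoImplicit false
set_option maxRecDepth 100000
set_option synthInstance.maxSize 4096
set_option synthInstance.maxHeartbeats 400000

namespace CfsgLib.Characterizations.SuzType.Seven

/-- A five-cycle. -/
def c5 : Equiv.Perm (Fin 5) := finRotate 5

/-- Its action. -/
def T5 : V → V := M c5 0

/-- The non-singular fixed vector. -/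
def s0 : V := u0 + y0

theorem c5_facts : Equiv.Perm.sign c5 = 1 ∧ c5 ≠ 1 ∧ c5 ^ 5 = 1 := by decide +kernel

theorem c5_comm : ∀ σ : Equiv.Perm (Fin 5), σ * c5 = c5 * σ →
    σ = 1 ∨ σ = c5 ∨ σ = c5 ^ 2 ∨ σ = c5 ^ 3 ∨ σ = c5 ^ 4 := by decide +kernel

theorem T5_five : ∀ v : V, T5 (T5 (T5 (T5 (T5 v)))) = v := by decide +kernel

theorem T5_fixed : ∀ v : V, T5 v = v ↔ v = 0 ∨ v = u0 ∨ v = y0 ∨ v = s0 := by decide +kernel

theorem T5_moves : ∃ v : V, T5 v ≠ v := by decide +kernel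

theorem fixed_facts : q u0 = 0 ∧ q y0 = 0 ∧ q s0 = 1 ∧ B u0 y0 = 1 ∧ u0 ≠ 0 ∧ y0 ≠ 0 ∧ s0 ≠ 0 ∧ u0 ≠ y0 ∧
    T5 u0 = u0 ∧ T5 y0 = y0 ∧ trans s0 u0 = y0 ∧ trans s0 y0 = u0 := by decide +kernel

theorem const_param : ∀ φ : W5, Ev φ → (∀ i, φ (c5⁻¹ i) = φ i) → φ = 0 := by decide +kernel

theorem T5_trans : ∀ v : V, T5 (trans s0 v) = trans s0 (T5 v) ∧ trans s0 (trans s0 v) = v := by decide +kernel

/-- The transvection at `s0` and a Siegel element give an odd permutation. -/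
theorem trans_word : ∀ v : V,
    trans s0 (M 1 φ01 (trans s0 (M 1 φ01 (trans s0 v)))) = M (Equiv.swap 0 1) φ01 v := by decide +kernel

end CfsgLib.Characterizations.SuzType.Seven
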