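import Cfsg.Agent.Lib.Characterizations.SuzType.Seven.Facts
import Cfsg.Agent.Lib.Characterizations.SuzType.Three.Std

/-!
# Products of Siegel elements and elements of `C_Q(u)`
-/

set_option autoImplicit false
set_option linter.unusedSectionVars false
set_option linter.style.haveILetI false

namespace CfsgLib.Characterizations.SuzType.Seven

open Suz CfsgLib.Characterizations.SuzType.Three

variable {G : Type*} [Group G] [Finite G] {z u g : G} {Q : Subgroup G} {π : G → V} {S : Suz z Q π}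

/-- `c` is a product of a Siegel element of parameter `φ` and an element of `C_Q(u)` over `m`. -/
def Form (_p : S.Pair u g) (c : G) (φ m : W5) : Prop :=
  ∃ e x, e ∈ S.sie g ∧ Ev φ ∧ (∀ v, S.act e v = M 1 φ v) ∧ x ∈ Q ∧ π x 5 = 0 ∧ co (π x) = m ∧ c = e * x

/-- The elements `z^a u^b`. -/
def zu (z u : G) (a b : ZMod 2) : G := zp z a * zp u b

variable (p : S.Pair u g)
include p

theorem zu_mem (a b : ZMod 2) : zu z u a b ∈ Q := mul_mem (S.zp_mem a) (p.up_mem b)

theorem zu_add (a b a' b' : ZMod 2) : zu z u a b * zu z u a' b' = zu z u (a + a') (b + b') := by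
  have hc : zp u b * zp z a' = zp z a' * zp u b := S.zp_comm a' (S.mem_cz (p.up_mem b))
  rw [zu, zu, zu, S.zp_add, p.up_add, mul_assoc (zp z a), ← mul_assoc (zp u b), hc]
  group

theorem zu_comm {c : G} (hcz : c * z = z * c) (hcu : c * u = u * c) (a b : ZMod 2) :
    Commute c (zu z u a b) := p.mix_comm hcz hcu a b

theorem co_zu (a b : ZMod 2) : co (π (zu z u a b)) = 0 ∧ π (zu z u a b) 5 = 0 := by
  have hπ : π (zu z u a b) = b • u0 := by
    rw [zu, S.π_mul _ (S.zp_mem a) _ (p.up_mem b), S.π_zp, p.up_π, zero_add]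
  rcases two_cases b with rfl | rfl <;> rw [hπ]
  · rw [zero_smul]; exact ⟨co_zero, rfl⟩
  · rw [one_smul]; exact ⟨co_u0, rfl⟩

theorem form_comm_z {c : G} {φ m : W5} (h : Form p c φ m) : c * z = z * c ∧ c * u = u * c := by
  obtain ⟨e, x, he, -, -, hx, h5, -, rfl⟩ := h
  exact ⟨cz_mul (p.sie_comm he).1 (S.mem_cz hx),
    (Commute.mul_left (p.sie_comm he).2 (p.comm_of_π hx h5)).eq⟩

theorem form_act {c : G} {φ m : W5} (h : Form p c φ m) (v : V) : S.act c v = M 1 φ v := by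
  obtain ⟨e, x, he, -, hf, hx, -, -, rfl⟩ := h
  rw [S.act_mul (p.sie_comm he).1 (S.mem_cz hx), S.act_Q hx, hf]

theorem form_ev {c : G} {φ m : W5} (h : Form p c φ m) : Ev φ ∧ Ev m := by
  obtain ⟨e, x, -, hφ, -, -, -, rfl, -⟩ := h
  exact ⟨hφ, ev_co _⟩

theorem form_unique {c : G} {φ m φ' m' : W5} (h : Form p c φ m) (h' : Form p c φ' m') : φ = φ' ∧ m = m' := by
  have hφφ : φ = φ' := (M_unique (σ := 1) (τ := 1) (form_ev p h).1 (form_ev p h').1
    fun v => (form_act p h v).symm.trans (form_act p h' v)).2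
  refine ⟨hφφ, ?_⟩
  obtain ⟨e, x, he, hφ, hf, hx, h5, rfl, rfl⟩ := h
  obtain ⟨e', x', he', hφ', hf', hx', h5', rfl, he''⟩ := h'
  have hd : e⁻¹ * e' = x * x'⁻¹ := by
    rw [eq_mul_inv_iff_mul_eq, mul_assoc, ← he'', inv_mul_cancel_left]
  have hsmall := (co_of_over (p.meet (mul_mem hx (inv_mem hx'))
    (hd ▸ (mem_sie.1 (mul_mem (inv_mem he) he')).2))).1
  rw [S.π_mul _ hx _ (inv_mem hx'), S.π_inv hx', co_add] at hsmall
  calc co (π x) = co (π x) + (co (π x') + co (π x')) := by rw [add_self_W, add_zero]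
    _ = co (π x') := by rw [← add_assoc, hsmall, zero_add]

theorem form_zu (a b : ZMod 2) : Form p (zu z u a b) 0 0 :=
  ⟨1, zu z u a b, one_mem _, ev_zero, Pair.act_one_form, zu_mem p a b, (co_zu p a b).2, (co_zu p a b).1,
    (one_mul _).symm⟩

theorem form_zero {c : G} (h : Form p c 0 0) : ∃ a b, c = zu z u a b := by
  obtain ⟨e, x, he, -, hf, hx, h5, hco, rfl⟩ := h
  have key : ∀ d : G, (d = 1 ∨ d = z ∨ d = u ∨ d = u * z) → ∃ a b, d = zu z u a b := by
    rintro d (rfl | rfl | rfl | rfl)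
    · exact ⟨0, 0, by simp [zu, zp_zero]⟩
    · exact ⟨1, 0, by simp [zu, zp_zero, zp_one]⟩
    · exact ⟨0, 1, by simp [zu, zp_zero, zp_one]⟩
    · exact ⟨1, 1, by rw [zu, zp_one, zp_one, p.uz]⟩
  obtain ⟨a, b, rfl⟩ := key e (p.meet_cases (p.sie_mem_Q he hf) (mem_sie.1 he).2)
  obtain ⟨a', b', rfl⟩ := key x (p.meet_cases hx (mem_sie.1 (p.mem_of_over hx ((perp_facts _ h5).2.2 hco))).2)
  exact ⟨_, _, zu_add p a b a' b'⟩

theorem Qu_comm {x x' : G} (hx : x ∈ Q) (hx' : x' ∈ Q) (h5 : π x 5 = 0) (h5' : π x' 5 = 0) :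
    x * x' = x' * x * zu z u (dot (co (π x)) (co (π x'))) 0 := by
  have e := S.conj_eq hx' hx
  rw [perp_polar _ _ h5 h5', mul_inv_eq_iff_eq_mul, mul_assoc, ← S.zp_comm _ (S.mem_cz hx)] at e
  rw [e, zu, zp_zero, mul_one, mul_assoc]

theorem sie_x {e x : G} (he : e ∈ S.sie g) {φ : W5} (hφ : Ev φ) (hf : ∀ v, S.act e v = M 1 φ v)
    (hx : x ∈ Q) (h5 : π x 5 = 0) :
    x * e = e * x * zu z u (dot (co (π x)) φ) (dot (co (π x)) φ) := by
  have h := p.pair_formula (inv_mem he) hφ (p.sie_inv_form he hφ hf) hx h5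
  rw [inv_inv] at h
  rw [zu, mul_assoc, ← h]; group

theorem sie_e {e e' : G} (he : e ∈ S.sie g) (he' : e' ∈ S.sie g) {φ φ' : W5} (hφ : Ev φ) (hφ' : Ev φ')
    (hf : ∀ v, S.act e v = M 1 φ v) (hf' : ∀ v, S.act e' v = M 1 φ' v) :
    e * e' = e' * e * zu z u 0 (dot φ φ') := by
  have hee := p.sie_sq he hφ hf
  have hee' := p.sie_sq he' hφ' hf'
  have hprod := p.sie_sq (mul_mem he he') (ev_add hφ hφ') (p.sie_mul_form he he' hφ hφ' hf hf')
  have hcom : ∀ {k : G}, k ∈ S.sie g → ∀ b, k * zp u b = zp u b * k := fun hk b => p.up_comm (p.sie_comm hk).2 b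
  have h5 : (P φ) 5 = 0 ∧ (P φ') 5 = 0 ∧ co (P φ) = φ ∧ co (P φ') = φ' :=
    ⟨(co_P φ hφ).2.2, (co_P φ' hφ').2.2, (co_P φ hφ).1, (co_P φ' hφ').1⟩
  have hq : qe (φ + φ') = qe φ + qe φ' + dot φ φ' := by
    have hadd : P φ + P φ' = P (φ + φ') := by funext i; fin_cases i <;> simp [P]
    have := q_add (P φ) (P φ')
    rw [perp_polar _ _ h5.1 h5.2.1, h5.2.2.1, h5.2.2.2, hadd] at this
    exact this
  have hinv : ∀ {k : G} {b : ZMod 2}, k * k = zp u b → k⁻¹ = k * zp u b := fun {k b} h =>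
    inv_eq_of_mul_eq_one_right (by rw [← mul_assoc, h, ← p.up_add, CharTwo.add_self_eq_zero, zp_zero])
  have e1 : e * e' = zp u (qe (φ + φ')) * (e'⁻¹ * e⁻¹) := by rw [← hprod]; group
  rw [hinv hee, hinv hee', hq, p.up_add, p.up_add] at e1
  rw [e1, zu, zp_zero, one_mul, mul_assoc e' (zp u _) _, ← mul_assoc (zp u (qe φ')) e, ← hcom he,
    mul_assoc e (zp u _) _, ← mul_assoc e' e, ← p.up_add]
  simp only [← p.up_add]
  rw [← mul_assoc, ← hcom (mul_mem he' he), mul_assoc, ← p.up_add]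
  congr 2
  have : ∀ a b c : ZMod 2, a + b + c + (b + a) = c := by decide
  exact this _ _ _

theorem form_swap {c c' : G} {φ m φ' m' : W5} (h : Form p c φ m) (h' : Form p c' φ' m') :
    c * c' = c' * c * zu z u (cz φ m φ' m') (cu φ m φ' m') := by
  have hc := form_comm_z p h
  have hc' := form_comm_z p h'
  obtain ⟨e, x, he, hφ, hf, hx, h5, rfl, rfl⟩ := h
  obtain ⟨e', x', he', hφ', hf', hx', h5', rfl, rfl⟩ := h'
  have C : ∀ {k : G}, k * z = z * k → k * u = u * k → ∀ a b : ZMod 2, ∀ r : G,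
      zu z u a b * (k * r) = k * (zu z u a b * r) := fun hk hk' a b r => by
    rw [← mul_assoc, ← (zu_comm p hk hk' a b).eq, mul_assoc]
  have Ce := C (p.sie_comm he).1 (p.sie_comm he).2
  have Cx := C (S.mem_cz hx) (p.comm_of_π hx h5)
  have Cx' := C (S.mem_cz hx') (p.comm_of_π hx' h5')
  have k1 := sie_x p he' hφ' hf' hx h5
  have k2 := sie_e p he he' hφ hφ' hf hf'
  have k3 := Qu_comm p hx hx' h5 h5'
  have k4 := sie_x p he hφ hf hx' h5'
  set a := dot (co (π x)) φ'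
  set b := dot (co (π x')) φ
  set c₀ := dot φ φ'
  set d := dot (co (π x)) (co (π x'))
  calc e * x * (e' * x') = e * (x * e') * x' := by group
    _ = e * e' * x * (zu z u a a * x') := by rw [k1]; group
    _ = e * e' * (x * x') * zu z u a a := by
        rw [← (zu_comm p (S.mem_cz hx') (p.comm_of_π hx' h5') a a).eq]; group
    _ = e' * e * (zu z u 0 c₀ * (x' * (x * zu z u d 0))) * zu z u a a := by rw [k2, k3]; group
    _ = e' * e * x' * x * (zu z u 0 c₀ * zu z u d 0 * zu z u a a) := by rw [Cx', Cx]; group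
    _ = e' * (e * x') * x * (zu z u 0 c₀ * zu z u d 0 * zu z u a a) := by group
    _ = e' * (x' * e * (zu z u b b)⁻¹) * x * (zu z u 0 c₀ * zu z u d 0 * zu z u a a) := by
        rw [k4, mul_inv_cancel_right]
    _ = e' * x' * e * ((zu z u b b)⁻¹ * (x * (zu z u 0 c₀ * zu z u d 0 * zu z u a a))) := by group
    _ = e' * x' * (e * x) * ((zu z u b b)⁻¹ * (zu z u 0 c₀ * zu z u d 0 * zu z u a a)) := by
        rw [show (zu z u b b)⁻¹ = zu z u b b from inv_eq_of_mul_eq_one_right (by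
          rw [zu_add p, CharTwo.add_self_eq_zero]; simp [zu, zp_zero]), Cx]; group
    _ = _ := by
        rw [show (zu z u b b)⁻¹ = zu z u b b from inv_eq_of_mul_eq_one_right (by
          rw [zu_add p, CharTwo.add_self_eq_zero]; simp [zu, zp_zero]), zu_add p, zu_add p, zu_add p]
        congr 2
        · simp only [cz]; ring
        · simp only [cu]; ring

theorem form_mul {c c' : G} {φ m φ' m' : W5} (h : Form p c φ m) (h' : Form p c' φ' m') :
    Form p (c * c') (φ + φ') (m + m') := by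
  obtain ⟨e, x, he, hφ, hf, hx, h5, rfl, rfl⟩ := h
  obtain ⟨e', x', he', hφ', hf', hx', h5', rfl, rfl⟩ := h'
  set k := zu z u (dot (co (π x)) φ') (dot (co (π x)) φ') with hk
  have hkQ : k ∈ Q := zu_mem p _ _
  have hxk : x * k ∈ Q := mul_mem hx hkQ
  refine ⟨e * e', x * k * x', mul_mem he he', ev_add hφ hφ', p.sie_mul_form he he' hφ hφ' hf hf',
    mul_mem hxk hx', ?_, ?_, ?_⟩
  · rw [S.π_mul _ hxk _ hx', S.π_mul _ hx _ hkQ, Pi.add_apply, Pi.add_apply, h5, h5', (co_zu p _ _).2]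
    simp
  · rw [S.π_mul _ hxk _ hx', S.π_mul _ hx _ hkQ, co_add, co_add, (co_zu p _ _).1, add_zero]
  · have k1 := sie_x p he' hφ' hf' hx h5
    calc e * x * (e' * x') = e * (x * e') * x' := by group
      _ = e * e' * (x * k * x') := by rw [k1, hk]; group

theorem form_commute {c c' : G} {φ m φ' m' : W5} (h : Form p c φ m) (h' : Form p c' φ' m')
    (h1 : cz φ m φ' m' = 0) (h2 : cu φ m φ' m' = 0) : Commute c c' := by
  have e := form_swap p h h'
  rw [h1, h2] at e
  simpa [Commute, SemiconjBy, zu, zp_zero] using e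

theorem form_inv {c : G} {φ m : W5} (h : Form p c φ m) : Form p c⁻¹ φ m := by
  obtain ⟨a, b, hab⟩ := form_zero p (c := c * c) (by
    have := form_mul p h h
    rwa [add_self_W, add_self_W] at this)
  have e : c⁻¹ = c * zu z u a b := inv_eq_of_mul_eq_one_right (by
    rw [← mul_assoc, hab, zu_add p, CharTwo.add_self_eq_zero, CharTwo.add_self_eq_zero]; simp [zu, zp_zero])
  rw [e]
  simpa using form_mul p h (form_zu p a b)

theorem form_conj {c c' : G} {φ m φ' m' : W5} (h : Form p c φ m) (h' : Form p c' φ' m') :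
    Form p (c * c' * c⁻¹) φ' m' := by
  have := form_mul p (form_mul p h h') (form_inv p h)
  rwa [add_right_comm, add_self_W, zero_add, add_right_comm, add_self_W, zero_add] at this

omit p

theorem form_y (p : S.Pair u g) {y c : G} (hy : IsStd S y) {φ m : W5} (h : Form p c φ m) :
    Form p (y * c * y⁻¹) (rot φ) (rot m) := by
  obtain ⟨e, x, he, hφ, hf, hx, h5, rfl, rfl⟩ := h
  have hyu : y * u = u * y := comm_y S hy p.u_mem (by rw [p.π_u, T0_u0])
  obtain ⟨h1, h2⟩ := mem_sie.1 he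
  have hce : y * e * y⁻¹ ∈ S.sie g := mem_sie.2 ⟨cz_mul (cz_mul hy.yz h1) (cz_inv hy.yz), p.norm_conj hyu h2⟩
  have hπ : π (y * x * y⁻¹) = T0 (π x) := by rw [← S.act_π hy.yz hx, hy.act]
  have hT : ∀ v, S.act y v = M τ0 0 v := hy.act
  refine ⟨y * e * y⁻¹, y * x * y⁻¹, hce, (rot_ev φ hφ).1, fun v => ?_, S.norm y hy.yz x hx, ?_, ?_,
    (conj_mul).symm⟩
  · obtain ⟨χ, hχ, hχf⟩ := p.sie_form hce
    have he'z := (p.sie_comm hce).1
    have a1 := form_comp (S.act_iso he'z) (S.act_iso hy.yz) hχ ev_zero hχf hT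
    have a2 := form_comp (S.act_iso hy.yz) (S.act_iso h1) ev_zero hφ hT hf
    have h3 := (M_unique (ev_add (ev_perm ev_zero _) hχ) (ev_add (ev_perm hφ _) ev_zero) fun v => by
      rw [← a1, ← a2, ← S.act_mul he'z hy.yz, ← S.act_mul hy.yz h1, inv_mul_cancel_right]).2
    have hχe : χ = rot φ := funext fun i => by simpa [rot] using congrFun h3 i
    rw [hχf, hχe]
  · rw [hπ]; exact ((co_M ev_zero τ0 _).2).trans h5
  · rw [hπ]; exact (co_M ev_zero τ0 _).1.trans (by rw [h5, zero_smul, add_zero]; rfl)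

end CfsgLib.Characterizations.SuzType.Seven
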