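import Cfsg.Agent.Lib.Characterizations.SuzType.Seven.Point
import Cfsg.Agent.Lib.Characterizations.SuzType.Three.Local

/-!
# Four-groups of second-class involutions rotated by the element of order three

They form one class under the centraliser of that element in `C(z)`.
-/

set_option autoImplicit false
set_option linter.unusedSectionVars false
set_option linter.style.haveILetI false

namespace CfsgLib.Characterizations.SuzType.Seven

open Suz CfsgLib.Characterizations.SuzType.Three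

variable {G : Type*} [Group G] [Finite G] {z u g : G} {Q : Subgroup G} {π : G → V}

/-- `t` and its two conjugates under `y` form a four-group with the identity. -/
structure Four (z y t : G) : Prop extends SecondClass z t where
  prod : t * (y * t * y⁻¹) * (y * y * t * (y * y)⁻¹) = 1

theorem Four.conj {y t k : G} (h : Four z y t) (hk : k * z = z * k) (hky : k * y = y * k) :
    Four z y (k * t * k⁻¹) where
  toSecondClass := h.toSecondClass.conj hk
  prod := by
    have h1 : Commute k y := hky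
    have e1 : y * (k * t * k⁻¹) * y⁻¹ = k * (y * t * y⁻¹) * k⁻¹ := by
      calc y * (k * t * k⁻¹) * y⁻¹ = (y * k) * t * (y * k)⁻¹ := by group
        _ = _ := by rw [← hky]; group
    have e2 : y * y * (k * t * k⁻¹) * (y * y)⁻¹ = k * (y * y * t * (y * y)⁻¹) * k⁻¹ := by
      calc y * y * (k * t * k⁻¹) * (y * y)⁻¹ = (y * y * k) * t * (y * y * k)⁻¹ := by group
        _ = _ := by rw [← (h1.mul_right h1).eq]; group
    rw [e1, e2, conj_mul, conj_mul, h.prod, mul_one, mul_inv_cancel]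

variable {S : Suz z Q π} {y : G}

theorem y_conj_inj (hy : IsStd S y) {a : G} : y * y * (y * a * y⁻¹) * (y * y)⁻¹ = a := by
  rw [show y * y * (y * a * y⁻¹) * (y * y)⁻¹ = y ^ 3 * a * (y ^ 3)⁻¹ by simp [pow_succ, mul_assoc], y3 S hy]
  group

theorem Four.commute {t : G} (h : Four z y t) : Commute t (y * t * y⁻¹) := by
  have hinv : ∀ k : G, (k * t * k⁻¹)⁻¹ = k * t * k⁻¹ := fun k =>
    inv_eq_of_mul_eq_one_right (by rw [conj_mul, h.sq]; group)
  have e := eq_inv_of_mul_eq_one_left h.prod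
  rw [hinv] at e
  have e2 : y * t * y⁻¹ * t = y * y * t * (y * y)⁻¹ := by
    rw [← hinv (y * y), ← e, mul_inv_rev, hinv, inv_eq_of_mul_eq_one_right h.sq]
  show t * _ = _ * t
  rw [e, ← e2]

theorem Four.commute_two {t : G} (h : Four z y t) (hy : IsStd S y) : Commute t (y * y * t * (y * y)⁻¹) := by
  have := h.commute.map (MulAut.conj (y * y)).toMonoidHom
  simp only [MulEquiv.coe_toMonoidHom, MulAut.conj_apply] at this
  rw [y_conj_inj hy] at this
  exact this.symm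

/-- The point of a rotated four-group is fixed by `y`. -/
theorem Four.exists_point_fixed {t : G} (h : Four z y t) (hy : IsStd S y) :
    ∃ v, IsPoint S t v ∧ T0 v = v := by
  obtain ⟨v, hv, -⟩ := exists_point S h.toSecondClass
  have hty : y * t * y⁻¹ * z = z * (y * t * y⁻¹) := cz_mul (cz_mul hy.yz h.tz) (cz_inv hy.yz)
  have h1 : IsPoint S (y * t * y⁻¹) (T0 v) := by rw [← hy.act]; exact hv.conj h.tz hy.yz
  have hfix := act_fix_point (h.toSecondClass.conj hy.yz) h1 h.tz h.commute.eq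
  refine ⟨v, hv, perp_T0 v ?_⟩
  rw [B_comm]
  exact point_perp h.toSecondClass hv hfix

variable (p : S.Pair u g)
include p

/-- The form of an involution of the second class with point `u0`. -/
theorem form_of_point {t : G} (h : SecondClass z t) (hv : IsPoint S t u0) :
    ∃ φ m, Form p t φ m ∧ qe φ = 1 ∧ qe m = 1 ∧ dot m φ = 1 := by
  have hi := S.act_iso h.tz
  have hu : S.act t u0 = u0 := act_fix_point h hv h.tz rfl
  obtain ⟨σ, φ, hφ, hf⟩ := exists_form hi hu
  obtain ⟨hσσ, hφσ⟩ := M_unique (τ := 1) (ev_add (ev_perm hφ _) hφ) ev_zero fun w => by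
    rw [← form_comp hi hi hφ hφ hf hf w, act_involution h, evM_zero]
  have hσ : σ = 1 := by
    by_contra hne
    obtain ⟨w, hq, h0, hu0⟩ := moving_second σ hσσ (p.form_even h.tz hφ hf) hne φ hφ
      (fun i => CharTwo.add_eq_zero.1 (congrFun hφσ i))
    obtain ⟨v₀, -, huniq⟩ := exists_point S h
    have hp : IsPoint S t (M σ φ w + w) := ⟨h0, hq, w, by rw [hf]⟩
    exact hu0 ((huniq _ hp).trans (huniq _ hv).symm)
  subst hσ
  obtain ⟨e, he, hef⟩ := p.exists_sie hφ
  obtain ⟨hez, -⟩ := p.sie_comm he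
  set x := e⁻¹ * t with hxdef
  have hx : x ∈ Q := S.mem_of_act_id (cz_mul (cz_inv hez) h.tz) fun w => by
    rw [S.act_mul (cz_inv hez) h.tz, hf, ← hef, S.act_inv_act hez]
  have ht : t = e * x := by rw [hxdef, mul_inv_cancel_left]
  have hφ0 : φ ≠ 0 := fun e' => notMem_Q S h (by
    rw [ht]; exact mul_mem (p.sie_mem_Q he (fun w => by rw [hef, e'])) hx)
  obtain ⟨h5, hdot, hqm⟩ := p.involution_eqs he hφ hφ0 hef hx (by rw [← ht]; exact h.sq)
  refine ⟨φ, co (π x), ⟨e, x, he, hφ, hef, hx, h5, rfl, ht⟩, ?_⟩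
  rcases two_cases (qe φ) with hA | hB
  · exfalso
    rcases case_singular φ _ hφ (ev_co _) hφ0 hA (hqm.trans hA) (hdot.trans hA) with e0 | e0
    · exact h.not_sie p (ht ▸ mul_mem he (p.mem_of_over hx ((perp_facts _ h5).2.2 e0)))
    · obtain ⟨l, x', hl, hle, hx', h5', hco'⟩ := p.shift he hφ hef hx h5
      rw [e0, add_self_W] at hco'
      refine (h.conj hl).not_sie p ?_
      rw [ht, hle]
      exact mul_mem he (p.mem_of_over hx' ((perp_facts _ h5').2.2 hco'))
  · exact ⟨hB, hqm.trans hB, hdot.trans hB⟩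

/-- Conjugation by a preimage of `y0`. -/
theorem form_shift {s c : G} (hs : s ∈ Q) (hπs : π s = y0) {φ m : W5} (h : Form p c φ m) :
    Form p (s * c * s⁻¹) φ (m + φ) := by
  obtain ⟨e, x, he, hφ, hf, hx, h5, rfl, rfl⟩ := h
  obtain ⟨hez, -⟩ := p.sie_comm he
  have hes : e * s * e⁻¹ ∈ Q := S.norm e hez s hs
  set r := e * s * e⁻¹ * s⁻¹ with hr
  have hrQ : r ∈ Q := mul_mem hes (inv_mem hs)
  have hπr : π r = M 1 φ y0 + y0 := by
    rw [hr, S.π_mul _ hes _ (inv_mem hs), S.π_inv hs, ← S.act_π hez hs, hπs, hf]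
  obtain ⟨c1, c2, -⟩ := y0_move φ hφ
  rw [← hπr] at c1 c2
  have her : Commute e r := mul_inv_eq_iff_eq_mul.1 (by
    rw [p.pair_formula he hφ hf hrQ c2, c1, (qe_facts φ hφ).1, zp_zero, zp_zero, one_mul, mul_one])
  have hsx : s * x * s⁻¹ ∈ Q := mul_mem (mul_mem hs hx) (inv_mem hs)
  refine ⟨e, r⁻¹ * (s * x * s⁻¹), he, hφ, hf, mul_mem (inv_mem hrQ) hsx, ?_, ?_, ?_⟩
  all_goals try rw [S.π_mul _ (inv_mem hrQ) _ hsx, S.π_inv hrQ, S.π_conjQ hx hs]
  · rw [Pi.add_apply, c2, h5, add_zero]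
  · rw [co_add, c1, add_comm]
  · calc s * (e * x) * s⁻¹ = (r⁻¹ * e) * (s * x * s⁻¹) := by rw [hr]; group
      _ = (e * r⁻¹) * (s * x * s⁻¹) := by rw [her.inv_right.eq]
      _ = _ := by group

theorem exists_shift (hy : IsStd S y) :
    ∃ s, s ∈ hc z y ∧ s ∈ Q ∧ π s = y0 ∧ s * u * s⁻¹ = u * z := by
  obtain ⟨s, hs, hπ⟩ := S.π_surj y0
  refine ⟨s, kq_le S hy ((mem_kq S hy).2 ⟨hs, by rw [hπ]; exact y0_fixed.1⟩), hs, hπ, ?_⟩
  rw [S.conj_eq p.u_mem hs, hπ, p.π_u, B_comm, y0_fixed.2.2.2.2, zp_one]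

/-- Elements of the same orientation coincide. -/
theorem form_eq (hy : IsStd S y) {t t' : G} (h : Four z y t) (h' : Four z y t') {φ m : W5}
    (hf : Form p t φ m) (hf' : Form p t' φ m) : t' = t := by
  obtain ⟨a, b, hd⟩ := form_zero p (c := t⁻¹ * t') (by
    simpa [add_self_W] using form_mul p (form_inv p hf) hf')
  set d := zu z u a b with hd'
  have hdQ : d ∈ Q := zu_mem p a b
  have hdy : y * d * y⁻¹ = d := by
    have : T0 (π d) = π d := by
      have h0 := (co_zu p a b).1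
      rcases (perp_facts _ (co_zu p a b).2).2.2 h0 with e | e <;> rw [e]
      · exact (S.act_iso hy.yz).map_zero |> fun e' => by rwa [hy.act] at e'
      · exact T0_u0
    rw [comm_y S hy hdQ this, mul_inv_cancel_right]
  have hcd : ∀ {c : G} {φ m : W5}, Form p c φ m → Commute c d := fun hc' =>
    zu_comm p (form_comm_z p hc').1 (form_comm_z p hc').2 a b
  have ht' : t' = t * d := by rw [← hd, mul_inv_cancel_left]
  have h1 : y * t' * y⁻¹ = y * t * y⁻¹ * d := by rw [ht', ← conj_mul, hdy]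
  have hdy2 : y * y * d * (y * y)⁻¹ = d := by
    calc y * y * d * (y * y)⁻¹ = y * (y * d * y⁻¹) * y⁻¹ := by group
      _ = d := by rw [hdy, hdy]
  have h2 : y * y * t' * (y * y)⁻¹ = y * y * t * (y * y)⁻¹ * d := by rw [ht', ← conj_mul, hdy2]
  have f1 := form_y p hy hf
  have f2 : Form p (y * y * t * (y * y)⁻¹) (rot (rot φ)) (rot (rot m)) := by
    rw [show y * y * t * (y * y)⁻¹ = y * (y * t * y⁻¹) * y⁻¹ by group]; exact form_y p hy f1
  have e := h'.prod
  rw [h1, h2, ht', show t * d * (y * t * y⁻¹ * d) * (y * y * t * (y * y)⁻¹ * d) =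
    t * (d * (y * t * y⁻¹)) * (d * (y * y * t * (y * y)⁻¹)) * d by group, ← (hcd f1).eq, ← (hcd f2).eq,
    show t * (y * t * y⁻¹ * d) * (y * y * t * (y * y)⁻¹ * d) * d =
    t * (y * t * y⁻¹) * (d * (y * y * t * (y * y)⁻¹)) * (d * d) by group, ← (hcd f2).eq, hd', zu_add p,
    CharTwo.add_self_eq_zero, CharTwo.add_self_eq_zero, show zu z u 0 0 = 1 by simp [zu, zp_zero], mul_one,
    show t * (y * t * y⁻¹) * (y * y * t * (y * y)⁻¹ * zu z u a b) =
    t * (y * t * y⁻¹) * (y * y * t * (y * y)⁻¹) * zu z u a b by group, h.prod, one_mul] at e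
  rw [ht', hd', e, mul_one]

/-- A rotated four-group exists. -/
theorem exists_four (hy : IsStd S y) : ∃ t, Four z y t ∧ Form p t φ01 m02 := by
  obtain ⟨e₁, he, hef⟩ := p.exists_sie std_facts.1
  obtain ⟨x₀, hx, hπx⟩ := S.π_surj (P m02)
  obtain ⟨c1, -, c3⟩ := co_P m02 std_facts.2.1
  have D : Std p e₁ x₀ := ⟨he, hef, hx, by rw [hπx, c3], by rw [hπx, c1]⟩
  have hf : Form p (e₁ * x₀) φ01 m02 := ⟨e₁, x₀, he, std_facts.1, hef, hx, D.x_five, D.x_co, rfl⟩
  obtain ⟨r1, r2, r3, -⟩ := rot_facts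
  have f1 := form_y p hy hf
  rw [r1, r3] at f1
  have f2 := form_y p hy f1
  rw [r2, r1] at f2
  obtain ⟨a, b, hd⟩ := form_zero p (by
    have hs : φ01 + φ12 + m02 = 0 ∧ m02 + φ01 + φ12 = 0 := by decide +kernel
    have := form_mul p (form_mul p hf f1) f2
    rwa [hs.1, hs.2] at this)
  have hfd : Form p (e₁ * x₀ * zu z u a b) φ01 m02 := by simpa using form_mul p hf (form_zu p a b)
  have hdc := co_zu p a b
  have D' : Std p e₁ (x₀ * zu z u a b) := ⟨he, hef, mul_mem hx (zu_mem p a b),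
    by rw [S.π_mul _ hx _ (zu_mem p a b), Pi.add_apply, D.x_five, hdc.2, add_zero],
    by rw [S.π_mul _ hx _ (zu_mem p a b), co_add, D.x_co, hdc.1, add_zero]⟩
  refine ⟨e₁ * (x₀ * zu z u a b), ⟨⟨D'.t_sq, fun e => D'.t_notMem (e ▸ one_mem Q), D'.t_cz, D'.not_conj⟩, ?_⟩,
    by rw [← mul_assoc]; exact hfd⟩
  rw [← mul_assoc e₁]
  set t := e₁ * x₀
  set d := zu z u a b with hd'
  have hdy : y * d * y⁻¹ = d := by
    have : T0 (π d) = π d := by
      rcases (perp_facts _ hdc.2).2.2 hdc.1 with e | e <;> rw [e]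
      · exact (S.act_iso hy.yz).map_zero |> fun e' => by rwa [hy.act] at e'
      · exact T0_u0
    rw [comm_y S hy (zu_mem p a b) this, mul_inv_cancel_right]
  have hcd : ∀ {c : G} {φ m : W5}, Form p c φ m → Commute c d := fun hc' =>
    zu_comm p (form_comm_z p hc').1 (form_comm_z p hc').2 a b
  have h1 : y * (t * d) * y⁻¹ = y * t * y⁻¹ * d := by rw [← conj_mul, hdy]
  have h2 : y * y * (t * d) * (y * y)⁻¹ = y * (y * t * y⁻¹) * y⁻¹ * d := by
    calc y * y * (t * d) * (y * y)⁻¹ = y * (y * (t * d) * y⁻¹) * y⁻¹ := by group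
      _ = _ := by rw [h1, ← conj_mul, hdy]
  rw [h1, h2]
  calc t * d * (y * t * y⁻¹ * d) * (y * (y * t * y⁻¹) * y⁻¹ * d)
      = t * (d * (y * t * y⁻¹)) * (d * (y * (y * t * y⁻¹) * y⁻¹)) * d := by group
    _ = t * (y * t * y⁻¹) * (d * (y * (y * t * y⁻¹) * y⁻¹)) * (d * d) := by
        rw [← (hcd f1).eq, ← (hcd f2).eq]
        calc t * (y * t * y⁻¹ * d) * (y * (y * t * y⁻¹) * y⁻¹ * d) * d
            = t * (y * t * y⁻¹) * (d * (y * (y * t * y⁻¹) * y⁻¹)) * (d * d) := by group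
          _ = _ := by rw [← (hcd f2).eq]
    _ = t * (y * t * y⁻¹) * (y * (y * t * y⁻¹) * y⁻¹) * (d * (d * d)) := by rw [← (hcd f2).eq]; group
    _ = d * (d * (d * d)) := by rw [hd]
    _ = 1 := by
        rw [hd', zu_add p a b a b, zu_add p a b, zu_add p a b]
        simp [CharTwo.add_self_eq_zero, zu, zp_zero]

/-- Every rotated four-group is conjugate to the standard one inside `C(z, y)`. -/
theorem conj_four (hy : IsStd S y) {t t' : G} (h : Four z y t) (hf : Form p t φ01 m02) (h' : Four z y t') :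
    ∃ k, k ∈ hc z y ∧ k * t' * k⁻¹ = t := by
  obtain ⟨v, hv, hTv⟩ := h'.exists_point_fixed hy
  obtain ⟨l, hlz, hly, hlv⟩ := exists_move S hy hv.1 hv.2.1 hTv
  have hl : l⁻¹ ∈ hc z y := inv_mem (mem_hc.2 ⟨hlz, hly⟩)
  obtain ⟨hliz, hliy⟩ := mem_hc.1 hl
  set t₁ := l⁻¹ * t' * l⁻¹⁻¹
  have h₁ : Four z y t₁ := h'.conj hliz hliy
  have hv₁ : IsPoint S t₁ u0 := by
    have := hv.conj h'.tz hliz
    rwa [← hlv, S.act_inv_act hlz] at this
  obtain ⟨φ, m, hf₁, hqφ, hqm, hdot⟩ := form_of_point p h₁.toSecondClass hv₁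
  have g1 := form_y p hy hf₁
  have g2 : Form p (y * y * t₁ * (y * y)⁻¹) (rot (rot φ)) (rot (rot m)) := by
    rw [show y * y * t₁ * (y * y)⁻¹ = y * (y * t₁ * y⁻¹) * y⁻¹ by group]; exact form_y p hy g1
  have hprod := form_mul p (form_mul p hf₁ g1) g2
  rw [h₁.prod] at hprod
  have hone : Form p (1 : G) 0 0 := by simpa [zu, zp_zero] using form_zu p 0 0
  obtain ⟨e1, e2⟩ := form_unique p hprod hone
  obtain ⟨r1, r2, r3, -, -, r6⟩ := rot_facts
  obtain ⟨j, hj, hfj⟩ : ∃ j, j ∈ hc z y ∧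
      (Form p (j * t₁ * j⁻¹) φ01 m02 ∨ Form p (j * t₁ * j⁻¹) φ01 φ12) := by
    obtain ⟨hev, hev'⟩ := form_ev p hf₁
    have hym : y ∈ hc z y := y_mem S hy
    rcases orientation φ m hev hev' hqφ hqm hdot e1 e2 with ⟨rfl, hm⟩ | ⟨rfl, hm⟩ | ⟨rfl, hm⟩
    · refine ⟨1, one_mem _, ?_⟩
      rw [one_mul, inv_one, mul_one]
      rcases hm with rfl | rfl
      · exact Or.inl hf₁
      · exact Or.inr hf₁
    · refine ⟨y * y, mul_mem hym hym, ?_⟩
      rw [r2, r3] at g2
      rcases hm with rfl | rfl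
      · exact Or.inl (by rwa [r1, r2] at g2)
      · exact Or.inr (by rwa [r3, r1] at g2)
    · refine ⟨y, hym, ?_⟩
      rw [r3] at g1
      rcases hm with rfl | rfl
      · exact Or.inl (by rwa [r2] at g1)
      · exact Or.inr (by rwa [r1] at g1)
  obtain ⟨s, hs, hsQ, hπs, -⟩ := exists_shift p hy
  obtain ⟨j', hj', hf'⟩ : ∃ j', j' ∈ hc z y ∧ Form p (j' * t₁ * j'⁻¹) φ01 m02 := by
    rcases hfj with hh | hh
    · exact ⟨j, hj, hh⟩
    · refine ⟨s * j, mul_mem hs hj, ?_⟩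
      have := form_shift p hsQ hπs hh
      have e : φ12 + φ01 = m02 := by decide +kernel
      rw [e] at this
      rwa [show s * j * t₁ * (s * j)⁻¹ = s * (j * t₁ * j⁻¹) * s⁻¹ by group]
  refine ⟨j' * l⁻¹, mul_mem hj' hl, ?_⟩
  have := form_eq p hy h (h₁.conj (mem_hc.1 hj').1 (mem_hc.1 hj').2) hf hf'
  rw [← this]
  show j' * l⁻¹ * t' * (j' * l⁻¹)⁻¹ = j' * (l⁻¹ * t' * l⁻¹⁻¹) * j'⁻¹
  group

end CfsgLib.Characterizations.SuzType.Seven
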