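import Cfsg.Agent.Lib.Characterizations.SuzType.Seven.Four

/-!
# Centralisers of a rotated four-group inside `C(z)`
-/

set_option autoImplicit false
set_option linter.unusedSectionVars false
set_option linter.style.haveILetI false

namespace CfsgLib.Characterizations.SuzType.Seven

open Suz CfsgLib.Characterizations.SuzType.Three

/-- `C(z, y) ∩ C(t)`. -/
def hct {G : Type*} [Group G] (z y t : G) : Subgroup G := hc z y ⊓ Subgroup.centralizer ({t} : Set G)

theorem mem_hct {G : Type*} [Group G] [Finite G] {z y t c : G} :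
    c ∈ hct z y t ↔ c * z = z * c ∧ c * y = y * c ∧ c * t = t * c := by
  rw [hct, Subgroup.mem_inf, mem_hc, Subgroup.mem_centralizer_singleton_iff, and_assoc]

theorem six_distinct : ∀ i j : Fin 6,
    (![φ01, φ12, m02, φ01, φ12, m02] i = ![φ01, φ12, m02, φ01, φ12, m02] j ∧
      ![m02, φ01, φ12, φ12, m02, φ01] i = ![m02, φ01, φ12, φ12, m02, φ01] j) → i = j := by decide +kernel

variable {G : Type*} [Group G] [Finite G] {z u g : G} {Q : Subgroup G} {π : G → V} {S : Suz z Q π} {y : G}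
variable (p : S.Pair u g)
include p

theorem point_of_form {t : G} {m : W5} (hf : Form p t φ01 m) : IsPoint S t u0 := by
  obtain ⟨w, hw⟩ := t_point_attained
  exact ⟨by decide, by decide, w, by rw [form_act p hf, hw]⟩

theorem form_conj_stab {c : G} (hc' : c * z = z * c) (hcu : c * u = u * c) {σ : Equiv.Perm (Fin 5)} {ψ : W5}
    (hψ : Ev ψ) (hf : ∀ v, S.act c v = M σ ψ v) {a : G} {φ m : W5} (h : Form p a φ m) :
    Form p (c * a * c⁻¹) (fun i => φ (σ⁻¹ i)) (fun i => m (σ⁻¹ i)) := by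
  obtain ⟨e, x, he, hφ, hef, hx, h5, rfl, rfl⟩ := h
  obtain ⟨h1, h2⟩ := mem_sie.1 he
  have hce : c * e * c⁻¹ ∈ S.sie g := mem_sie.2 ⟨cz_mul (cz_mul hc' h1) (cz_inv hc'), p.norm_conj hcu h2⟩
  have hπ : π (c * x * c⁻¹) = M σ ψ (π x) := by rw [← S.act_π hc' hx, hf]
  refine ⟨c * e * c⁻¹, c * x * c⁻¹, hce, ev_perm hφ _, fun v => ?_, S.norm c hc' x hx, ?_, ?_, (conj_mul).symm⟩
  · obtain ⟨χ, hχ, hχf⟩ := p.sie_form hce
    have he'z := (p.sie_comm hce).1
    have a1 := form_comp (S.act_iso he'z) (S.act_iso hc') hχ hψ hχf hf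
    have a2 := form_comp (S.act_iso hc') (S.act_iso h1) hψ hφ hf hef
    have h3 := (M_unique (ev_add (ev_perm hψ _) hχ) (ev_add (ev_perm hφ _) hψ) fun v => by
      rw [← a1, ← a2, ← S.act_mul he'z hc', ← S.act_mul hc' h1, inv_mul_cancel_right]).2
    have h3' : ψ + χ = (fun i => φ (σ⁻¹ i)) + ψ := by simpa using h3
    rw [add_comm (fun i => φ (σ⁻¹ i))] at h3'
    rw [hχf, add_left_cancel h3']
  · rw [hπ]; exact ((co_M hψ σ _).2).trans h5
  · rw [hπ, (co_M hψ σ _).1, h5, zero_smul, add_zero]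

/-- The form of an element of `C(z)` commuting with `t`. -/
theorem cent_shape {t : G} {m : W5} (ht : SecondClass z t) (hf : Form p t φ01 m) {c : G}
    (hc' : c * z = z * c) (hct' : c * t = t * c) :
    ∃ σ ψ, Ev ψ ∧ (∀ v, S.act c v = M σ ψ v) ∧ Equiv.Perm.sign σ = 1 ∧ (∀ i, φ01 (σ⁻¹ i) = φ01 i) ∧
      (c * u * c⁻¹ = u ∨ c * u * c⁻¹ = u * z) := by
  have hfix := act_fix_point ht (point_of_form p hf) hc' hct'
  obtain ⟨σ, ψ, hψ, hfc⟩ := exists_form (S.act_iso hc') hfix
  refine ⟨σ, ψ, hψ, hfc, p.form_even hc' hψ hfc, fun i => ?_, ?_⟩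
  · have htf := form_act p hf
    have a1 := form_comp (S.act_iso hc') (S.act_iso ht.tz) hψ std_facts.1 hfc htf
    have a2 := form_comp (S.act_iso ht.tz) (S.act_iso hc') std_facts.1 hψ htf hfc
    have h3 := (M_unique (ev_add (ev_perm std_facts.1 _) hψ) (ev_add (ev_perm hψ _) std_facts.1) fun v => by
      rw [← a1, ← a2, ← S.act_mul hc' ht.tz, ← S.act_mul ht.tz hc', hct']).2
    have h4 := congrFun h3 i
    simp only [Pi.add_apply, inv_one, Equiv.Perm.one_apply] at h4
    rw [add_comm (ψ i)] at h4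
    exact add_right_cancel h4
  · refine S.π_eq p.u_mem (S.norm c hc' u p.u_mem) ?_
    rw [← S.act_π hc' p.u_mem, p.π_u, hfix]

/-- The centraliser of `t` in `C(z)` has no nontrivial element of odd order. -/
theorem eq_one_of_odd {t : G} (ht : SecondClass z t) (hf : Form p t φ01 m02) {c : G} (hc' : c * z = z * c)
    (hct' : c * t = t * c) (hodd : Odd (orderOf c)) : c = 1 := by
  obtain ⟨σ, ψ, hψ, hfc, -, hφ, hu⟩ := cent_shape p ht hf hc' hct'
  have hcu : c * u = u * c := by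
    rcases hu with e | e
    · exact mul_inv_eq_iff_eq_mul.1 e
    exfalso
    have hn : ∀ n : ℕ, c ^ n * u * (c ^ n)⁻¹ = u * zp z (n : ZMod 2) := by
      intro n
      induction n with
      | zero => simp [zp_zero]
      | succ n ih =>
        rw [pow_succ', show c * c ^ n * u * (c * c ^ n)⁻¹ = c * (c ^ n * u * (c ^ n)⁻¹) * c⁻¹ by group, ih,
          show c * (u * zp z (n : ZMod 2)) * c⁻¹ = c * u * c⁻¹ * (c * zp z (n : ZMod 2) * c⁻¹) by group, e,
          S.zp_comm _ hc', mul_inv_cancel_right, Nat.cast_succ, add_comm (n : ZMod 2), S.zp_add, zp_one, mul_assoc]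
    have := hn (orderOf c)
    rw [pow_orderOf_eq_one, ZMod.natCast_eq_one_iff_odd.2 hodd, zp_one, one_mul, inv_one, mul_one] at this
    exact S.extra.z_ne (mul_eq_left.1 this.symm)
  have h1 := form_conj_stab p hc' hcu hψ hfc hf
  rw [hct', mul_inv_cancel_right] at h1
  have hσ2 : σ ^ 2 = 1 := fix_01_odd σ hφ fun i => (congrFun (form_unique p hf h1).2 i).symm
  have hc2z : c * c * z = z * (c * c) := cz_mul hc' hc'
  have hpow : ∀ v, S.act (c * c) v = M 1 ((fun i => ψ (σ⁻¹ i)) + ψ) v := fun v => by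
    rw [S.act_mul hc' hc', form_comp (S.act_iso hc') (S.act_iso hc') hψ hψ hfc hfc v, ← pow_two σ, hσ2]
  set χ := (fun i => ψ (σ⁻¹ i)) + ψ with hχ
  have hχev : Ev χ := ev_add (ev_perm hψ _) hψ
  have h4Q : c * c * (c * c) ∈ Q := S.mem_of_act_id (cz_mul hc2z hc2z) fun v => by
    rw [S.act_mul hc2z hc2z, form_comp (S.act_iso hc2z) (S.act_iso hc2z) hχev hχev hpow hpow v]
    simp [add_self_W, evM_zero]
  have h16 : c ^ 16 = 1 := by
    have e : c ^ 16 = c * c * (c * c) * (c * c * (c * c)) * (c * c * (c * c) * (c * c * (c * c))) := by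
      simp [pow_succ, mul_assoc]
    rw [e]
    rcases S.extra.sq_cases h4Q with h | h <;> rw [h]
    · exact one_mul 1
    · exact S.extra.z_sq
  have := Nat.dvd_gcd (orderOf_dvd_of_pow_eq_one h16) dvd_rfl
  rw [show (16 : ℕ) = 2 ^ 4 by norm_num, ((Nat.coprime_two_left.2 hodd).pow_left 4).gcd_eq_one, Nat.dvd_one,
    orderOf_eq_one_iff] at this
  exact this

theorem isPGroup_cent {t : G} (ht : SecondClass z t) (hf : Form p t φ01 m02) :
    IsPGroup 2 ↥(Subgroup.centralizer ({z} : Set G) ⊓ Subgroup.centralizer ({t} : Set G)) := by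
  intro c
  obtain ⟨k, m, hm, hkm⟩ : ∃ k m, ¬ 2 ∣ m ∧ orderOf (c : G) = 2 ^ k * m :=
    Nat.exists_eq_pow_mul_and_not_dvd (orderOf_pos (c : G)).ne' 2 (by norm_num)
  refine ⟨k, Subtype.ext ?_⟩
  rw [Subgroup.coe_pow, Subgroup.coe_one]
  obtain ⟨h1, h2⟩ := c.2
  refine eq_one_of_odd p ht hf ((show Commute (c : G) z from Subgroup.mem_centralizer_singleton_iff.1 h1).pow_left _).eq
    ((show Commute (c : G) t from Subgroup.mem_centralizer_singleton_iff.1 h2).pow_left _).eq ?_
  rw [orderOf_pow, hkm, Nat.gcd_mul_right_left, Nat.mul_div_cancel_left _ (by positivity)]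
  exact Nat.odd_iff.2 (by omega)

variable (hy : IsStd S y) {t : G} (h : Four z y t) (hf : Form p t φ01 m02)
include hy h hf

theorem form_one : Form p (y * t * y⁻¹) φ12 φ01 := by
  have := form_y p hy hf
  rwa [rot_facts.1, rot_facts.2.2.1] at this

/-- An element of `C(z)` centralising the four-group is a product of one centralising `y` and one of the group. -/
theorem cent_four_split {c : G} (hc' : c * z = z * c) (h0 : c * t = t * c)
    (h1 : c * (y * t * y⁻¹) = y * t * y⁻¹ * c) :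
    ∃ k ∈ hct z y t, ∃ e ∈ Subgroup.closure ({t, y * t * y⁻¹} : Set G), c = k * e := by
  obtain ⟨σ, ψ, hψ, hfc, hsign, hφ, hu⟩ := cent_shape p h.toSecondClass hf hc' h0
  have hf1 := form_one p hy h hf
  have ht1z : y * t * y⁻¹ * z = z * (y * t * y⁻¹) := cz_mul (cz_mul hy.yz h.tz) (cz_inv hy.yz)
  have hφ' : ∀ i, φ12 (σ⁻¹ i) = φ12 i := fun i => by
    have htf := form_act p hf1
    have hev : Ev φ12 := rot_facts.2.2.2.2.1
    have a1 := form_comp (S.act_iso hc') (S.act_iso ht1z) hψ hev hfc htf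
    have a2 := form_comp (S.act_iso ht1z) (S.act_iso hc') hev hψ htf hfc
    have h3 := (M_unique (ev_add (ev_perm hev _) hψ) (ev_add (ev_perm hψ _) hev) fun v => by
      rw [← a1, ← a2, ← S.act_mul hc' ht1z, ← S.act_mul ht1z hc', h1]).2
    have h4 := congrFun h3 i
    simp only [Pi.add_apply, inv_one, Equiv.Perm.one_apply] at h4
    rw [add_comm (ψ i)] at h4
    exact add_right_cancel h4
  obtain rfl := fix_012 σ hsign hφ hφ'
  obtain ⟨e, he, hef⟩ := p.exists_sie hψ
  obtain ⟨hez, -⟩ := p.sie_comm he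
  set x := e⁻¹ * c with hxdef
  have hx : x ∈ Q := S.mem_of_act_id (cz_mul (cz_inv hez) hc') fun w => by
    rw [S.act_mul (cz_inv hez) hc', hfc, ← hef, S.act_inv_act hez]
  have hce : c = e * x := by rw [hxdef, mul_inv_cancel_left]
  have hx5 : π x 5 = 0 := by
    rcases two_cases (π x 5) with h5 | h5
    · exact h5
    exfalso
    obtain ⟨s, hs, hπs⟩ := S.π_surj y0
    set x' := s⁻¹ * x with hx'
    have hx'Q : x' ∈ Q := mul_mem (inv_mem hs) hx
    have h5' : π x' 5 = 0 := by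
      rw [hx', S.π_mul _ (inv_mem hs) _ hx, S.π_inv hs, hπs, Pi.add_apply, y0_fixed.2.2.1, h5]; decide
    have fx : Form p x' 0 (co (π x')) :=
      ⟨1, x', one_mem _, ev_zero, Pair.act_one_form, hx'Q, h5', rfl, (one_mul _).symm⟩
    have fe : Form p e ψ 0 :=
      ⟨e, 1, he, hψ, hef, one_mem _, by rw [S.π_one]; rfl, by rw [S.π_one, co_zero], (mul_one e).symm⟩
    have hh := form_conj p fe (form_shift p hs hπs (form_conj p fx hf))
    rw [show e * (s * (x' * t * x'⁻¹) * s⁻¹) * e⁻¹ = c * t * c⁻¹ by rw [hce, hx']; group, h0,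
      mul_inv_cancel_right, rot_facts.2.2.2.2.2] at hh
    exact absurd (form_unique p hf hh).2 (by decide +kernel)
  have fc : Form p c ψ (co (π x)) := ⟨e, x, he, hψ, hef, hx, hx5, rfl, hce⟩
  have hker : ∀ {a : G} {φ m : W5}, Form p a φ m → c * a = a * c →
      cz ψ (co (π x)) φ m = 0 ∧ cu ψ (co (π x)) φ m = 0 := fun {a φ m} fa hca => by
    have e := form_swap p fc fa
    rw [hca, left_eq_mul] at e
    exact p.mix_inj (a' := 0) (b' := 0) (by rw [zp_zero, zp_zero, mul_one]; exact e)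
  obtain ⟨z1, z2⟩ := hker hf h0
  obtain ⟨z3, z4⟩ := hker hf1 h1
  obtain ⟨a, b, ha, hb⟩ := cent_four ψ _ hψ (ev_co _) z1 z2 z3 z4
  set ε := zp t a * zp (y * t * y⁻¹) b with hε
  have fone : Form p (1 : G) 0 0 := by simpa [zu, zp_zero] using form_zu p 0 0
  have fzp : ∀ {w : G} {φ m : W5}, Form p w φ m → ∀ a : ZMod 2, Form p (zp w a) (a • φ) (a • m) := by
    intro w φ m fw a
    rcases two_cases a with rfl | rfl
    · rw [zp_zero, zero_smul, zero_smul]; exact fone
    · rw [zp_one, one_smul, one_smul]; exact fw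
  have fε : Form p ε (a • φ01 + b • φ12) (a • m02 + b • φ01) := form_mul p (fzp hf a) (fzp hf1 b)
  have hεm : ε ∈ Subgroup.closure ({t, y * t * y⁻¹} : Set G) := by
    refine mul_mem ?_ ?_
    · rcases two_cases a with rfl | rfl
      · rw [zp_zero]; exact one_mem _
      · rw [zp_one]; exact Subgroup.subset_closure (Or.inl rfl)
    · rcases two_cases b with rfl | rfl
      · rw [zp_zero]; exact one_mem _
      · rw [zp_one]; exact Subgroup.subset_closure (Or.inr rfl)
  set k := c * ε with hk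
  have fk := form_mul p fc fε
  have fyk := form_y p hy fk
  rw [ha, hb] at fyk
  obtain ⟨a', b', hd⟩ := form_zero p (c := k⁻¹ * (y * k * y⁻¹)) (by
    have hh := form_mul p (form_inv p fk) fyk
    rw [add_self_W, add_self_W] at hh
    exact hh)
  have hky : y * k * y⁻¹ = k * zu z u a' b' := by rw [← hd, mul_inv_cancel_left]
  set d := zu z u a' b'
  have hdy : y * d * y⁻¹ = d := by
    have : T0 (π d) = π d := by
      rcases (perp_facts _ (co_zu p a' b').2).2.2 (co_zu p a' b').1 with e | e <;> rw [e]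
      · exact (S.act_iso hy.yz).map_zero |> fun e' => by rwa [hy.act] at e'
      · exact T0_u0
    rw [comm_y S hy (zu_mem p a' b') this, mul_inv_cancel_right]
  have hkk : y * y * k * (y * y)⁻¹ = k * d * d := by
    calc y * y * k * (y * y)⁻¹ = y * (y * k * y⁻¹) * y⁻¹ := by group
      _ = k * d * d := by rw [hky, ← conj_mul, hky, hdy]
  have hd1 : d = 1 := by
    have e3 : y * (y * y * k * (y * y)⁻¹) * y⁻¹ = k := by
      rw [show y * (y * y * k * (y * y)⁻¹) * y⁻¹ = y ^ 3 * k * (y ^ 3)⁻¹ by simp [pow_succ, mul_assoc], y3 S hy]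
      group
    rw [hkk, ← conj_mul, ← conj_mul, hky, hdy] at e3
    have hdd : d * d = 1 := by
      show zu z u a' b' * zu z u a' b' = 1
      rw [zu_add p, CharTwo.add_self_eq_zero, CharTwo.add_self_eq_zero]
      simp [zu, zp_zero]
    rw [mul_assoc k d d, hdd, mul_one, mul_eq_left] at e3
    exact e3
  rw [hd1, mul_one] at hky
  have hcε : Commute t ε ∧ Commute z ε := by
    have hz1 : ∀ w : G, Commute z w → ∀ a, Commute z (zp w a) := fun w hw a => by
      rcases two_cases a with rfl | rfl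
      · rw [zp_zero]; exact Commute.one_right z
      · rwa [zp_one]
    have ht1' : ∀ w : G, Commute t w → ∀ a, Commute t (zp w a) := fun w hw a => by
      rcases two_cases a with rfl | rfl
      · rw [zp_zero]; exact Commute.one_right t
      · rwa [zp_one]
    exact ⟨(ht1' t (Commute.refl t) a).mul_right (ht1' _ h.commute b),
      (hz1 t h.tz.symm a).mul_right (hz1 _ ht1z.symm b)⟩
  refine ⟨k, mem_hct.2 ⟨cz_mul hc' hcε.2.eq.symm, (mul_inv_eq_iff_eq_mul.1 hky).symm, ?_⟩,
    ε⁻¹, inv_mem hεm, (mul_inv_cancel_right c ε).symm⟩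
  exact ((show Commute c t from h0).mul_left hcε.1.symm).eq

theorem exists_witness : ∃ a b : G, a ∈ hct z y t ∧ b ∈ hct z y t ∧ a * a = 1 ∧ a ≠ 1 ∧ b * b = 1 ∧ b ≠ 1 ∧
    ¬ Commute a b ∧ u ∈ hct z y t ∧ Commute a u ∧ a ≠ z ∧ a ≠ u ∧ a ≠ u * z := by
  obtain ⟨T3, T4, q3, q4, h34, n3, n4, n3', c1, c2, c3, c4⟩ := fixed_pts
  obtain ⟨k3, hk3, hπ3⟩ := S.π_surj (P (pt 3))
  obtain ⟨k4, hk4, hπ4⟩ := S.π_surj (P (pt 4))
  have hmem : ∀ {k : G} {v : V}, k ∈ Q → π k = v → T0 v = v → v 5 = 0 →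
      cz φ01 m02 0 (co v) = 0 → cu φ01 m02 0 (co v) = 0 → k ∈ hct z y t := by
    intro k v hk hπ hT h5 e1 e2
    have fk : Form p k 0 (co v) :=
      ⟨1, k, one_mem _, ev_zero, Pair.act_one_form, hk, by rw [hπ, h5], by rw [hπ], (one_mul _).symm⟩
    exact mem_hct.2 ⟨S.mem_cz hk, (comm_y S hy hk (by rw [hπ]; exact hT)).symm,
      (form_commute p hf fk e1 e2).symm.eq⟩
  obtain ⟨p3, -, f3⟩ := co_P _ (ev_pt 3)
  obtain ⟨p4, -, f4⟩ := co_P _ (ev_pt 4)
  refine ⟨k3, k4, hmem hk3 hπ3 T3 f3 (by rw [p3]; exact c1) (by rw [p3]; exact c2),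
    hmem hk4 hπ4 T4 f4 (by rw [p4]; exact c3) (by rw [p4]; exact c4), ?_, ?_, ?_, ?_, ?_, ?_, ?_, ?_, ?_, ?_⟩
  · exact (S.q_iff k3 hk3).1 (by rw [hπ3, q3])
  · intro e; rw [e, S.π_one] at hπ3; exact n3 hπ3.symm
  · exact (S.q_iff k4 hk4).1 (by rw [hπ4, q4])
  · intro e; rw [e, S.π_one] at hπ4; exact n4 hπ4.symm
  · intro e
    have := (S.comm_iff hk3 hk4).1 e.eq
    rw [hπ3, hπ4, h34] at this
    exact one_ne_zero this
  · exact hmem p.u_mem p.π_u T0_u0 (by decide) (by decide +kernel) (by decide +kernel)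
  · exact (p.comm_of_π hk3 (by rw [hπ3, f3]))
  · intro e; rw [e, S.π_z] at hπ3; exact n3 hπ3.symm
  · intro e; rw [e, p.π_u] at hπ3; exact n3' hπ3.symm
  · intro e; rw [e, S.π_mul _ p.u_mem _ S.extra.z_mem, p.π_u, S.π_z, add_zero] at hπ3; exact n3' hπ3.symm

theorem card_hct : Nat.card ↥(hct z y t) ≤ 64 := by
  classical
  let _ : MulAction ↥(hc z y) G :=
    { smul := fun c a => (c : G) * a * (c : G)⁻¹
      one_smul := fun a => show ((1 : ↥(hc z y)) : G) * a * ((1 : ↥(hc z y)) : G)⁻¹ = a by simp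
      mul_smul := fun c d a => show ((c * d : ↥(hc z y)) : G) * a * ((c * d : ↥(hc z y)) : G)⁻¹ =
        (c : G) * ((d : G) * a * (d : G)⁻¹) * (c : G)⁻¹ by simp [mul_assoc] }
  have hos := (MulAction.stabilizer ↥(hc z y) t).index_mul_card
  rw [MulAction.index_stabilizer, card_hc S hy] at hos
  have hst : Nat.card (MulAction.stabilizer ↥(hc z y) t) = Nat.card ↥(hct z y t) := Nat.card_congr
    { toFun := fun c => ⟨((c : ↥(hc z y)) : G), c.1.2,
        Subgroup.mem_centralizer_singleton_iff.2 (mul_inv_eq_iff_eq_mul.1 c.2)⟩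
      invFun := fun c => ⟨⟨c, c.2.1⟩, mul_inv_eq_iff_eq_mul.2 (Subgroup.mem_centralizer_singleton_iff.1 c.2.2)⟩
      left_inv := fun c => rfl
      right_inv := fun c => rfl }
  obtain ⟨s, hs, hsQ, hπs, -⟩ := exists_shift p hy
  obtain ⟨r1, r2, r3, -, -, r6⟩ := rot_facts
  let w : Fin 6 → G := ![1, y, y * y, s, y * s, y * y * s]
  have hym := y_mem S hy
  have hw : ∀ i, w i ∈ hc z y := by
    intro i; fin_cases i <;> simp [w, one_mem, hym, mul_mem, hs]
  have fw : ∀ i, Form p (w i * t * (w i)⁻¹) (![φ01, φ12, m02, φ01, φ12, m02] i)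
      (![m02, φ01, φ12, φ12, m02, φ01] i) := by
    have f1 := form_one p hy h hf
    have f2 := form_y p hy f1
    rw [r2, r1] at f2
    have g0 : Form p (s * t * s⁻¹) φ01 φ12 := by
      have := form_shift p hsQ hπs hf
      rwa [r6] at this
    have g1 := form_y p hy g0
    rw [r1, r2] at g1
    have g2 := form_y p hy g1
    rw [r2, r3] at g2
    intro i
    fin_cases i <;> simp [w]
    · exact hf
    · exact f1
    · simpa [mul_assoc] using f2
    · exact g0
    · simpa [mul_assoc] using g1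
    · simpa [mul_assoc] using g2
  let X := {v : V // v ≠ 0 ∧ q v = 0 ∧ T0 v = v}
  choose l hlz hly hlv using fun v : X => exists_move S hy v.2.1 v.2.2.1 v.2.2.2
  let f : X × Fin 6 → MulAction.orbit ↥(hc z y) t := fun a =>
    ⟨_, ⟨⟨l a.1 * w a.2, mul_mem (mem_hc.2 ⟨hlz a.1, hly a.1⟩) (hw a.2)⟩, rfl⟩⟩
  have hinj : Function.Injective f := by
    rintro ⟨v, i⟩ ⟨v', i'⟩ e
    have e' : l v * w i * t * (l v * w i)⁻¹ = l v' * w i' * t * (l v' * w i')⁻¹ := congrArg Subtype.val e
    have hpt : ∀ v j, IsPoint S (l v * w j * t * (l v * w j)⁻¹) (v : V) := by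
      intro v j
      have hwz := (mem_hc.1 (hw j)).1
      have hsc := h.toSecondClass.conj hwz
      have hcases : ![φ01, φ12, m02, φ01, φ12, m02] j = φ01 ∨ ![φ01, φ12, m02, φ01, φ12, m02] j = φ12 ∨
          ![φ01, φ12, m02, φ01, φ12, m02] j = m02 := by fin_cases j <;> simp
      have hp0 : IsPoint S (w j * t * (w j)⁻¹) u0 := by
        have hu : S.act (w j) u0 = u0 := by
          have hyu : S.act y u0 = u0 := by rw [hy.act, T0_u0]
          have hsu : S.act s u0 = u0 := S.act_Q hsQ _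
          fin_cases j <;>
            simp [w, S.act_one, hyu, hsu, S.act_mul hy.yz hy.yz, S.act_mul hy.yz (mem_hc.1 hs).1,
              S.act_mul (cz_mul hy.yz hy.yz) (mem_hc.1 hs).1]
        have := (point_of_form p hf).conj h.tz hwz
        rwa [hu] at this
      have := hp0.conj hsc.tz (hlz v)
      rw [hlv, show l v * (w j * t * (w j)⁻¹) * (l v)⁻¹ = l v * w j * t * (l v * w j)⁻¹ by group] at this
      exact this
    have hsc : SecondClass z (l v * w i * t * (l v * w i)⁻¹) :=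
      h.toSecondClass.conj (cz_mul (hlz v) (mem_hc.1 (hw i)).1)
    obtain ⟨v₀, -, huniq⟩ := exists_point S hsc
    have hvv : v = v' := Subtype.ext ((huniq _ (hpt v i)).trans (huniq _ (e' ▸ hpt v' i')).symm)
    subst hvv
    have e'' : w i * t * (w i)⁻¹ = w i' * t * (w i')⁻¹ := by
      calc w i * t * (w i)⁻¹ = (l v)⁻¹ * (l v * w i * t * (l v * w i)⁻¹) * l v := by group
        _ = _ := by rw [e']; group
    have := fw i
    rw [e''] at this
    obtain ⟨a1, a2⟩ := form_unique p this (fw i')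
    rw [six_distinct i i' ⟨a1, a2⟩]
  have h54 := Nat.card_le_card_of_injective f hinj
  rw [Nat.card_prod, Nat.card_fin, Nat.card_coe_set_eq (MulAction.orbit ↥(hc z y) t)] at h54
  have hX : Nat.card X = 9 := by
    rw [← singular_count, Nat.card_eq_fintype_card, Fintype.card_subtype]
  rw [hX] at h54
  rw [hst] at hos
  nlinarith

end CfsgLib.Characterizations.SuzType.Seven
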