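import Cfsg.Agent.Lib.Characterizations.SuzType.Seven.InverterModel
import Cfsg.Agent.Lib.Characterizations.SuzType.Seven.Local
import Cfsg.Agent.Lib.Characterizations.SuzType.Three.Local

/-!
# Involutions of `C(z)` inverting the standard element of order three
-/

set_option autoImplicit false
set_option linter.unusedSectionVars false
set_option linter.style.haveILetI false

namespace CfsgLib.Characterizations.SuzType.Seven

open Suz CfsgLib.Characterizations.SuzType.Three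

variable {G : Type*} [Group G]

/-- An involution of `C(z)` inverting `y`. -/
structure Inverter (z y σ : G) : Prop where
  sq : σ * σ = 1
  sz : σ * z = z * σ
  inv : σ * y * σ⁻¹ = y⁻¹

/-- The centraliser of an inverter in `C(z, y)`. -/
def ninv (z y σ : G) : Subgroup G := hc z y ⊓ Subgroup.centralizer ({σ} : Set G)

theorem Inverter.conj {z y σ l : G} (h : Inverter z y σ) (hl : l * z = z * l) (hly : l * y = y * l) :
    Inverter z y (l * σ * l⁻¹) where
  sq := by rw [conj_mul, h.sq]; group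
  sz := ((show Commute l z from hl).mul_left h.sz).mul_left (show Commute l z from hl).inv_left
  inv := by
    have h1 : l⁻¹ * y = y * l⁻¹ := (show Commute l y from hly).inv_left.eq
    calc l * σ * l⁻¹ * y * (l * σ * l⁻¹)⁻¹ = l * σ * (l⁻¹ * y) * l * σ⁻¹ * l⁻¹ := by group
      _ = l * (σ * y * σ⁻¹) * l⁻¹ := by rw [h1]; group
      _ = y⁻¹ := by rw [h.inv, (show Commute l y from hly).inv_right.eq, mul_inv_cancel_right]

variable [Finite G] {z u g : G} {Q : Subgroup G} {π : G → V} {S : Suz z Q π} {y σ : G}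
variable (hy : IsStd S y) (h : Inverter z y σ)
include hy h

theorem act_flip (v : V) : S.act σ (T0 v) = T0 (T0 (S.act σ v)) := by
  have e : σ * y = y * y * σ := by
    rw [mul_inv_eq_iff_eq_mul.1 h.inv]
    congr 1
    refine inv_eq_of_mul_eq_one_right ?_
    rw [← y3 S hy]
    simp [pow_succ, mul_assoc]
  rw [← hy.act, ← hy.act, ← hy.act, ← S.act_mul h.sz hy.yz, e, S.act_mul (cz_mul hy.yz hy.yz) h.sz,
    S.act_mul hy.yz hy.yz]

theorem act_self (v : V) : S.act σ (S.act σ v) = v := by rw [← S.act_mul h.sz h.sz, h.sq, S.act_one]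

theorem exists_fixed_point : ∃ w, w ≠ 0 ∧ q w = 0 ∧ T0 w = w ∧ S.act σ w = w := by
  classical
  let X := {w : V // w ≠ 0 ∧ q w = 0 ∧ T0 w = w}
  have hi := S.act_iso h.sz
  let f : X → X := fun w => ⟨S.act σ w, fun e => w.2.1 (hi.inj (e.trans hi.map_zero.symm)),
    (hi.quad w).trans w.2.2.1, by
      have e := act_flip hy h (w : V)
      rw [w.2.2.2] at e
      conv_lhs => rw [e, T0_three]
      ⟩
  let e : Equiv.Perm X := ⟨f, f, fun w => Subtype.ext (act_self hy h w), fun w => Subtype.ext (act_self hy h w)⟩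
  haveI : Fact (Nat.Prime 2) := ⟨Nat.prime_two⟩
  obtain ⟨w, hw⟩ := Equiv.Perm.exists_fixed_point_of_prime (p := 2) (n := 1) (σ := e)
    (by rw [Fintype.card_subtype, singular_count]; norm_num)
    (Equiv.ext fun w => by rw [pow_one, pow_two]; exact Subtype.ext (act_self hy h w))
  exact ⟨w, w.2.1, w.2.2.1, w.2.2.2, congrArg Subtype.val hw⟩

omit h in
theorem plane_image {l : G} (hl : l ∈ hc z y) (s : Bool) (x : Fin 3) :
    ∃ s' x', S.act l (vp s x) = vp s' x' := by
  obtain ⟨s', α, β, k, hs⟩ := hc_shape S hy hl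
  cases s
  · exact ⟨_, _, hs.fa x⟩
  · exact ⟨_, _, hs.fb x⟩

omit hy h in
theorem act_trans {l : G} (hl : l * z = z * l) (r v : V) :
    S.act l (trans r v) = trans (S.act l r) (S.act l v) := by
  rw [trans, trans, (S.act_iso hl).add, (S.act_iso hl).map_smul, (S.act_iso hl).polar]

variable (p : S.Pair u g)
include p

theorem act_eq : ∃ s x c, ∀ v, S.act σ v = tr2 s x c v := by
  obtain ⟨w, hw0, hwq, hwT, hwσ⟩ := exists_fixed_point hy h
  obtain ⟨l, hlz, hly, hlw⟩ := exists_move S hy hw0 hwq hwT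
  have hli := cz_inv hlz
  have h' := h.conj hli (Commute.inv_left hly).eq
  set σ' := l⁻¹ * σ * l⁻¹⁻¹ with hσ'
  have hfix : S.act σ' u0 = u0 := by
    rw [hσ', S.act_conj hli h.sz, inv_inv, hlw, hwσ, ← hlw, S.act_inv_act hlz]
  obtain ⟨τ, ψ, hψ, hf⟩ := exists_form (S.act_iso h'.sz) hfix
  have hsign := p.form_even h'.sz hψ hf
  have hflip : ∀ v, M τ ψ (T0 v) = T0 (T0 (M τ ψ v)) := fun v => by
    rw [← hf, ← hf]; exact act_flip hy h' v
  have hself : ∀ v, M τ ψ (M τ ψ v) = v := fun v => by rw [← hf, ← hf]; exact act_self hy h' v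
  have hyT : ∀ v, S.act y v = M τ0 0 v := hy.act
  have e1 : τ * τ = 1 := by
    refine (M_unique (ev_add (ev_perm hψ τ⁻¹) hψ) ev_zero fun v => ?_).1
    rw [← form_comp (S.act_iso h'.sz) (S.act_iso h'.sz) hψ hψ hf hf v, act_self hy h' v, evM_zero]
  have e2 : τ * τ0 = τ0 * τ0 * τ := by
    have a1 := form_comp (S.act_iso h'.sz) (S.act_iso hy.yz) hψ ev_zero hf hyT
    have hy2 : y * y * z = z * (y * y) := cz_mul hy.yz hy.yz
    have a2 : ∀ v, S.act (y * y) v = M (τ0 * τ0) ((fun i => (0 : W5) (τ0⁻¹ i)) + 0) v := fun v => by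
      rw [S.act_mul hy.yz hy.yz, form_comp (S.act_iso hy.yz) (S.act_iso hy.yz) ev_zero ev_zero hyT hyT v]
    have a3 := form_comp (S.act_iso hy2) (S.act_iso h'.sz) (ev_add (ev_perm ev_zero τ0⁻¹) ev_zero) hψ a2 hf
    refine (M_unique (ev_add (ev_perm ev_zero τ⁻¹) hψ)
      (ev_add (ev_perm hψ (τ0 * τ0)⁻¹) (ev_add (ev_perm ev_zero τ0⁻¹) ev_zero)) fun v => ?_).1
    rw [← a1, ← a3, hy.act, S.act_mul hy.yz hy.yz, hy.act, hy.act]
    exact act_flip hy h' v
  obtain ⟨s, x, c, htr⟩ := inverter_forms τ hsign e1 e2 ψ hψ hflip hself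
  have hlc : l ∈ hc z y := mem_hc.2 ⟨hlz, hly⟩
  obtain ⟨s', x', hr⟩ := plane_image hy hlc s x
  obtain ⟨s₀, α, β, k, hs⟩ := hc_shape S hy hlc
  refine ⟨s', x', c + k, fun v => ?_⟩
  calc S.act σ v = S.act l (S.act σ' (S.act l⁻¹ v)) := by
        rw [hσ', S.act_conj hli h.sz, inv_inv, S.act_act_inv hlz, S.act_act_inv hlz]
    _ = S.act l (tr2 s x c (S.act l⁻¹ v)) := by rw [hf, htr]
    _ = tr2 s' x' (c + k) v := by
        rw [tr2, tr2, act_trans hlz, act_trans hlz, hr, hs.fe, S.act_act_inv hlz]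

/-- Inverters lie in the second class. -/
theorem secondClass : SecondClass z σ := by
  obtain ⟨s, x, c, hact⟩ := act_eq hy h p
  obtain ⟨v, hv⟩ := tr2_not_tsing s x c
  have hns : ¬ Tsing S σ := fun ht => by
    have := ht v
    rw [hact, hv] at this
    exact one_ne_zero this
  have hne : σ ≠ 1 := fun e => hns fun v => by rw [e, S.act_one, add_self_V, q_zero]
  have hQ : σ ∉ Q := fun e => hns fun v => by rw [S.act_Q e, add_self_V, q_zero]
  refine ⟨h.sq, hne, h.sz, ?_⟩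
  obtain ⟨e₁, he, hef⟩ := p.exists_sie std_facts.1
  obtain ⟨x₀, hx, hπx⟩ := S.π_surj (P m02)
  obtain ⟨c1, -, c3⟩ := co_P m02 std_facts.2.1
  have D : Std p e₁ x₀ := ⟨he, hef, hx, by rw [hπx, c3], by rw [hπx, c1]⟩
  rcases D.classify h.sz hQ h.sq with ⟨k, hk, hks⟩ | ⟨k, hk, hks⟩
  · exfalso
    refine hns (tsing_conj S hk h.sz ?_)
    obtain ⟨φ, hφ, hf⟩ := p.sie_form hks
    have hsq := congrArg π (p.sie_sq hks hφ hf)
    rw [conj_mul, h.sq, mul_one, mul_inv_cancel, S.π_one, p.up_π] at hsq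
    have hq : qe φ = 0 := by simpa [u0] using (congrFun hsq 4).symm
    intro w
    rw [hf]
    exact (M_one_co φ hφ w).2.2 hq
  · intro e
    exact D.not_conj (e.trans (isConj_iff.2 ⟨k, hks⟩))

omit hy h in
theorem exists_std_conj {t : G} (ht : SecondClass z t) : ∃ k, k * z = z * k ∧ Form p (k * t * k⁻¹) φ01 m02 := by
  obtain ⟨e₁, he, hef⟩ := p.exists_sie std_facts.1
  obtain ⟨x₀, hx, hπx⟩ := S.π_surj (P m02)
  obtain ⟨c1, -, c3⟩ := co_P m02 std_facts.2.1
  have D : Std p e₁ x₀ := ⟨he, hef, hx, by rw [hπx, c3], by rw [hπx, c1]⟩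
  rcases D.classify ht.tz (notMem_Q S ht) ht.sq with ⟨k, hk, hks⟩ | ⟨k, hk, hks⟩
  · exact absurd hks ((ht.conj hk).not_sie p)
  · exact ⟨k, hk, hks ▸ ⟨e₁, x₀, he, std_facts.1, hef, hx, D.x_five, D.x_co, rfl⟩⟩

omit hy h in
theorem isPGroup_cent_second {t : G} (ht : SecondClass z t) :
    IsPGroup 2 ↥(Subgroup.centralizer ({z} : Set G) ⊓ Subgroup.centralizer ({t} : Set G)) := by
  obtain ⟨k, hk, hf⟩ := exists_std_conj p ht
  refine (isPGroup_cent p (ht.conj hk) hf).of_injective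
    (MonoidHom.codRestrict ((MulAut.conj k).toMonoidHom.comp (Subgroup.subtype _)) _ fun c => ?_)
    fun a b e => Subtype.ext ((MulAut.conj k).injective (congrArg Subtype.val e))
  obtain ⟨h1, h2⟩ := c.2
  have h1' := (Subgroup.mem_centralizer_singleton_iff.1 h1)
  have h2' := (Subgroup.mem_centralizer_singleton_iff.1 h2)
  refine ⟨Subgroup.mem_centralizer_singleton_iff.2 (cz_mul (cz_mul hk h1') (cz_inv hk)),
    Subgroup.mem_centralizer_singleton_iff.2 ?_⟩
  show k * (c : G) * k⁻¹ * (k * t * k⁻¹) = k * t * k⁻¹ * (k * (c : G) * k⁻¹)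
  rw [conj_mul, conj_mul, h2']

omit hy h in
/-- No two anticommuting elements of order four in `Q` centralise an involution of the second class. -/
theorem no_pair {t a b : G} (ht : SecondClass z t) (ha : a ∈ Q) (hb : b ∈ Q) (hqa : q (π a) = 1)
    (hqb : q (π b) = 1) (hta : Commute t a) (htb : Commute t b) : B (π a) (π b) = 0 := by
  obtain ⟨k, hk, hf⟩ := exists_std_conj p ht
  have key : ∀ {c : G}, c ∈ Q → Commute t c → M 1 φ01 (S.act k (π c)) = S.act k (π c) ∧
      cz φ01 m02 0 (co (S.act k (π c))) = 0 := by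
    intro c hcQ htc
    have hcm : k * c * k⁻¹ ∈ Q := S.norm k hk c hcQ
    have hcomm : k * t * k⁻¹ * (k * c * k⁻¹) = k * c * k⁻¹ * (k * t * k⁻¹) := by
      rw [conj_mul, conj_mul, htc.eq]
    have hfix : M 1 φ01 (π (k * c * k⁻¹)) = π (k * c * k⁻¹) := by
      rw [← form_act p hf, S.act_π (ht.conj hk).tz hcm, hcomm, mul_inv_cancel_right]
    refine ⟨by rw [S.act_π hk hcQ]; exact hfix, ?_⟩
    have fc : Form p (k * c * k⁻¹) 0 (co (π (k * c * k⁻¹))) :=
      ⟨1, _, one_mem _, ev_zero, Pair.act_one_form, hcm, std_fixed _ hfix, rfl, (one_mul _).symm⟩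
    have e := form_swap p hf fc
    rw [hcomm, left_eq_mul] at e
    rw [S.act_π hk hcQ]
    exact (p.mix_inj (a' := 0) (b' := 0) (e.trans (by rw [zp_zero, zp_zero, mul_one]))).1
  obtain ⟨a1, a2⟩ := key ha hta
  obtain ⟨b1, b2⟩ := key hb htb
  have hi := S.act_iso hk
  rw [← hi.polar]
  exact std_no_pair _ a1 (by rw [hi.quad, hqa]) a2 _ b1 (by rw [hi.quad, hqb]) b2

omit hy in
/-- Lifts of non-singular commutators are inverted. -/
theorem inverted {r : G} (hr : r ∈ Q) {v : V} (hv : π r = S.act σ v + v) : σ * r * σ⁻¹ = r⁻¹ := by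
  obtain ⟨x, hx, hxv⟩ := S.π_surj v
  have hσx : σ * x * σ⁻¹ ∈ Q := S.norm σ h.sz x hx
  set d := σ * x * σ⁻¹ * x⁻¹ with hd
  have hdQ : d ∈ Q := mul_mem hσx (inv_mem hx)
  have hdπ : π d = π r := by
    rw [hv, hd, S.π_mul _ hσx _ (inv_mem hx), S.π_inv hx, ← S.act_π h.sz hx, hxv]
  have hdi : σ * d * σ⁻¹ = d⁻¹ := by
    have hσi : σ⁻¹ = σ := inv_eq_of_mul_eq_one_right h.sq
    calc σ * d * σ⁻¹ = σ * σ * x * σ⁻¹ * x⁻¹ * σ⁻¹ := by rw [hd]; group
      _ = x * σ * x⁻¹ * σ⁻¹ := by rw [h.sq, one_mul, hσi]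
      _ = d⁻¹ := by rw [hd]; group
  rcases S.π_eq hdQ hr hdπ with e | e <;> rw [e]
  · exact hdi
  · rw [← conj_mul, hdi, show σ * z * σ⁻¹ = z by rw [h.sz, mul_inv_cancel_right],
      show (d * z)⁻¹ = z⁻¹ * d⁻¹ from mul_inv_rev d z, inv_eq_of_mul_eq_one_right S.extra.z_sq]
    exact (show Commute d⁻¹ z from (show Commute d z from S.mem_cz hdQ).inv_left).eq

/-- Another involution in the centraliser. -/
theorem exists_invol : ∃ j ∈ ninv z y σ, j * j = 1 ∧ j ≠ 1 ∧ j ≠ z := by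
  obtain ⟨s, x, c, hact⟩ := act_eq hy h p
  obtain ⟨v, hv⟩ := tr2_attained s x c
  obtain ⟨r, hr, hπr⟩ := S.π_surj (vp s x)
  have hri := inverted h p hr (v := v) (by rw [hπr, hact, hv])
  have hrq : r * r = z := by rw [S.sq_eq hr, hπr, (vp_fixed s x).2, zp_one]
  have hrinv : r⁻¹ = r * z := by
    refine inv_eq_of_mul_eq_one_right ?_
    rw [← mul_assoc, hrq, S.extra.z_sq]
  choose X hX hπX using fun i : Fin 3 => S.π_surj (vp (!s) i)
  -- some lift is inverted
  obtain ⟨i, hi⟩ : ∃ i, σ * X i * σ⁻¹ = X i * z := by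
    by_contra hcon
    have hfix : ∀ i, Commute σ (X i) := fun i => by
      have hm := S.norm σ h.sz _ (hX i)
      have e : π (σ * X i * σ⁻¹) = π (X i) := by
        rw [← S.act_π h.sz (hX i), hπX, hact, (tr2_other s x c i).1]
      rcases S.π_eq (hX i) hm e.symm with e' | e'
      · exact mul_inv_eq_iff_eq_mul.1 e'
      · exact absurd ⟨i, e'⟩ hcon
    have := no_pair p (secondClass hy h p) (hX 0) (hX 1) (by rw [hπX]; exact (vp_fixed _ _).2)
      (by rw [hπX]; exact (vp_fixed _ _).2) (hfix 0) (hfix 1)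
    rw [hπX, hπX, vp_form, if_neg (by decide)] at this
    exact one_ne_zero this
  have hjQ : X i * r ∈ Q := mul_mem (hX i) hr
  obtain ⟨-, -, hT, hq, hne⟩ := tr2_other s x c i
  have hπj : π (X i * r) = vp (!s) i + vp s x := by rw [S.π_mul _ (hX i) _ hr, hπX, hπr]
  have hjσ : Commute σ (X i * r) := mul_inv_eq_iff_eq_mul.1 (by
    rw [← conj_mul, hi, hri, hrinv, show X i * z * (r * z) = X i * (z * r * z) by group,
      S.extra.z_comm hr, mul_assoc r, S.extra.z_sq, mul_one])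
  refine ⟨X i * r, ⟨kq_le S hy ((mem_kq S hy).2 ⟨hjQ, by rw [hπj]; exact hT⟩),
    Subgroup.mem_centralizer_singleton_iff.2 hjσ.symm.eq⟩, (S.q_iff _ hjQ).1 (by rw [hπj]; exact hq), ?_, ?_⟩
  · intro e; rw [e, S.π_one] at hπj; exact hne hπj.symm
  · intro e; rw [e, S.π_z] at hπj; exact hne hπj.symm

end CfsgLib.Characterizations.SuzType.Seven
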