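import Cfsg.Agent.Lib.Characterizations.SuzType.Seven.Inverter

/-!
# The order of the centraliser of an inverter in `C(z, y)`
-/

set_option autoImplicit false
set_option linter.unusedSectionVars false
set_option linter.style.haveILetI false

namespace CfsgLib.Characterizations.SuzType.Seven

open Suz CfsgLib.Characterizations.SuzType.Three

variable {G : Type*} [Group G] [Finite G] {z u g : G} {Q : Subgroup G} {π : G → V} {S : Suz z Q π} {y σ : G}
variable (hy : IsStd S y) (h : Inverter z y σ) (p : S.Pair u g)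
include hy h p

theorem isPGroup_ninv : IsPGroup 2 ↥(ninv z y σ) :=
  (isPGroup_cent_second p (secondClass hy h p)).to_le (inf_le_inf_right _ inf_le_left)

omit h p in
/-- An isometry fixing a plane pointwise is not a transvection. -/
theorem act_ne_trans (p : S.Pair u g) {c : G} (hc : c ∈ hc z y) (s : Bool) (x : Fin 3)
    (hf : ∀ v, S.act c v = trans (vp s x) v) : False := by
  obtain ⟨w, hw0, hwq, hwT, hwf⟩ := trans_point s x
  obtain ⟨l, hlz, hly, hlw⟩ := exists_move S hy hw0 hwq hwT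
  have hlc : l⁻¹ ∈ Three.hc z y := inv_mem (mem_hc.2 ⟨hlz, hly⟩)
  obtain ⟨s', x', hr⟩ := plane_image hy hlc s x
  have hli := cz_inv hlz
  have hcz := (mem_hc.1 hc).1
  have hd : ∀ v, S.act (l⁻¹ * c * l) v = trans (vp s' x') v := fun v => by
    rw [S.act_mul (cz_mul hli hcz) hlz, S.act_mul hli hcz, hf, act_trans hli, hr, S.act_inv_act hlz]
  have hdu : S.act (l⁻¹ * c * l) u0 = u0 := by
    rw [S.act_mul (cz_mul hli hcz) hlz, S.act_mul hli hcz, hlw, hf, hwf, ← hlw, S.act_inv_act hlz]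
  have hdz := cz_mul (cz_mul hli hcz) hlz
  obtain ⟨τ, ψ, hψ, hform⟩ := exists_form (S.act_iso hdz) hdu
  obtain ⟨i, hi⟩ := trans_odd τ (p.form_even hdz hψ hform) s' x' (by rw [← hd, hdu])
  refine hi ?_
  obtain ⟨c1, -, c3⟩ := co_P _ (ev_pt i)
  rw [← hd, hform, (co_M hψ τ _).1, c1, c3, zero_smul, add_zero, pt_perm]

/-- The action of an element of the centraliser of an inverter. -/
theorem ninv_shape {s : Bool} {x c : Fin 3} (hact : ∀ v, S.act σ v = tr2 s x c v) {n : G}
    (hn : n ∈ ninv z y σ) :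
    ∃ α β : Equiv.Perm (Fin 3), α x = x ∧ ∀ i, S.act n (vp s i) = vp s (α i) ∧
      S.act n (vp (!s) i) = vp (!s) (β i) ∧ S.act n (ve i) = ve i := by
  obtain ⟨hnc, hnσ⟩ := hn
  have hnσ' : n * σ = σ * n := Subgroup.mem_centralizer_singleton_iff.1 hnσ
  have hnz := (mem_hc.1 hnc).1
  obtain ⟨s', α, β, k, hs⟩ := hc_shape S hy hnc
  obtain ⟨s'', x'', hr⟩ := plane_image hy hnc s x
  obtain ⟨rfl, rfl, hc'⟩ := tr2_inj s'' x'' (c + k) s x c fun v => by
    rw [← hact, show v = S.act n (S.act n⁻¹ v) from (S.act_act_inv hnz v).symm, ← S.act_mul h.sz hnz, ← hnσ',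
      S.act_mul hnz h.sz, hact, tr2, tr2, act_trans hnz, act_trans hnz, hr, hs.fe]
  obtain rfl : k = 0 := by simpa using hc'
  cases s''
  · have hs0 : s' = false := by
      by_contra hne
      rw [show s' = true by simpa using hne] at hs
      exact vp_ne (s := false) x'' _ (hr.symm.trans (hs.fa x''))
    subst hs0
    exact ⟨α, β, vp_inj (s := false) ((hs.fa x'').symm.trans hr), fun i =>
      ⟨hs.fa i, hs.fb i, by rw [hs.fe, add_zero]⟩⟩
  · have hs0 : s' = false := by
      by_contra hne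
      rw [show s' = true by simpa using hne] at hs
      exact vp_ne (s := true) x'' _ (hr.symm.trans (hs.fb x''))
    subst hs0
    exact ⟨β, α, vp_inj (s := true) ((hs.fb x'').symm.trans hr), fun i =>
      ⟨hs.fb i, hs.fa i, by rw [hs.fe, add_zero]⟩⟩

/-- An element acting trivially on the other plane lies in `Q`. -/
theorem mem_Q_of_fix {s : Bool} {x c : Fin 3} (hact : ∀ v, S.act σ v = tr2 s x c v) {n : G}
    (hn : n ∈ ninv z y σ) (hfix : ∀ i, S.act n (vp (!s) i) = vp (!s) i) : n ∈ Q := by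
  obtain ⟨α, β, hαx, hsh⟩ := ninv_shape hy h p hact hn
  have hnz := (mem_hc.1 hn.1).1
  by_cases hα : α = 1
  · subst hα
    cases s
    · exact rotAct_mem S hnz ⟨fun i => (hsh i).1.trans (by rw [add_zero]; rfl),
        fun i => (hfix i).trans (by rw [add_zero]; rfl), fun i => by rw [(hsh i).2.2, add_zero]⟩
    · exact rotAct_mem S hnz ⟨fun i => (hfix i).trans (by rw [add_zero]; rfl),
        fun i => (hsh i).1.trans (by rw [add_zero]; rfl), fun i => by rw [(hsh i).2.2, add_zero]⟩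
  · refine (act_ne_trans hy p hn.1 s x ?_).elim
    have hiso := trans_iso (r := vp s x) (vp_fixed s x).2
    have ht := trans_perm s x α hαx hα
    cases s
    · exact iso_ext (S.act_iso hnz) hiso (fun i => (hsh i).1.trans (ht i).1.symm)
        (fun i => (hfix i).trans (ht i).2.1.symm) fun i => (hsh i).2.2.trans (ht i).2.2.symm
    · exact iso_ext (S.act_iso hnz) hiso (fun i => (hfix i).trans (ht i).2.1.symm)
        (fun i => (hsh i).1.trans (ht i).1.symm) fun i => (hsh i).2.2.trans (ht i).2.2.symm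

theorem card_ninv_le : Nat.card ↥(ninv z y σ) ≤ 32 := by
  classical
  obtain ⟨s, x, c, hact⟩ := act_eq hy h p
  have hN2 := isPGroup_ninv hy h p
  -- the permutation of the other plane is an involution
  have hsq : ∀ n ∈ ninv z y σ, ∀ β : Equiv.Perm (Fin 3),
      (∀ i, S.act n (vp (!s) i) = vp (!s) (β i)) → β * β = 1 := by
    intro n hn β hβ
    have hnz := (mem_hc.1 hn.1).1
    obtain ⟨m, hm⟩ := hN2 ⟨n, hn⟩
    have hpow : ∀ N : ℕ, ∀ i, S.act (n ^ N) (vp (!s) i) = vp (!s) ((β ^ N) i) := by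
      intro N
      induction N with
      | zero => intro i; rw [pow_zero, pow_zero, S.act_one]; rfl
      | succ N ih =>
        intro i
        rw [pow_succ, S.act_mul ((show Commute n z from hnz).pow_left N).eq hnz, hβ, ih, pow_succ]
        rfl
    have hm' : n ^ 2 ^ m = 1 := congrArg Subtype.val hm
    have h1 : β ^ 2 ^ m = 1 := Equiv.ext fun i => vp_inj (s := !s) (by
      rw [← hpow, hm', S.act_one]; rfl)
    have hd : orderOf β ∣ 2 := by
      have := Nat.dvd_gcd (orderOf_dvd_of_pow_eq_one h1) (orderOf_dvd_of_pow_eq_one (perm_cube β))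
      refine this.trans ?_
      rw [show (6 : ℕ) = 2 * 3 from rfl, Nat.Coprime.gcd_mul_right_cancel_right 2 (Nat.Coprime.pow_right m (by norm_num))]
      exact Nat.gcd_dvd_right _ _
    rw [← pow_two]
    exact orderOf_dvd_iff_pow_eq_one.1 hd
  -- two elements outside `Q` differ by an element of `Q`
  have hdiff : ∀ n ∈ ninv z y σ, ∀ n' ∈ ninv z y σ, n ∉ Q → n' ∉ Q → n⁻¹ * n' ∈ Q := by
    intro n hn n' hn' hnQ hnQ'
    obtain ⟨α, β, -, hsh⟩ := ninv_shape hy h p hact hn
    obtain ⟨α', β', -, hsh'⟩ := ninv_shape hy h p hact hn'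
    have hβ := hsq n hn β fun i => (hsh i).2.1
    have hβ' := hsq n' hn' β' fun i => (hsh' i).2.1
    have hnz := (mem_hc.1 hn.1).1
    have hinv : ∀ i, S.act n⁻¹ (vp (!s) i) = vp (!s) (β i) := fun i => by
      have e := congrArg (S.act n⁻¹) ((hsh (β i)).2.1)
      rw [S.act_inv_act hnz, show β (β i) = i from Equiv.ext_iff.1 hβ i] at e
      exact e.symm
    have hm : ∀ i, S.act (n⁻¹ * n') (vp (!s) i) = vp (!s) ((β * β') i) := fun i => by
      rw [S.act_mul (cz_inv hnz) (mem_hc.1 hn'.1).1, (hsh' i).2.1, hinv]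
      rfl
    have hb := hsq _ (mul_mem (inv_mem hn) hn') _ hm
    have hne : ∀ {m : G}, m ∈ ninv z y σ → m ∉ Q → ∀ γ : Equiv.Perm (Fin 3),
        (∀ i, S.act m (vp (!s) i) = vp (!s) (γ i)) → γ ≠ 1 := fun hm' hmQ γ hγ e =>
      hmQ (mem_Q_of_fix hy h p hact hm' fun i => by rw [hγ, e]; rfl)
    obtain rfl := perm3_two β β' hβ hβ' hb (hne hn hnQ β fun i => (hsh i).2.1)
      (hne hn' hnQ' β' fun i => (hsh' i).2.1)
    exact mem_Q_of_fix hy h p hact (mul_mem (inv_mem hn) hn') fun i => by rw [hm, hβ]; rfl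
  -- the part in `Q`
  let A := {pb : V × Bool // T0 pb.1 = pb.1 ∧ tr2 s x c pb.1 = pb.1}
  have hA : Nat.card A = 16 := by
    rw [← tr2_fixed s x c, Nat.card_eq_fintype_card, Fintype.card_subtype]
  have hQmem : ∀ n : ↥(ninv z y σ ⊓ Q), T0 (π (n : G)) = π (n : G) ∧ tr2 s x c (π (n : G)) = π (n : G) := by
    intro n
    obtain ⟨⟨hc', hnσ⟩, hQ⟩ := n.2
    refine ⟨((mem_kq S hy).1 ⟨hQ, hc'.2⟩).2, ?_⟩
    rw [← hact, S.act_π h.sz hQ, ← Subgroup.mem_centralizer_singleton_iff.1 hnσ, mul_inv_cancel_right]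
  let F : ↥(ninv z y σ ⊓ Q) → A := fun n => ⟨(π (n : G), decide ((n : G) = S.sec (π (n : G)))), hQmem n⟩
  have hF : Function.Injective F := fun a b e => by
    have e1 : π (a : G) = π (b : G) := congrArg (fun w : A => w.1.1) e
    have e2 : ((a : G) = S.sec (π (a : G))) ↔ ((b : G) = S.sec (π (b : G))) :=
      decide_eq_decide.1 (congrArg (fun w : A => w.1.2) e)
    rw [e1] at e2
    apply Subtype.ext
    rcases S.π_eq a.2.2 (S.sec_mem (π (b : G))) (e1.trans (S.π_sec _).symm) with ea | ea <;>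
      rcases S.π_eq b.2.2 (S.sec_mem (π (b : G))) (S.π_sec _).symm with eb | eb
    · exact ea.symm.trans eb
    · exact ea.symm.trans (e2.1 ea.symm).symm
    · exact (e2.2 eb.symm).trans eb
    · exact mul_right_cancel (ea.symm.trans eb)
  have h16 : Nat.card ↥(ninv z y σ ⊓ Q) ≤ 16 := hA ▸ Nat.card_le_card_of_injective F hF
  by_cases hall : ninv z y σ ≤ Q
  · rw [inf_eq_left.2 hall] at h16
    omega
  obtain ⟨n₀, hn₀, hn₀Q⟩ := SetLike.not_le_iff_exists.1 hall
  let f : ↥(ninv z y σ) → Bool × ↥(ninv z y σ ⊓ Q) := fun n =>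
    if hQ : (n : G) ∈ Q then (false, ⟨n, n.2, hQ⟩)
    else (true, ⟨n₀⁻¹ * n, (ninv z y σ).mul_mem ((ninv z y σ).inv_mem hn₀) n.2, hdiff n₀ hn₀ n n.2 hn₀Q hQ⟩)
  have hf : Function.Injective f := fun a b e => by
    simp only [f] at e
    split_ifs at e with ha hb hb
    · exact Subtype.ext (congrArg (fun w : Bool × ↥(ninv z y σ ⊓ Q) => (w.2 : G)) e)
    · exact absurd (congrArg Prod.fst e) (by simp)
    · exact absurd (congrArg Prod.fst e) (by simp)
    · exact Subtype.ext (mul_left_cancel (congrArg (fun w : Bool × ↥(ninv z y σ ⊓ Q) => (w.2 : G)) e))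
  have := Nat.card_le_card_of_injective f hf
  rw [Nat.card_prod, Nat.card_eq_two_iff.2 ⟨false, true, by simp, by ext b; cases b <;> simp⟩] at this
  omega

theorem card_ninv_ge : 16 ≤ Nat.card ↥(ninv z y σ) := by
  classical
  let Inv := {s' : G // Inverter z y s'}
  let B := {pb : ((Bool × Fin 3 × Fin 3) × V) × Bool //
    T0 pb.1.2 = pb.1.2 ∧ tr2 pb.1.1.1 pb.1.1.2.1 pb.1.1.2.2 pb.1.2 = pb.1.2}
  have hB : Nat.card B = 288 := by
    rw [← tr2_lifts, Nat.card_eq_fintype_card, Fintype.card_subtype]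
  -- a reference inverter for each action
  let ref : Bool × Fin 3 × Fin 3 → G := fun i =>
    if hi : ∃ s', Inverter z y s' ∧ ∀ v, S.act s' v = tr2 i.1 i.2.1 i.2.2 v then hi.choose else 1
  have hex : ∀ a : Inv, ∃ i : Bool × Fin 3 × Fin 3, (Inverter z y (ref i) ∧
      ∀ v, S.act (ref i) v = tr2 i.1 i.2.1 i.2.2 v) ∧ ∀ v, S.act (a : G) v = tr2 i.1 i.2.1 i.2.2 v := fun a => by
    obtain ⟨s, x, c, ha⟩ := act_eq hy a.2 p
    have hi : ∃ s', Inverter z y s' ∧ ∀ v, S.act s' v = tr2 (s, x, c).1 (s, x, c).2.1 (s, x, c).2.2 v := ⟨a, a.2, ha⟩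
    exact ⟨(s, x, c), by simp only [ref, dif_pos hi]; exact hi.choose_spec, ha⟩
  choose idx hidx using hex
  have hdQ : ∀ a : Inv, (ref (idx a))⁻¹ * a ∈ Q := fun a => S.mem_of_act_id
    (cz_mul (cz_inv (hidx a).1.1.sz) a.2.sz) fun v => by
    rw [S.act_mul (cz_inv (hidx a).1.1.sz) a.2.sz, (hidx a).2, ← (hidx a).1.2, S.act_inv_act (hidx a).1.1.sz]
  have hmem : ∀ a : Inv, T0 (π ((ref (idx a))⁻¹ * a)) = π ((ref (idx a))⁻¹ * a) ∧
      tr2 (idx a).1 (idx a).2.1 (idx a).2.2 (π ((ref (idx a))⁻¹ * a)) = π ((ref (idx a))⁻¹ * a) := by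
    intro a
    set r := ref (idx a) with hr
    obtain ⟨⟨hR, hRa⟩, ha⟩ := hidx a
    have hd := hdQ a
    constructor
    · refine ((mem_kq S hy).1 ⟨hd, Subgroup.mem_centralizer_singleton_iff.2 ?_⟩).2
      refine mul_inv_eq_iff_eq_mul.1 ?_
      have hr' : r⁻¹ * y * r = y⁻¹ := by
        rw [show r⁻¹ = r from inv_eq_of_mul_eq_one_right hR.sq]
        conv_lhs => rw [show r * y * r = r * y * r⁻¹ by rw [inv_eq_of_mul_eq_one_right hR.sq]]
        exact hR.inv
      calc r⁻¹ * (a : G) * y * (r⁻¹ * (a : G))⁻¹ = r⁻¹ * ((a : G) * y * (a : G)⁻¹) * r := by group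
        _ = (r⁻¹ * y * r)⁻¹ := by rw [a.2.inv]; group
        _ = y := by rw [hr', inv_inv]
    · rw [← hRa, S.act_π hR.sz hd]
      rw [show r * (r⁻¹ * (a : G)) * r⁻¹ = (r⁻¹ * (a : G))⁻¹ by
        rw [mul_inv_cancel_left, mul_inv_rev, inv_inv, inv_eq_of_mul_eq_one_right hR.sq,
          inv_eq_of_mul_eq_one_right a.2.sq], S.π_inv hd]
  let F : Inv → B := fun a => ⟨((idx a, π ((ref (idx a))⁻¹ * a)),
    decide ((ref (idx a))⁻¹ * (a : G) = S.sec (π ((ref (idx a))⁻¹ * a)))), hmem a⟩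
  have hF : Function.Injective F := fun a b e => by
    have e0 : idx a = idx b := congrArg (fun w : B => w.1.1.1) e
    have e1 : π ((ref (idx a))⁻¹ * (a : G)) = π ((ref (idx b))⁻¹ * (b : G)) :=
      congrArg (fun w : B => w.1.1.2) e
    have e2 : ((ref (idx a))⁻¹ * (a : G) = S.sec (π ((ref (idx a))⁻¹ * (a : G)))) ↔
        ((ref (idx b))⁻¹ * (b : G) = S.sec (π ((ref (idx b))⁻¹ * (b : G)))) :=
      decide_eq_decide.1 (congrArg (fun w : B => w.1.2) e)
    have hda := hdQ a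
    rw [e0] at hda e1 e2
    rw [e1] at e2
    apply Subtype.ext
    apply mul_left_cancel (a := (ref (idx b))⁻¹)
    set da := (ref (idx b))⁻¹ * (a : G)
    set db := (ref (idx b))⁻¹ * (b : G)
    rcases S.π_eq hda (S.sec_mem (π db)) (e1.trans (S.π_sec _).symm) with ea | ea <;>
      rcases S.π_eq (hdQ b) (S.sec_mem (π db)) (S.π_sec _).symm with eb | eb
    · exact ea.symm.trans eb
    · exact ea.symm.trans (e2.1 ea.symm).symm
    · exact (e2.2 eb.symm).trans eb
    · exact mul_right_cancel (ea.symm.trans eb)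
  let _ : MulAction ↥(hc z y) G :=
    { smul := fun c a => (c : G) * a * (c : G)⁻¹
      one_smul := fun a => show ((1 : ↥(hc z y)) : G) * a * ((1 : ↥(hc z y)) : G)⁻¹ = a by simp
      mul_smul := fun c d a => show ((c * d : ↥(hc z y)) : G) * a * ((c * d : ↥(hc z y)) : G)⁻¹ =
        (c : G) * ((d : G) * a * (d : G)⁻¹) * (c : G)⁻¹ by simp [mul_assoc] }
  have hos := (MulAction.stabilizer ↥(hc z y) σ).index_mul_card
  rw [MulAction.index_stabilizer, card_hc S hy] at hos
  have hst : Nat.card (MulAction.stabilizer ↥(hc z y) σ) = Nat.card ↥(ninv z y σ) := Nat.card_congr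
    { toFun := fun c => ⟨((c : ↥(hc z y)) : G), c.1.2,
        Subgroup.mem_centralizer_singleton_iff.2 (mul_inv_eq_iff_eq_mul.1 c.2)⟩
      invFun := fun c => ⟨⟨c, c.2.1⟩, mul_inv_eq_iff_eq_mul.2 (Subgroup.mem_centralizer_singleton_iff.1 c.2.2)⟩
      left_inv := fun c => rfl
      right_inv := fun c => rfl }
  let O : MulAction.orbit ↥(hc z y) σ → Inv := fun a => ⟨a, by
    obtain ⟨c, hc'⟩ := a.2
    rw [← hc']
    exact h.conj (mem_hc.1 c.2).1 (mem_hc.1 c.2).2⟩
  have horb := Nat.card_le_card_of_injective (F ∘ O)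
    (hF.comp fun a b e => Subtype.ext (congrArg (fun w : Inv => (w : G)) e))
  rw [hB, Nat.card_coe_set_eq] at horb
  rw [hst] at hos
  obtain ⟨k, hk⟩ := (isPGroup_ninv hy h p).exists_card_eq
  rw [hk] at hos ⊢
  by_contra hlt
  have : k ≤ 3 := by
    by_contra hk4
    exact hlt ((by norm_num : 16 ≤ 2 ^ 4).trans (Nat.pow_le_pow_right (by norm_num) (by omega)))
  interval_cases k <;> omega

end CfsgLib.Characterizations.SuzType.Seven
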