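import Cfsg.Agent.Lib.Characterizations.SuzType.Three.Shape
import Cfsg.Agent.Lib.Characterizations.SuzType.Seven.Facts

/-!
# Products of a transvection on a fixed plane and one on the rotated plane
-/

set_option autoImplicit false
set_option maxRecDepth 100000
set_option synthInstance.maxSize 4096
set_option synthInstance.maxHeartbeats 400000

namespace CfsgLib.Characterizations.SuzType.Seven

open CfsgLib.Characterizations.SuzType.Three

/-- The product of the transvections at `vp s x` and `ve c`. -/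
def tr2 (s : Bool) (x c : Fin 3) (v : V) : V := trans (vp s x) (trans (ve c) v)

theorem inverter_forms : ∀ τ : Equiv.Perm (Fin 5), Equiv.Perm.sign τ = 1 → τ * τ = 1 → τ * τ0 = τ0 * τ0 * τ →
    ∀ ψ : W5, Ev ψ → (∀ v, M τ ψ (T0 v) = T0 (T0 (M τ ψ v))) → (∀ v, M τ ψ (M τ ψ v) = v) →
      ∃ (s : Bool) (x c : Fin 3), ∀ v, M τ ψ v = tr2 s x c v := by decide +kernel

theorem tr2_not_tsing : ∀ (s : Bool) (x c : Fin 3), ∃ v, q (tr2 s x c v + v) = 1 := by decide +kernel

theorem tr2_attained : ∀ (s : Bool) (x c : Fin 3), ∃ v, tr2 s x c v + v = vp s x := by decide +kernel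

theorem tr2_other : ∀ (s : Bool) (x c y : Fin 3), tr2 s x c (vp (!s) y) = vp (!s) y ∧
    tr2 s x c (vp s x) = vp s x ∧ T0 (vp (!s) y + vp s x) = vp (!s) y + vp s x ∧ q (vp (!s) y + vp s x) = 0 ∧
    vp (!s) y + vp s x ≠ 0 := by decide +kernel

theorem plane_rel : ∀ (s : Bool) (x : Fin 3), vp (!s) 2 = vp (!s) 0 + vp (!s) 1 ∧ q (vp (!s) x) = 1 ∧
    ∀ y, x ≠ y → B (vp (!s) x) (vp (!s) y + vp s x) = 1 := by decide +kernel

theorem tr2_inj : ∀ (s : Bool) (x c : Fin 3) (s' : Bool) (x' c' : Fin 3),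
    (∀ v, tr2 s x c v = tr2 s' x' c' v) → s = s' ∧ x = x' ∧ c = c' := by decide +kernel

theorem tr2_lifts : (Finset.univ.filter fun p : ((Bool × Fin 3 × Fin 3) × V) × Bool =>
    T0 p.1.2 = p.1.2 ∧ tr2 p.1.1.1 p.1.1.2.1 p.1.1.2.2 p.1.2 = p.1.2).card = 288 := by decide +kernel

theorem tr2_fixed : ∀ (s : Bool) (x c : Fin 3),
    (Finset.univ.filter fun p : V × Bool => T0 p.1 = p.1 ∧ tr2 s x c p.1 = p.1).card = 16 := by decide +kernel

theorem trans_perm : ∀ (s : Bool) (x : Fin 3) (α : Equiv.Perm (Fin 3)), α x = x → α ≠ 1 → ∀ y,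
    trans (vp s x) (vp s y) = vp s (α y) ∧ trans (vp s x) (vp (!s) y) = vp (!s) y ∧
      trans (vp s x) (ve y) = ve y := by decide +kernel

theorem trans_point : ∀ (s : Bool) (x : Fin 3), ∃ w, w ≠ 0 ∧ q w = 0 ∧ T0 w = w ∧ trans (vp s x) w = w := by
  decide +kernel

theorem trans_odd : ∀ τ : Equiv.Perm (Fin 5), Equiv.Perm.sign τ = 1 → ∀ (s : Bool) (x : Fin 3),
    trans (vp s x) u0 = u0 → ∃ i : Fin 5, co (trans (vp s x) (P (pt i))) ≠ pt (τ i) := by decide +kernel

theorem std_no_pair : ∀ v : V, M 1 φ01 v = v → q v = 1 → cz φ01 m02 0 (co v) = 0 →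
    ∀ w : V, M 1 φ01 w = w → q w = 1 → cz φ01 m02 0 (co w) = 0 → B v w = 0 := by decide +kernel

theorem std_fixed : ∀ v : V, M 1 φ01 v = v → v 5 = 0 := by decide +kernel

theorem perm3_two : ∀ β β' : Equiv.Perm (Fin 3), β * β = 1 → β' * β' = 1 → β * β' * (β * β') = 1 → β ≠ 1 →
    β' ≠ 1 → β = β' := by decide +kernel

end CfsgLib.Characterizations.SuzType.Seven
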