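import Cfsg.Agent.Lib.Characterizations.SuzType.Seven.InverterCard
import Cfsg.Agent.Lib.Characterizations.SuzType.Seven.Centralizer
import Cfsg.Agent.Lib.Characterizations.SuzType.Seven.CITSections

/-!
# No involution centralising an element of order seven of `C(y)` inverts `y`
-/

set_option autoImplicit false
set_option linter.unusedSectionVars false
set_option linter.style.haveILetI false

namespace CfsgLib.Characterizations.SuzType.Seven

open Suz CfsgLib.Characterizations.SuzType.Three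

variable {G : Type*} [Group G] [Finite G] {z u g : G} {Q : Subgroup G} {π : G → V} {S : Suz z Q π} {y t : G}
variable (hy : IsStd S y) (h : Four z y t) (p : S.Pair u g)
  (hconj : ∀ a b : CQ y, orderOf a = 2 → orderOf b = 2 → IsConj a b)
  (hcard : Nat.card (CQ y) ∣ 2 ^ 7 * 3 ^ 6 * 5 * 7)
include hy h hconj hcard

/-- An inverter of `y` centralises some involution of `C(y)`. -/
theorem exists_fixed_involution {σ : G} (hσ : σ * σ = 1) (hinv : σ * y * σ⁻¹ = y⁻¹) :
    ∃ i, i * y = y * i ∧ i * i = 1 ∧ i ≠ 1 ∧ σ * i = i * σ := by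
  classical
  haveI : Fact (Nat.Prime 2) := ⟨Nat.prime_two⟩
  let _ := Fintype.ofFinite G
  let X := {i : G // i * y = y * i ∧ i * i = 1 ∧ i ≠ 1}
  -- the class of the image of `z`
  have hodd : ¬ 2 ∣ Nat.card X := by
    let f : X → {a : CQ y // orderOf a = 2} := fun i =>
      ⟨toQ y ⟨(i : G), Subgroup.mem_centralizer_singleton_iff.2 i.2.1⟩, orderOf_eq_prime
        (by rw [← map_pow, show (⟨(i : G), _⟩ : ↥(cy y)) ^ 2 = 1 from Subtype.ext (by simp [pow_two, i.2.2.1]),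
          map_one])
        (fun e => i.2.2.2 (eq_one_of_pow S hy (toQ_eq_one.1 e) (n := 2) (by norm_num)
          (by rw [pow_two]; exact i.2.2.1)))⟩
    have hf : Function.Bijective f := by
      constructor
      · intro a b e
        have e' : toQ y ((⟨(a : G), Subgroup.mem_centralizer_singleton_iff.2 a.2.1⟩ : ↥(cy y)) *
            (⟨(b : G), Subgroup.mem_centralizer_singleton_iff.2 b.2.1⟩ : ↥(cy y))⁻¹) = 1 := by
          rw [map_mul, map_inv]
          exact mul_inv_eq_one.2 (congrArg Subtype.val e)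
        have hd : (a : G) * (b : G)⁻¹ ∈ Subgroup.zpowers y := toQ_eq_one.1 e'
        have hbi : (b : G)⁻¹ = b := inv_eq_of_mul_eq_one_right b.2.2.1
        have hcom : Commute ((a : G) * (b : G)⁻¹) b := by
          obtain ⟨n, hn⟩ := Subgroup.mem_zpowers_iff.1 hd
          rw [← hn]; exact (show Commute y (b : G) from b.2.1.symm).zpow_left n
        refine Subtype.ext (mul_inv_eq_one.1 (eq_one_of_pow S hy hd (n := 2) (by norm_num) ?_))
        have e2 := hcom.mul_pow 2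
        rw [inv_mul_cancel_right, pow_two (a : G), a.2.2.1, pow_two (b : G), b.2.2.1, mul_one] at e2
        exact e2.symm
      · intro a
        obtain ⟨gg, hgg⟩ := isConj_iff.1 (hconj _ _ (orderOf_zbar S hy) a.2)
        obtain ⟨k, rfl⟩ := toQ_surjective y gg
        have hky : Commute (k : G) y := Subgroup.mem_centralizer_singleton_iff.1 k.2
        refine ⟨⟨(k : G) * z * (k : G)⁻¹, ((hky.mul_left hy.yz.symm).mul_left hky.inv_left).eq,
          by rw [conj_mul, S.extra.z_sq]; group, fun e => S.extra.z_ne (conj_eq_one_iff.1 e)⟩, Subtype.ext ?_⟩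
        show toQ y _ = (a : CQ y)
        rw [← hgg, zbar, ← map_inv, ← map_mul, ← map_mul]
        rfl
    rw [Nat.card_congr (Equiv.ofBijective f hf)]
    let _ : MulAction (ConjAct (CQ y)) (CQ y) := inferInstance
    have heq : {a : CQ y | orderOf a = 2} = MulAction.orbit (ConjAct (CQ y)) (zbar S hy) := by
      ext a
      rw [Set.mem_setOf_eq, ConjAct.mem_orbit_conjAct]
      refine ⟨fun ha => hconj _ _ ha (orderOf_zbar S hy), fun hc' => ?_⟩
      obtain ⟨c, rfl⟩ := isConj_iff.1 hc'.symm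
      rw [show c * zbar S hy * c⁻¹ = MulAut.conj c (zbar S hy) from rfl, MulEquiv.orderOf_eq, orderOf_zbar S hy]
    have hmul := (MulAction.stabilizer (ConjAct (CQ y)) (zbar S hy)).index_mul_card
    rw [MulAction.index_stabilizer, ← heq, ConjAct.stabilizer_eq_centralizer,
      show Nat.card (ConjAct (CQ y)) = Nat.card (CQ y) from rfl] at hmul
    change ¬ 2 ∣ Nat.card ({a : CQ y | orderOf a = 2} : Set (CQ y))
    rw [Nat.card_coe_set_eq]
    have hC : Nat.card ↥(Subgroup.centralizer ({ConjAct.toConjAct (zbar S hy)} : Set (ConjAct (CQ y))))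
        = 1152 := card_CZ S hy
    rw [hC] at hmul
    intro h2
    obtain ⟨n, hn⟩ := h2
    rw [← hmul, hn, show 2 ^ 7 * 3 ^ 6 * 5 * 7 = 1152 * 2835 by norm_num, mul_comm, Nat.mul_dvd_mul_iff_left
      (by norm_num)] at hcard
    exact absurd ((Dvd.intro n rfl).trans hcard) (by norm_num)
  have hyσ : ∀ {i : G}, i * y = y * i → σ * i * σ⁻¹ * y = y * (σ * i * σ⁻¹) := fun {i} hi => by
    have h1 : σ * y⁻¹ * σ⁻¹ = y := by
      rw [show σ * y⁻¹ * σ⁻¹ = (σ * y * σ⁻¹)⁻¹ by group, hinv, inv_inv]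
    conv_lhs => rw [← h1, conj_mul, ((show Commute i y from hi).inv_right).eq, ← conj_mul, h1]
  have hσσ : ∀ i : G, σ * (σ * i * σ⁻¹) * σ⁻¹ = i := fun i => by
    rw [show σ * (σ * i * σ⁻¹) * σ⁻¹ = σ * σ * i * (σ * σ)⁻¹ by group, hσ]; group
  let f : X → X := fun i => ⟨σ * (i : G) * σ⁻¹, hyσ i.2.1, by rw [conj_mul, i.2.2.1]; group,
    fun e => i.2.2.2 (conj_eq_one_iff.1 e)⟩
  let e : Equiv.Perm X := ⟨f, f, fun i => Subtype.ext (hσσ i), fun i => Subtype.ext (hσσ i)⟩
  obtain ⟨i, hi⟩ := Equiv.Perm.exists_fixed_point_of_prime (p := 2) (n := 1) (σ := e)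
    (by rwa [← Nat.card_eq_fintype_card]) (Equiv.ext fun i => by rw [pow_one, pow_two]; exact Subtype.ext (hσσ i))
  exact ⟨i, i.2.1, i.2.2.1, i.2.2.2, mul_inv_eq_iff_eq_mul.1 (congrArg Subtype.val hi)⟩

variable (h7 : ∀ b : CQ y, orderOf b = 7 → Subgroup.centralizer ({b} : Set (CQ y)) = Subgroup.zpowers b)
include p h7

theorem no_inverter {σ b : G} (hσ : orderOf σ = 2) (hσb : Commute σ b) (hby : Commute b y)
    (hb : orderOf b = 7) : σ * y * σ⁻¹ ≠ y⁻¹ := by
  intro hinv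
  classical
  haveI : Fact (Nat.Prime 2) := ⟨Nat.prime_two⟩
  haveI : Fact (Nat.Prime 7) := ⟨by norm_num⟩
  have hσσ : σ * σ = 1 := by rw [← pow_two, ← hσ, pow_orderOf_eq_one]
  obtain ⟨i₀, hi₀, hi₀2, hi₀1, hσi⟩ := exists_fixed_involution hy h hconj hcard hσσ hinv
  obtain ⟨k, hky, hkz⟩ := exists_conj_z hy h hconj hi₀ hi₀2 hi₀1
  have hki : Commute k⁻¹ y := (show Commute k y from hky).inv_left
  set σ' := k⁻¹ * σ * k⁻¹⁻¹ with hσ'
  have hI : Inverter z y σ' := by
    refine ⟨by rw [hσ', conj_mul, hσσ]; group, ?_, ?_⟩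
    · calc σ' * z = k⁻¹ * (σ * (k * z * k⁻¹)) * k := by rw [hσ']; group
        _ = k⁻¹ * ((k * z * k⁻¹) * σ) * k := by rw [hkz, hσi]
        _ = z * σ' := by rw [hσ']; group
    · calc σ' * y * σ'⁻¹ = k⁻¹ * σ * (k * y) * k⁻¹ * σ⁻¹ * k := by rw [hσ']; group
        _ = k⁻¹ * (σ * y * σ⁻¹) * k := by rw [hky]; group
        _ = y⁻¹ := by rw [hinv, hki.inv_right.eq, inv_mul_cancel_right]
  set C₀ := cy y ⊓ Subgroup.centralizer ({σ'} : Set G) with hC₀
  have mem₀ : ∀ {c : G}, c ∈ C₀ ↔ c * y = y * c ∧ c * σ' = σ' * c := fun {c} => by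
    rw [hC₀, Subgroup.mem_inf, Subgroup.mem_centralizer_singleton_iff, Subgroup.mem_centralizer_singleton_iff]
  let ι : ↥C₀ →* CQ y := (toQ y).comp (Subgroup.inclusion inf_le_left)
  have hι : Function.Injective ι := (injective_iff_map_eq_one _).2 fun c hc' => Subtype.ext (by
    obtain ⟨hcy, hcσ⟩ := mem₀.1 c.2
    have hy2 : y ≠ y⁻¹ := fun e => by
      have e1 : y * y = 1 := mul_eq_one_iff_eq_inv.2 e
      have e3 := y3 S hy
      rw [pow_succ, pow_two, e1, one_mul] at e3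
      have := hy.ord
      rw [e3, orderOf_one] at this
      norm_num at this
    rcases zpowers_cases S hy (show (c : G) ∈ Subgroup.zpowers y from toQ_eq_one.1 hc') with e | e | e
    · exact e
    · refine absurd ?_ hy2
      rw [← hI.inv, ← e, ← hcσ, mul_inv_cancel_right]
    · refine absurd ?_ hy2
      have e1 : σ' * (y * y) * σ'⁻¹ = y * y := by rw [← e, ← hcσ, mul_inv_cancel_right]
      rw [← conj_mul, hI.inv] at e1
      have e3 : y * y = y⁻¹ := eq_inv_of_mul_eq_one_left (by rw [← y3 S hy]; simp [pow_succ, mul_assoc])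
      rw [e3, ← mul_inv_rev, e3, inv_inv] at e1
      exact e1)
  have hb0 : k⁻¹ * b * k⁻¹⁻¹ ∈ C₀ := mem₀.2 ⟨((hki.mul_left hby).mul_left hki.inv_left).eq, by
    rw [hσ', conj_mul, conj_mul, hσb.eq]⟩
  have hz0 : z ∈ C₀ := mem₀.2 ⟨hy.yz.symm, hI.sz.symm⟩
  have ho : ∀ {c : ↥C₀}, orderOf c = 2 → (c : G) * c = 1 ∧ (c : G) ≠ 1 := fun {c} hc' => by
    have e := pow_orderOf_eq_one c
    rw [hc', pow_two] at e
    refine ⟨congrArg Subtype.val e, fun e' => ?_⟩
    rw [show c = 1 from Subtype.ext e', orderOf_one] at hc'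
    norm_num at hc'
  -- every involution centraliser is that of an inverter
  have hloc : ∀ i : ↥C₀, orderOf i = 2 → ∃ k s', k * y = y * k ∧ k * z * k⁻¹ = (i : G) ∧ Inverter z y s' ∧
      k * s' * k⁻¹ = σ' := by
    intro i hi
    obtain ⟨hiy, hiσ⟩ := mem₀.1 i.2
    obtain ⟨k, hky, hkz⟩ := exists_conj_z hy h hconj hiy (ho hi).1 (ho hi).2
    refine ⟨k, k⁻¹ * σ' * k, hky, hkz, ⟨?_, ?_, ?_⟩, by group⟩
    · rw [show k⁻¹ * σ' * k * (k⁻¹ * σ' * k) = k⁻¹ * (σ' * σ') * k by group, hI.sq]; group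
    · calc k⁻¹ * σ' * k * z = k⁻¹ * (σ' * (k * z * k⁻¹)) * k := by group
        _ = k⁻¹ * ((k * z * k⁻¹) * σ') * k := by rw [hkz, hiσ]
        _ = z * (k⁻¹ * σ' * k) := by group
    · calc k⁻¹ * σ' * k * y * (k⁻¹ * σ' * k)⁻¹ = k⁻¹ * σ' * (k * y) * k⁻¹ * σ'⁻¹ * k := by group
        _ = k⁻¹ * (σ' * y * σ'⁻¹) * k := by rw [hky]; group
        _ = y⁻¹ := by rw [hI.inv, (show Commute k y from hky).inv_left.inv_right.eq, inv_mul_cancel_right]
  have hmove : ∀ (i : ↥C₀) (k s' : G), k * y = y * k → k * z * k⁻¹ = (i : G) → k * s' * k⁻¹ = σ' →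
      Subgroup.centralizer ({i} : Set ↥C₀) = ((ninv z y s').map (MulAut.conj k).toMonoidHom).subgroupOf C₀ ∧
        (ninv z y s').map (MulAut.conj k).toMonoidHom ≤ C₀ := by
    intro i k s' hky hkz hks
    have hkk : Commute k y := hky
    constructor
    · ext c
      rw [Subgroup.mem_centralizer_singleton_iff, Subgroup.mem_subgroupOf, Subgroup.mem_map_equiv]
      obtain ⟨hcy, hcσ⟩ := mem₀.1 c.2
      simp only [ninv, Subgroup.mem_inf, mem_hc, Subgroup.mem_centralizer_singleton_iff, MulAut.conj_symm_apply]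
      constructor
      · intro hci
        have hci' : (c : G) * i = i * c := congrArg Subtype.val hci
        refine ⟨⟨?_, ((hkk.inv_left.mul_left hcy).mul_left hkk).eq⟩, ?_⟩
        · calc k⁻¹ * (c : G) * k * z = k⁻¹ * ((c : G) * (k * z * k⁻¹)) * k := by group
            _ = _ := by rw [hkz, hci', ← hkz]; group
        · calc k⁻¹ * (c : G) * k * s' = k⁻¹ * ((c : G) * (k * s' * k⁻¹)) * k := by group
            _ = _ := by rw [hks, hcσ, ← hks]; group
      · rintro ⟨⟨hcz, -⟩, -⟩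
        refine Subtype.ext ?_
        show (c : G) * i = i * c
        rw [← hkz]
        calc (c : G) * (k * z * k⁻¹) = k * (k⁻¹ * (c : G) * k * z) * k⁻¹ := by group
          _ = _ := by rw [hcz]; group
    · rintro _ ⟨n, hn, rfl⟩
      obtain ⟨hn1, hn2⟩ := hn
      refine mem₀.2 ⟨((hkk.mul_left (mem_hc.1 hn1).2).mul_left hkk.inv_left).eq, ?_⟩
      show k * n * k⁻¹ * σ' = σ' * (k * n * k⁻¹)
      rw [← hks, conj_mul, conj_mul, Subgroup.mem_centralizer_singleton_iff.1 hn2]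
  have hsize : ∀ i : ↥C₀, orderOf i = 2 → ∃ k s', k * y = y * k ∧ k * z * k⁻¹ = (i : G) ∧ Inverter z y s' ∧
      k * s' * k⁻¹ = σ' ∧ Nat.card ↥(Subgroup.centralizer ({i} : Set ↥C₀)) = Nat.card ↥(ninv z y s') := by
    intro i hi
    obtain ⟨k, s', a1, a2, a3, a4⟩ := hloc i hi
    obtain ⟨m1, m2⟩ := hmove i k s' a1 a2 a4
    refine ⟨k, s', a1, a2, a3, a4, ?_⟩
    rw [m1, Nat.card_congr (Subgroup.subgroupOfEquivOfLe m2).toEquiv,
      Subgroup.card_map_of_injective (MulAut.conj k).injective]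
  refine no_seven (C := ↥C₀) ?_ ?_ ?_ ?_ ?_ ?_
  · intro i hi
    obtain ⟨k, s', -, -, a3, -, e⟩ := hsize i hi
    obtain ⟨n, hn⟩ := (isPGroup_ninv hy a3 p).exists_card_eq
    exact IsPGroup.of_card (n := n) (e.trans hn)
  · exact (Subgroup.card_dvd_of_injective ι hι).trans hcard
  · have hb' : orderOf (⟨_, hb0⟩ : ↥C₀) = 7 := by
      rw [Subgroup.orderOf_mk, ← MulAut.conj_apply, MulEquiv.orderOf_eq, hb]
    exact hb' ▸ orderOf_dvd_natCard _
  · have hz' : orderOf (⟨z, hz0⟩ : ↥C₀) = 2 := by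
      rw [Subgroup.orderOf_mk]; exact orderOf_eq_prime (by rw [pow_two, S.extra.z_sq]) S.extra.z_ne
    exact hz' ▸ orderOf_dvd_natCard _
  · intro c hc'
    refine le_antisymm (fun d hd => ?_) (Subgroup.zpowers_le.2 (Subgroup.mem_centralizer_singleton_iff.2 rfl))
    have hm : ι d ∈ Subgroup.centralizer ({ι c} : Set (CQ y)) := by
      rw [Subgroup.mem_centralizer_singleton_iff, ← map_mul, ← map_mul, Subgroup.mem_centralizer_singleton_iff.1 hd]
    rw [h7 _ (by rw [orderOf_injective _ hι, hc']), ← MonoidHom.map_zpowers] at hm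
    obtain ⟨d', hd', e⟩ := hm
    rwa [← hι e]
  · intro i hi
    obtain ⟨k, s', a1, a2, a3, a4, e⟩ := hsize i hi
    refine ⟨e ▸ card_ninv_ge hy a3 p, e ▸ card_ninv_le hy a3 p, ?_⟩
    obtain ⟨j, hj, hj2, hj1, hjz⟩ := exists_invol hy a3 p
    have hjC : k * j * k⁻¹ ∈ C₀ := (hmove i k s' a1 a2 a4).2 ⟨j, hj, rfl⟩
    refine ⟨⟨_, hjC⟩, ?_, fun e' => hjz ?_, Subtype.ext ?_⟩
    · rw [Subgroup.orderOf_mk, ← MulAut.conj_apply, MulEquiv.orderOf_eq]
      exact orderOf_eq_prime (by rw [pow_two, hj2]) hj1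
    · have e'' : k * j * k⁻¹ = k * z * k⁻¹ := (congrArg Subtype.val e').trans a2.symm
      exact mul_left_cancel (mul_right_cancel e'')
    · show (i : G) * (k * j * k⁻¹) = k * j * k⁻¹ * i
      rw [← a2, conj_mul, conj_mul, (mem_hc.1 hj.1).1]

end CfsgLib.Characterizations.SuzType.Seven
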