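import Cfsg.Agent.Lib.Characterizations.SuzType.Three.PSUModel
import Cfsg.Agent.Lib.KnownA.MinIndexU4.Three
import Cfsg.Agent.Lib.Classical.HermMatrixSimple

/-!
# Elements of order five and seven in `PSU₄(3)`

The first vector and its images under the powers of such an element form a basis, so an element
commuting with it is determined by the image of that vector; the possible images are checked.
-/

set_option autoImplicit false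
set_option maxHeartbeats 1000000

namespace CfsgLib.Characterizations.SuzType.Seven

open Matrix CfsgLib.Chevalley.G2Two CfsgLib.Characterizations.SuzType.Three

/-- A combination of the columns. -/
def lin (P : Matrix (Fin 4) (Fin 4) F9) (a b c d : F9) (i : Fin 4) : F9 :=
  P i 0 * a + P i 1 * b + P i 2 * c + P i 3 * d

/-- The Hermitian form. -/
def hf (u v : Fin 4 → F9) : F9 :=
  u 0 * F9.conj (v 0) + u 1 * F9.conj (v 1) + u 2 * F9.conj (v 2) + u 3 * F9.conj (v 3)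

/-- The first vector. -/
def e0 : Fin 4 → F9 := ![1, 0, 0, 0]

/-- The check for one vector. -/
def KeyAt (P : Fin 4 → Matrix (Fin 4) (Fin 4) F9) (a b c d : F9) : Prop :=
    hf (lin (P 0) a b c d) (lin (P 0) a b c d) = 1 →
    hf (lin (P 1) a b c d) (lin (P 0) a b c d) = hf (fun i => P 0 i 1) e0 →
    hf (lin (P 2) a b c d) (lin (P 0) a b c d) = hf (fun i => P 0 i 2) e0 →
    hf (lin (P 3) a b c d) (lin (P 0) a b c d) = hf (fun i => P 0 i 3) e0 →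
    (Matrix.of fun i k => lin (P k) a b c d i).det = (P 0).det →
    ∃ j : Fin 7, ∃ l : F9, ∀ i,
      lin (P 0) a b c d i = l * (if j.val < 4 then P 0 i (Fin.ofNat 4 j.val) else P 3 i (Fin.ofNat 4 (j.val - 3)))

instance (P : Fin 4 → Matrix (Fin 4) (Fin 4) F9) (a b c d : F9) : Decidable (KeyAt P a b c d) := by
  unfold KeyAt; infer_instance

/-- The facts to be checked: `P k` is `M ^ k` times the basis `M ^ m e0`, this is a basis, and a vector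
with the inner products of `e0` and the right determinant is a multiple of some `M ^ j e0`. -/
def Cert (M : Matrix (Fin 4) (Fin 4) F9) (P : Fin 4 → Matrix (Fin 4) (Fin 4) F9) : Prop :=
  (∀ k : Fin 4, P k = M ^ k.val * P 0) ∧
  (∀ k i : Fin 4, P 0 i k = (M ^ k.val *ᵥ e0) i) ∧
  (P 0).det ≠ 0 ∧
  ∀ a b c d : F9, KeyAt P a b c d

/-- The element of order 5. -/
def g5Mat : Matrix (Fin 4) (Fin 4) F9 := !![⟨1, 1⟩, ⟨2, 1⟩, ⟨0, 0⟩, ⟨0, 0⟩; ⟨0, 0⟩, ⟨0, 0⟩, ⟨1, 2⟩, ⟨2, 2⟩; ⟨1, 2⟩, ⟨2, 2⟩, ⟨0, 0⟩, ⟨0, 0⟩; ⟨0, 0⟩, ⟨0, 0⟩, ⟨2, 2⟩, ⟨1, 2⟩]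
/-- The products of its powers with a basis made of powers applied to the first vector. -/
def p5Mat : Fin 4 → Matrix (Fin 4) (Fin 4) F9 :=
  ![!![⟨1, 0⟩, ⟨1, 1⟩, ⟨0, 2⟩, ⟨0, 1⟩; ⟨0, 0⟩, ⟨0, 0⟩, ⟨0, 1⟩, ⟨1, 0⟩; ⟨0, 0⟩, ⟨1, 2⟩, ⟨2, 0⟩, ⟨0, 1⟩; ⟨0, 0⟩, ⟨0, 0⟩, ⟨1, 0⟩, ⟨2, 0⟩],
    !![⟨1, 1⟩, ⟨0, 2⟩, ⟨0, 1⟩, ⟨1, 2⟩; ⟨0, 0⟩, ⟨0, 1⟩, ⟨1, 0⟩, ⟨2, 2⟩; ⟨1, 2⟩, ⟨2, 0⟩, ⟨0, 1⟩, ⟨0, 0⟩; ⟨0, 0⟩, ⟨1, 0⟩, ⟨2, 0⟩, ⟨0, 0⟩],
    !![⟨0, 2⟩, ⟨0, 1⟩, ⟨1, 2⟩, ⟨1, 0⟩; ⟨0, 1⟩, ⟨1, 0⟩, ⟨2, 2⟩, ⟨0, 0⟩; ⟨2, 0⟩, ⟨0, 1⟩, ⟨0, 0⟩, ⟨0, 0⟩; ⟨1, 0⟩, ⟨2, 0⟩, ⟨0, 0⟩, ⟨0, 0⟩],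
    !![⟨0, 1⟩, ⟨1, 2⟩, ⟨1, 0⟩, ⟨1, 1⟩; ⟨1, 0⟩, ⟨2, 2⟩, ⟨0, 0⟩, ⟨0, 0⟩; ⟨0, 1⟩, ⟨0, 0⟩, ⟨0, 0⟩, ⟨1, 2⟩; ⟨2, 0⟩, ⟨0, 0⟩, ⟨0, 0⟩, ⟨0, 0⟩]]

set_option maxRecDepth 100000 in
theorem det5 : g5Mat.det = 1 ∧ g5Matᵀ * g5Mat.map F9.conj = 1 := by decide +kernel

/-- The element in `SU₄`. -/
def g5 : SU4 := ⟨⟨g5Mat, det5.1⟩, mem_su_of _ det5.2⟩

set_option maxRecDepth 100000 in
theorem cert5 : Cert g5Mat p5Mat := by
  refine ⟨?_, ?_, ?_, ?_⟩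
  · decide +kernel
  · decide +kernel
  · decide +kernel
  · decide +kernel

set_option maxRecDepth 100000 in
theorem pow5 : g5 ^ 5 = 1 ∧ g5 * W ≠ W * g5 := by decide +kernel

/-- The element of order 7. -/
def g7Mat : Matrix (Fin 4) (Fin 4) F9 := !![⟨2, 2⟩, ⟨0, 0⟩, ⟨2, 1⟩, ⟨0, 0⟩; ⟨0, 0⟩, ⟨0, 0⟩, ⟨0, 0⟩, ⟨1, 0⟩; ⟨2, 0⟩, ⟨1, 1⟩, ⟨0, 2⟩, ⟨0, 0⟩; ⟨2, 0⟩, ⟨2, 2⟩, ⟨0, 2⟩, ⟨0, 0⟩]
/-- The products of its powers with a basis made of powers applied to the first vector. -/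
def p7Mat : Fin 4 → Matrix (Fin 4) (Fin 4) F9 :=
  ![!![⟨1, 0⟩, ⟨2, 2⟩, ⟨1, 1⟩, ⟨0, 0⟩; ⟨0, 0⟩, ⟨0, 0⟩, ⟨2, 0⟩, ⟨1, 2⟩; ⟨0, 0⟩, ⟨2, 0⟩, ⟨1, 2⟩, ⟨0, 0⟩; ⟨0, 0⟩, ⟨2, 0⟩, ⟨1, 2⟩, ⟨2, 2⟩],
    !![⟨2, 2⟩, ⟨1, 1⟩, ⟨0, 0⟩, ⟨0, 0⟩; ⟨0, 0⟩, ⟨2, 0⟩, ⟨1, 2⟩, ⟨2, 2⟩; ⟨2, 0⟩, ⟨1, 2⟩, ⟨0, 0⟩, ⟨2, 0⟩; ⟨2, 0⟩, ⟨1, 2⟩, ⟨2, 2⟩, ⟨1, 0⟩],
    !![⟨1, 1⟩, ⟨0, 0⟩, ⟨0, 0⟩, ⟨1, 2⟩; ⟨2, 0⟩, ⟨1, 2⟩, ⟨2, 2⟩, ⟨1, 0⟩; ⟨1, 2⟩, ⟨0, 0⟩, ⟨2, 0⟩, ⟨0, 2⟩; ⟨1, 2⟩, ⟨2, 2⟩, ⟨1, 0⟩, ⟨0, 0⟩],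
    !![⟨0, 0⟩, ⟨0, 0⟩, ⟨1, 2⟩, ⟨2, 1⟩; ⟨1, 2⟩, ⟨2, 2⟩, ⟨1, 0⟩, ⟨0, 0⟩; ⟨0, 0⟩, ⟨2, 0⟩, ⟨0, 2⟩, ⟨2, 2⟩; ⟨2, 2⟩, ⟨1, 0⟩, ⟨0, 0⟩, ⟨0, 0⟩]]

set_option maxRecDepth 100000 in
theorem det7 : g7Mat.det = 1 ∧ g7Matᵀ * g7Mat.map F9.conj = 1 := by decide +kernel

/-- The element in `SU₄`. -/
def g7 : SU4 := ⟨⟨g7Mat, det7.1⟩, mem_su_of _ det7.2⟩

set_option maxRecDepth 100000 in
theorem cert7 : Cert g7Mat p7Mat := by
  refine ⟨?_, ?_, ?_, ?_⟩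
  · decide +kernel
  · decide +kernel
  · decide +kernel
  · decide +kernel

set_option maxRecDepth 100000 in
theorem pow7 : g7 ^ 7 = 1 ∧ g7 * W ≠ W * g7 := by decide +kernel

theorem mulVec_eq_lin (P : Matrix (Fin 4) (Fin 4) F9) (c : Fin 4 → F9) :
    P *ᵥ c = lin P (c 0) (c 1) (c 2) (c 3) := by
  funext i
  simp [mulVec, dotProduct, Fin.sum_univ_four, lin]

theorem mul_col (A B : Matrix (Fin 4) (Fin 4) F9) (i k : Fin 4) :
    (A * B) i k = (A *ᵥ fun j => B j k) i := rfl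

theorem hf_eq (u v : Fin 4 → F9) : hf u v = Cfsg.hermForm 4 F9 3 u v := by
  have hc : ∀ x : F9, x ^ 3 = F9.conj x := fun x => by
    rw [← F9.conj_eq x, pow_succ, pow_succ, pow_one]
  simp [hf, Cfsg.hermForm, Fin.sum_univ_four, hc]

/-- An element commuting with a certified one is a multiple of a power of it. -/
theorem exists_pow_of_commute {g : SU4} {P : Fin 4 → Matrix (Fin 4) (Fin 4) F9}
    (C : Cert (g.1 : Matrix (Fin 4) (Fin 4) F9) P) {x : SU4} (hx : x * g = g * x) :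
    ∃ j : ℕ, ∃ l : F9,
      (x.1 : Matrix (Fin 4) (Fin 4) F9) = l • (g.1 : Matrix (Fin 4) (Fin 4) F9) ^ j := by
  obtain ⟨hP, hB, hdet, hkey⟩ := C
  set M : Matrix (Fin 4) (Fin 4) F9 := (g.1 : Matrix (Fin 4) (Fin 4) F9) with hM
  set X : Matrix (Fin 4) (Fin 4) F9 := (x.1 : Matrix (Fin 4) (Fin 4) F9) with hX
  have hXM : Commute X M := congrArg (fun h : SU4 => (h.1 : Matrix (Fin 4) (Fin 4) F9)) hx
  set c := (P 0)⁻¹ *ᵥ (X *ᵥ e0) with hc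
  have hv : P 0 *ᵥ c = X *ᵥ e0 := by
    rw [hc, mulVec_mulVec, mul_nonsing_inv _ (isUnit_iff_ne_zero.2 hdet), one_mulVec]
  have hk : ∀ k : Fin 4, X *ᵥ (fun i => P 0 i k) = lin (P k) (c 0) (c 1) (c 2) (c 3) := by
    intro k
    rw [← mulVec_eq_lin, hP k, ← mulVec_mulVec, hv, show (fun i => P 0 i k) = M ^ k.val *ᵥ e0 from
      funext (hB k), mulVec_mulVec, mulVec_mulVec, (hXM.pow_right k.val).eq]
  have hform : ∀ u v : Fin 4 → F9, hf (X *ᵥ u) (X *ᵥ v) = hf u v := fun u v => by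
    rw [hf_eq, hf_eq]; exact x.2 u v
  have h0 : (fun i => P 0 i 0) = e0 := funext fun i => by
    rw [hB 0 i, Fin.val_zero, pow_zero, one_mulVec]
  have h00 : hf e0 e0 = 1 := by decide +kernel
  have hcond : ∀ k : Fin 4, hf (lin (P k) (c 0) (c 1) (c 2) (c 3)) (lin (P 0) (c 0) (c 1) (c 2) (c 3)) =
      hf (fun i => P 0 i k) e0 := fun k => by
    rw [← hk k, ← hk 0, hform, h0]
  have hd : (Matrix.of fun i k => lin (P k) (c 0) (c 1) (c 2) (c 3) i).det = (P 0).det := by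
    have e : (Matrix.of fun i k => lin (P k) (c 0) (c 1) (c 2) (c 3) i) = X * P 0 := by
      refine Matrix.ext fun i k => ?_
      rw [Matrix.of_apply, ← hk k, mul_col]
    rw [e, det_mul, show X.det = 1 from x.1.2, one_mul]
  obtain ⟨j, l, hl⟩ := hkey _ _ _ _ ((hcond 0).trans (by rw [h0, h00])) (hcond 1) (hcond 2) (hcond 3) hd
  refine ⟨j.val, l, ?_⟩
  have hXe : X *ᵥ e0 = l • (M ^ j.val *ᵥ e0) := by
    rw [← hv, mulVec_eq_lin]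
    funext i
    rw [hl i, Pi.smul_apply, smul_eq_mul]
    refine congrArg (fun t => l * t) ?_
    by_cases hj : j.val < 4
    · rw [if_pos hj, hB, show ((Fin.ofNat 4 j.val : Fin 4) : ℕ) = j.val from Nat.mod_eq_of_lt hj]
    · rw [if_neg hj, hP 3, Matrix.mul_apply]
      simp only [hB]
      rw [show ((Fin.ofNat 4 (j.val - 3) : Fin 4) : ℕ) = j.val - 3 from Nat.mod_eq_of_lt (by omega)]
      have e : M ^ (((3 : Fin 4) : ℕ)) *ᵥ (M ^ (j.val - 3) *ᵥ e0) = M ^ j.val *ᵥ e0 := by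
        rw [mulVec_mulVec, ← pow_add]; congr 2; simp; omega
      rw [← e]
      rfl
  have hY : (X - l • M ^ j.val) * P 0 = 0 := by
    refine Matrix.ext fun i k => ?_
    rw [mul_col, Matrix.zero_apply]
    rw [show (fun i => P 0 i k) = M ^ k.val *ᵥ e0 from funext (hB k), sub_mulVec, mulVec_mulVec,
      (hXM.pow_right k.val).eq, ← mulVec_mulVec, hXe, mulVec_smul, smul_mulVec, mulVec_mulVec,
      mulVec_mulVec, ← pow_add, ← pow_add, add_comm, sub_self, Pi.zero_apply]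
  have := congrArg (· * (P 0)⁻¹) hY
  simpa [mul_assoc, mul_nonsing_inv _ (isUnit_iff_ne_zero.2 hdet), sub_eq_zero] using this

open Subgroup

theorem card_center_su4 : Nat.card (center SU4) = 4 := by
  rw [CfsgLib.Classical.card_center_SU (q := 3) F9.card_F9 (by norm_num)]
  norm_num

theorem card_psu4 : Nat.card (Cfsg.PSU 4 F9 3) = 2 ^ 7 * 3 ^ 6 * 5 * 7 := by
  have h := Subgroup.card_eq_card_quotient_mul_card_subgroup (center SU4)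
  rw [(CfsgLib.KnownA.MinIndexU4.card_su (K := F9) F9.card_F9).2, card_center_su4] at h
  change 13063680 = Nat.card (Cfsg.PSU 4 F9 3) * 4 at h
  omega

/-- The centraliser of the image of a certified element. -/
theorem centralizer_mk {g : SU4} {P : Fin 4 → Matrix (Fin 4) (Fin 4) F9}
    (C : Cert (g.1 : Matrix (Fin 4) (Fin 4) F9) P) {p : ℕ} (hp : p.Coprime 4) (hg : g ^ p = 1) :
    centralizer ({QuotientGroup.mk' (center SU4) g} : Set (Cfsg.PSU 4 F9 3)) =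
      zpowers (QuotientGroup.mk' (center SU4) g) := by
  set π := QuotientGroup.mk' (center SU4) with hπ
  refine le_antisymm (fun y hy => ?_)
    (zpowers_le.2 (mem_centralizer_singleton_iff.2 rfl))
  obtain ⟨x, rfl⟩ := QuotientGroup.mk'_surjective (center SU4) y
  rw [mem_centralizer_singleton_iff, ← map_mul, ← map_mul] at hy
  obtain ⟨c, hc, hxg⟩ := (QuotientGroup.mk'_eq_mk' _).1 hy.symm
  have hcg : Commute g c := mem_center_iff.1 hc g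
  have hgc : g * c = x * g * x⁻¹ := by
    have hcx : c * x = x * c := (mem_center_iff.1 hc x).symm
    rw [← hxg, mul_assoc g x c, ← hcx, ← mul_assoc, mul_inv_cancel_right]
  have hcp : c ^ p = 1 := by
    have h := congrArg (· ^ p) hgc
    simp only [conj_pow, hg, mul_one, mul_inv_cancel, hcg.mul_pow, one_mul] at h
    exact h
  have hc4 : c ^ 4 = 1 := by
    have h := orderOf_dvd_iff_pow_eq_one.1 (Subgroup.orderOf_dvd_natCard _ hc)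
    rwa [card_center_su4] at h
  have hc1 : c = 1 := by
    have h := Nat.dvd_gcd (orderOf_dvd_of_pow_eq_one hcp) (orderOf_dvd_of_pow_eq_one hc4)
    rw [hp.gcd_eq_one, Nat.dvd_one, orderOf_eq_one_iff] at h
    exact h
  rw [hc1, mul_one] at hxg
  obtain ⟨j, l, hl⟩ := exists_pow_of_commute C hxg.symm
  have hcen : x * (g ^ j)⁻¹ ∈ center SU4 := by
    refine mem_center_iff.2 fun h => ?_
    have hxm : ((x * (g ^ j)⁻¹ : SU4).1 : Matrix (Fin 4) (Fin 4) F9) = l • 1 := by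
      calc ((x * (g ^ j)⁻¹ : SU4).1 : Matrix (Fin 4) (Fin 4) F9)
          = (x.1 : Matrix (Fin 4) (Fin 4) F9) * (((g ^ j)⁻¹ : SU4).1 : Matrix (Fin 4) (Fin 4) F9) := rfl
        _ = l • (((g ^ j * (g ^ j)⁻¹ : SU4)).1 : Matrix (Fin 4) (Fin 4) F9) := by
            rw [hl, smul_mul_assoc]; rfl
        _ = l • 1 := by rw [mul_inv_cancel]; rfl
    refine Subtype.ext (Subtype.ext ?_)
    show (h.1 : Matrix (Fin 4) (Fin 4) F9) * ((x * (g ^ j)⁻¹ : SU4).1 : Matrix (Fin 4) (Fin 4) F9) =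
      ((x * (g ^ j)⁻¹ : SU4).1 : Matrix (Fin 4) (Fin 4) F9) * (h.1 : Matrix (Fin 4) (Fin 4) F9)
    rw [hxm]; simp
  have h1 : π (x * (g ^ j)⁻¹) = 1 := (QuotientGroup.eq_one_iff _).2 hcen
  rw [map_mul, map_inv, map_pow, mul_inv_eq_one] at h1
  rw [h1]
  exact pow_mem (mem_zpowers _) j

theorem orderOf_mk {g : SU4} {p : ℕ} (hp : p.Prime) (hg : g ^ p = 1) (hW : g * W ≠ W * g) :
    orderOf (QuotientGroup.mk' (center SU4) g) = p := by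
  haveI := Fact.mk hp
  refine orderOf_eq_prime (by rw [← map_pow, hg, map_one]) fun e => hW ?_
  exact (mem_center_iff.1 ((QuotientGroup.eq_one_iff g).1 e) W).symm

/-- Cyclic Sylow subgroups of prime order are conjugate. -/
theorem centralizer_of_one {G : Type*} [Group G] [Finite G] {p : ℕ} [Fact p.Prime] {a : G}
    (ha : orderOf a = p) (hp2 : ¬ p ^ 2 ∣ Nat.card G)
    (hC : centralizer ({a} : Set G) = zpowers a) {b : G} (hb : orderOf b = p) :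
    centralizer ({b} : Set G) = zpowers b := by
  have hSyl : ∀ {c : G}, orderOf c = p → ∃ P : Sylow p G, (P : Subgroup G) = zpowers c := by
    intro c hc
    obtain ⟨P, hP⟩ := (IsPGroup.of_card (n := 1) (by rw [Nat.card_zpowers, hc, pow_one]) :
      IsPGroup p (zpowers c)).exists_le_sylow
    obtain ⟨n, hn⟩ := IsPGroup.iff_card.1 P.2
    refine ⟨P, (Subgroup.eq_of_le_of_card_ge hP ?_).symm⟩
    rw [hn, Nat.card_zpowers, hc]
    rcases Nat.lt_or_ge n 2 with h | h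
    · exact (Nat.pow_le_pow_right (Fact.out : p.Prime).pos (show n ≤ 1 by omega)).trans_eq (pow_one p)
    · exact absurd ((pow_dvd_pow p h).trans (hn ▸ Subgroup.card_subgroup_dvd_card _)) hp2
  obtain ⟨A, hA⟩ := hSyl ha
  obtain ⟨B, hB⟩ := hSyl hb
  obtain ⟨h, hh⟩ := MulAction.exists_smul_eq G A B
  have hcard : Nat.card (centralizer ({b} : Set G)) ≤ Nat.card (zpowers b) := by
    have hmem : h * a * h⁻¹ ∈ zpowers b := by
      rw [← hB, ← hh, Sylow.coe_subgroup_smul, Subgroup.mem_pointwise_smul_iff_inv_smul_mem, hA]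
      simp [mul_assoc, mem_zpowers a]
    have hle : centralizer ({b} : Set G) ≤
        (centralizer ({a} : Set G)).map (MulAut.conj h).toMonoidHom := by
      intro u hu
      obtain ⟨k, hk⟩ := mem_zpowers_iff.1 hmem
      have hu' : Commute u (h * a * h⁻¹) :=
        hk ▸ (show Commute u b from mem_centralizer_singleton_iff.1 hu).zpow_right k
      refine ⟨h⁻¹ * u * h, mem_centralizer_singleton_iff.2 ?_, by simp [mul_assoc]⟩
      calc h⁻¹ * u * h * a = h⁻¹ * (u * (h * a * h⁻¹)) * h := by group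
        _ = a * (h⁻¹ * u * h) := by rw [hu'.eq]; group
    refine (Subgroup.card_le_of_le hle).trans_eq ?_
    rw [Subgroup.card_map_of_injective (MulAut.conj h).injective, hC, Nat.card_zpowers, Nat.card_zpowers,
      ha, hb]
  exact (Subgroup.eq_of_le_of_card_ge (zpowers_le.2 (mem_centralizer_singleton_iff.2 rfl)) hcard).symm

theorem self_centralizing_F9 (b : Cfsg.PSU 4 F9 3) (hb : orderOf b = 5 ∨ orderOf b = 7) :
    centralizer ({b} : Set (Cfsg.PSU 4 F9 3)) = zpowers b := by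
  haveI : Finite (Cfsg.PSU 4 F9 3) := Nat.finite_of_card_ne_zero (by rw [card_psu4]; norm_num)
  rcases hb with hb | hb
  · haveI : Fact (Nat.Prime 5) := ⟨Nat.prime_five⟩
    exact centralizer_of_one (orderOf_mk Nat.prime_five pow5.1 pow5.2) (by rw [card_psu4]; norm_num)
      (centralizer_mk (g := g5) cert5 (by norm_num) pow5.1) hb
  · haveI : Fact (Nat.Prime 7) := ⟨by norm_num⟩
    exact centralizer_of_one (orderOf_mk (by norm_num) pow7.1 pow7.2) (by rw [card_psu4]; norm_num)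
      (centralizer_mk (g := g7) cert7 (by norm_num) pow7.1) hb

/-- Elements of order five and seven of `PSU₄(3)` are self-centralising. -/
theorem psu_self_centralizing (K : Type) [Field K] [Fintype K] (hK : Fintype.card K = 9)
    (b : Cfsg.PSU 4 K 3) (hb : orderOf b = 5 ∨ orderOf b = 7) :
    centralizer ({b} : Set (Cfsg.PSU 4 K 3)) = zpowers b := by
  obtain ⟨f⟩ := psu_congr (FiniteField.ringEquivOfCardEq (F9.card_F9.trans hK.symm) : F9 ≃+* K)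
  obtain ⟨a, rfl⟩ := f.surjective b
  rw [MulEquiv.orderOf_eq] at hb
  rw [← map_cent, self_centralizing_F9 a hb, MonoidHom.map_zpowers]
  rfl

/-- The order of `PSU₄(3)`. -/
theorem card_psu (K : Type) [Field K] [Fintype K] (hK : Fintype.card K = 9) :
    Nat.card (Cfsg.PSU 4 K 3) = 2 ^ 7 * 3 ^ 6 * 5 * 7 := by
  obtain ⟨f⟩ := psu_congr (FiniteField.ringEquivOfCardEq (F9.card_F9.trans hK.symm) : F9 ≃+* K)
  rw [← Nat.card_congr f.toEquiv, card_psu4]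

end CfsgLib.Characterizations.SuzType.Seven
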