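import Cfsg.Agent.Lib.Characterizations.SuzType.Seven.Normal
import Cfsg.Agent.Lib.Characterizations.SuzType.Seven.NoInverter
import Cfsg.Agent.Lib.Characterizations.SuzType.Seven.Assemble
import Cfsg.Agent.Lib.Characterizations.SuzType.Seven.PSUFive
import Cfsg.Agent.S0283

/-!
# Sylow 7-subgroups of a group of Suzuki type, given the structure of `C(y)/⟨y⟩`
-/

set_option autoImplicit false
set_option linter.unusedSectionVars false
set_option linter.style.haveILetI false

namespace CfsgLib.Characterizations.SuzType.Seven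

open Suz CfsgLib.Characterizations.SuzType.Three

/-- Self-centralising elements transfer along an injective map. -/
theorem selfcent_of_injective {A B : Type*} [Group A] [Group B] {f : A →* B} (hf : Function.Injective f) {a : A}
    (ha : Subgroup.centralizer ({f a} : Set B) = Subgroup.zpowers (f a)) :
    Subgroup.centralizer ({a} : Set A) = Subgroup.zpowers a := by
  refine le_antisymm (fun c hc' => ?_) (Subgroup.zpowers_le.2 (Subgroup.mem_centralizer_singleton_iff.2 rfl))
  have : f c ∈ Subgroup.centralizer ({f a} : Set B) := by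
    rw [Subgroup.mem_centralizer_singleton_iff, ← map_mul, ← map_mul, Subgroup.mem_centralizer_singleton_iff.1 hc']
  rw [ha, ← MonoidHom.map_zpowers] at this
  obtain ⟨d, hd, e⟩ := this
  rwa [← hf e]

variable {G : Type*} [Group G] [Finite G] {z : G} {Q : Subgroup G} {π : G → V}

theorem seven_main (S : Suz z Q π) {y : G} (hy : IsStd S y) (K : Type) [Field K] [Fintype K]
    (hK : Fintype.card K = 9) (hiso : Nonempty (CQ y ≃* Cfsg.PSU 4 K 3))
    (hconj : ∀ a b : CQ y, orderOf a = 2 → orderOf b = 2 → IsConj a b) (B : Sylow 7 G) :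
    Nonempty (↥(Subgroup.centralizer ((B : Subgroup G) : Set G)) ≃* Multiplicative (ZMod 7) × alternatingGroup (Fin 4)) ∧
      Nat.card ↥(Subgroup.normalizer ((B : Subgroup G) : Set G)) = 504 := by
  classical
  haveI : Fact (Nat.Prime 7) := ⟨by norm_num⟩
  obtain ⟨f⟩ := hiso
  have hcard : Nat.card (CQ y) = 2 ^ 7 * 3 ^ 6 * 5 * 7 := (Nat.card_congr f.toEquiv).trans (card_psu K hK)
  have hself : ∀ b : CQ y, orderOf b = 5 ∨ orderOf b = 7 →
      Subgroup.centralizer ({b} : Set (CQ y)) = Subgroup.zpowers b := fun b hb =>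
    selfcent_of_injective (f := f.toMonoidHom) f.injective (psu_self_centralizing K hK (f b) (by rwa [f.orderOf_eq]))
  haveI : IsSimpleGroup (Cfsg.PSU 4 K 3) := Cfsg.Agent.S0283.result hK 4 (by norm_num) (by norm_num)
  haveI : IsSimpleGroup (CQ y) := f.isSimpleGroup
  obtain ⟨u, g, p⟩ := S.exists_pair
  obtain ⟨t, h, hf⟩ := exists_four p hy
  obtain ⟨zl, -, hzl, hcit, hcon, hle, hA, hnc⟩ := lz_hyps hy h p hf hconj
  obtain ⟨hL, -⟩ := iso_l34 hzl hcit hcon hle hA hnc
  obtain ⟨b, hb⟩ := exists_prime_orderOf_dvd_card' (G := ↥(lz y t)) 7 (by rw [hL]; norm_num)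
  have hb7 : orderOf (b : G) = 7 := (Subgroup.orderOf_coe b).trans hb
  have hbq : orderOf (lzQ y t b) = 7 := (orderOf_injective _ (lzQ_injective hy h) b).trans hb
  have hyb : Commute y (b : G) := ((mem_lz.1 b.2).1).symm
  have hsq := hself _ (Or.inr hbq)
  refine seven_structure (four y t) hy.ord hb7 hyb (fun c hcy hcb => ?_) (card_four hy h)
    (fun e he => (four_comm (lz_le_ce y t b.2) he).symm)
    (fun c hcb hce => ce_cent hy h p hf hconj hL (fun a ha => hself a (Or.inl ha)) hsq hcb hce)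
    (fun s hs hsb => no_inverter hy h p hconj hcard.dvd (fun a ha => hself a (Or.inr ha)) hs hsb hyb.symm hb7)
    ?_ ?_ B
  · have hm : toQ y ⟨c, Subgroup.mem_centralizer_singleton_iff.2 hcy.eq⟩ ∈
        Subgroup.centralizer ({lzQ y t b} : Set (CQ y)) := by
      rw [Subgroup.mem_centralizer_singleton_iff, lzQ, MonoidHom.comp_apply, ← map_mul, ← map_mul]
      exact congrArg (toQ y) (Subtype.ext hcb.eq)
    rw [hsq] at hm
    obtain ⟨n, hn⟩ := Subgroup.mem_zpowers_iff.1 hm
    have e : ((b : G) ^ n)⁻¹ * c ∈ Subgroup.zpowers y := by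
      have e' : toQ y ((Subgroup.inclusion inf_le_left b : ↥(cy y)) ^ n)⁻¹ *
          toQ y ⟨c, Subgroup.mem_centralizer_singleton_iff.2 hcy.eq⟩ = 1 := by
        rw [← hn, map_inv, map_zpow]; exact inv_mul_cancel _
      rw [← map_mul] at e'
      exact toQ_eq_one.1 e'
    rw [show c = (b : G) ^ n * (((b : G) ^ n)⁻¹ * c) by group]
    exact mul_mem (Subgroup.mem_sup_left (Subgroup.zpow_mem_zpowers _ n)) (Subgroup.mem_sup_right e)
  · obtain ⟨n, -, -, hn⟩ := exists_inverter S hy
    exact ⟨n, hn⟩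
  · obtain ⟨d, hd, hdc⟩ := exists_fuse (X := CQ y) hbq (by rw [hcard]; norm_num) (by rw [hcard]; norm_num)
    obtain ⟨d, rfl⟩ := toQ_surjective y d
    have hdy : Commute (d : G) y := Subgroup.mem_centralizer_singleton_iff.1 d.2
    obtain ⟨n, hn⟩ := Subgroup.mem_zpowers_iff.1 hd
    set bc : ↥(cy y) := Subgroup.inclusion inf_le_left b with hbc
    have hr : ((b : G) ^ n)⁻¹ * ((d : G) * b * (d : G)⁻¹) ∈ Subgroup.zpowers y := by
      have e' : toQ y ((bc ^ n)⁻¹ * (d * bc * d⁻¹)) = 1 := by
        simp only [map_mul, map_inv, map_zpow]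
        rw [inv_mul_eq_one]
        exact hn
      exact toQ_eq_one.1 e'
    refine ⟨d, hdy, ?_, fun hdb => hdc ?_⟩
    · have hcom : Commute ((b : G) ^ n)⁻¹ ((d : G) * b * (d : G)⁻¹) := by
        set r := ((b : G) ^ n)⁻¹ * ((d : G) * b * (d : G)⁻¹) with hr'
        have hbr : Commute ((b : G) ^ n) r := by
          obtain ⟨m, hm⟩ := Subgroup.mem_zpowers_iff.1 hr
          rw [← hm]; exact hyb.symm.zpow_zpow n m
        have e : (d : G) * b * (d : G)⁻¹ = (b : G) ^ n * r := by rw [hr', mul_inv_cancel_left]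
        rw [e]
        exact (Commute.refl _).inv_left.mul_right hbr.inv_left
      have e7 : (((b : G) ^ n)⁻¹ * ((d : G) * b * (d : G)⁻¹)) ^ 7 = 1 := by
        rw [hcom.mul_pow, inv_pow, ← zpow_natCast, ← zpow_mul, mul_comm, zpow_mul, zpow_natCast, conj_pow,
          ← hb7, pow_orderOf_eq_one, one_zpow, inv_one, one_mul, mul_one, mul_inv_cancel]
      have e1 := eq_one_of_pow S hy hr (n := 7) (by norm_num) e7
      rw [← eq_of_inv_mul_eq_one e1]
      exact Subgroup.zpow_mem_zpowers _ n
    · show toQ y d * toQ y bc = toQ y bc * toQ y d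
      rw [← map_mul, ← map_mul]
      exact congrArg (toQ y) (Subtype.ext hdb.eq)

end CfsgLib.Characterizations.SuzType.Seven
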