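import Cfsg.Agent.Lib.Characterizations.SuzType.Seven.Split
import Cfsg.Agent.Lib.Characterizations.SuzType.Seven.Embedded

/-!
# The centraliser of a rotated four-group
-/

set_option autoImplicit false
set_option linter.unusedSectionVars false
set_option linter.style.haveILetI false

namespace CfsgLib.Characterizations.SuzType.Seven

open Suz CfsgLib.Characterizations.SuzType.Three

variable {G : Type*} [Group G] [Finite G] {z u g : G} {Q : Subgroup G} {π : G → V} {S : Suz z Q π} {y t : G}
variable (hy : IsStd S y) (h : Four z y t) (p : S.Pair u g) (hf : Form p t φ01 m02)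
  (hconj : ∀ a b : CQ y, orderOf a = 2 → orderOf b = 2 → IsConj a b)
  (hL : Nat.card ↥(lz y t) = 20160)
  (h5 : ∀ b : CQ y, orderOf b = 5 → Subgroup.centralizer ({b} : Set (CQ y)) = Subgroup.zpowers b)
include hy h p hf hconj hL h5

/-- The centraliser of the four-group is the product of the group and `C(y) ∩ C(t)`. -/
theorem ce_split {c : G} (hc' : c ∈ ce y t) : ∃ l ∈ lz y t, ∃ e ∈ four y t, c = l * e := by
  have hinj := lzE_injective hy h
  have hlift : ∀ {n : ℕ} {a : ↥(lz y t)}, orderOf (lzE y t a) = n → orderOf a = n := fun {n a} e =>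
    (orderOf_injective _ hinj a).symm.trans e
  have htop : (lzE y t).range = ⊤ := eq_top_of_card_20160 _
    (by rw [← Nat.card_congr (MonoidHom.ofInjective hinj).toEquiv, hL])
    (fun i hi hi2 => by
      obtain ⟨a, rfl⟩ := hi
      exact cent_le_range hy h p hf hconj (hlift hi2))
    (fun i hi j hj hi2 hj2 => by
      obtain ⟨a, rfl⟩ := hi
      obtain ⟨b, rfl⟩ := hj
      obtain ⟨zl, -, -, -, hcon, -⟩ := lz_hyps hy h p hf hconj
      obtain ⟨k, hk⟩ := isConj_iff.1 ((hcon a (hlift hi2)).symm.trans (hcon b (hlift hj2)))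
      exact ⟨lzE y t k, ⟨k, rfl⟩, by rw [← map_inv, ← map_mul, ← map_mul, hk]⟩)
    (fun i hi hi2 => by
      obtain ⟨a, rfl⟩ := hi
      rw [centralizer_map hinj a, Nat.card_congr (Subgroup.equivMapOfInjective _ _ hinj).symm.toEquiv,
        card_cent_invol hy h p hf hconj hL (hlift hi2)])
    (fun i hi hi5 => by
      obtain ⟨a, rfl⟩ := hi
      rw [centralizer_map hinj a, cent_eq_zpowers hy h (h5 _ ?_), MonoidHom.map_zpowers]
      rw [orderOf_injective _ (lzQ_injective hy h) a, hlift hi5])
  obtain ⟨l, hl⟩ : QuotientGroup.mk' (fourN y t) ⟨c, hc'⟩ ∈ (lzE y t).range := by rw [htop]; trivial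
  rw [lzE, MonoidHom.comp_apply] at hl
  have := QuotientGroup.eq.1 hl
  rw [fourN, Subgroup.mem_subgroupOf] at this
  exact ⟨l, l.2, (l : G)⁻¹ * c, by simpa using this, by rw [mul_inv_cancel_left]⟩

/-- The common centraliser of the four-group and an element with self-centralising image. -/
theorem ce_cent {b : ↥(lz y t)}
    (hb : Subgroup.centralizer ({lzQ y t b} : Set (CQ y)) = Subgroup.zpowers (lzQ y t b)) {c : G}
    (hcb : Commute c (b : G)) (hce : ∀ e ∈ four y t, Commute c e) :
    c ∈ four y t ⊔ Subgroup.zpowers (b : G) := by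
  have hc' : c ∈ ce y t := mem_ce.2 ⟨(hce t (Subgroup.subset_closure (Or.inl rfl))).eq,
    (hce _ (Subgroup.subset_closure (Or.inr rfl))).eq⟩
  obtain ⟨l, hl, e, he, rfl⟩ := ce_split hy h p hf hconj hL h5 hc'
  have heb : Commute e (b : G) := (four_comm (lz_le_ce y t b.2) he).symm
  have hlb : Commute l (b : G) := by
    have := hcb.mul_left heb.inv_left
    rwa [mul_inv_cancel_right] at this
  have hm : (⟨l, hl⟩ : ↥(lz y t)) ∈ Subgroup.centralizer ({b} : Set ↥(lz y t)) :=
    Subgroup.mem_centralizer_singleton_iff.2 (Subtype.ext hlb.eq)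
  rw [cent_eq_zpowers hy h hb] at hm
  obtain ⟨n, hn⟩ := Subgroup.mem_zpowers_iff.1 hm
  have hln : l = (b : G) ^ n := by rw [← Subgroup.coe_zpow, hn]
  exact mul_mem (Subgroup.mem_sup_right (hln ▸ Subgroup.zpow_mem_zpowers _ n)) (Subgroup.mem_sup_left he)

end CfsgLib.Characterizations.SuzType.Seven
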