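import Cfsg.Agent.Lib.Characterizations.SuzType.Seven.Form

/-!
# The singular point of an involution of the second class
-/

set_option autoImplicit false
set_option linter.unusedSectionVars false
set_option linter.style.haveILetI false

namespace CfsgLib.Characterizations.SuzType.Seven

open Suz CfsgLib.Characterizations.SuzType.Three

variable {G : Type*} [Group G] [Finite G] {z u g : G} {Q : Subgroup G} {π : G → V}

/-- An involution of the second class commuting with `z`. -/
structure SecondClass (z t : G) : Prop where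
  sq : t * t = 1
  ne : t ≠ 1
  tz : t * z = z * t
  cls : ¬ IsConj z t

/-- The point: the non-zero singular vector of the commutator space. -/
def IsPoint (S : Suz z Q π) (c : G) (v : V) : Prop :=
  v ≠ 0 ∧ q v = 0 ∧ ∃ w, S.act c w + w = v

variable {S : Suz z Q π}

theorem SecondClass.conj {t k : G} (h : SecondClass z t) (hk : k * z = z * k) :
    SecondClass z (k * t * k⁻¹) where
  sq := by rw [conj_mul, h.sq]; group
  ne e := h.ne (conj_eq_one_iff.1 e)
  tz := cz_mul (cz_mul hk h.tz) (cz_inv hk)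
  cls e := h.cls (e.trans (isConj_iff.2 ⟨k, rfl⟩).symm)

theorem notMem_Q (S : Suz z Q π) {t : G} (h : SecondClass z t) : t ∉ Q := fun hQ => h.cls (S.conj_z_of_mem hQ h.sq h.ne)

theorem SecondClass.not_sie (p : S.Pair u g) {t : G} (h : SecondClass z t) : t ∉ S.sie g := fun hs => by
  have h2 : g⁻¹ * t * g * (g⁻¹ * t * g) = 1 := by
    rw [show g⁻¹ * t * g * (g⁻¹ * t * g) = g⁻¹ * (t * t) * g by group, h.sq]; group
  have h1 : g⁻¹ * t * g ≠ 1 := fun e => h.ne (by
    calc t = g * (g⁻¹ * t * g) * g⁻¹ := by group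
      _ = 1 := by rw [e]; group)
  exact h.cls ((S.conj_z_of_mem (mem_sie.1 hs).2 h2 h1).trans (isConj_iff.2 ⟨g, by group⟩))

variable (S) in
/-- Each involution of the second class in `C(z)` has exactly one point. -/
theorem exists_point {t : G} (h : SecondClass z t) :
    ∃ v, IsPoint S t v ∧ ∀ v', IsPoint S t v' → v' = v := by
  obtain ⟨u, g, p⟩ := S.exists_pair
  obtain ⟨e₁, he, hef⟩ := p.exists_sie std_facts.1
  obtain ⟨x₀, hx, hπx⟩ := S.π_surj (P m02)
  obtain ⟨c1, -, c3⟩ := co_P m02 std_facts.2.1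
  have D : Std p e₁ x₀ := ⟨he, hef, hx, by rw [hπx, c3], by rw [hπx, c1]⟩
  rcases D.classify h.tz (notMem_Q S h) h.sq with ⟨k, hk, hks⟩ | ⟨k, hk, hks⟩
  · exact absurd hks ((h.conj hk).not_sie p)
  have hact : ∀ w, S.act (k * t * k⁻¹) w = M 1 φ01 w := fun w => by rw [hks]; exact D.t_act w
  have htr : ∀ w, S.act t w + w = S.act k⁻¹ (M 1 φ01 (S.act k w) + S.act k w) := fun w => by
    rw [(S.act_iso (cz_inv hk)).add, S.act_inv_act hk, ← hact, S.act_conj hk h.tz, S.act_inv_act hk,
      S.act_inv_act hk]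
  have hi := S.act_iso (cz_inv hk)
  refine ⟨S.act k⁻¹ u0, ⟨fun e => absurd (hi.inj (e.trans hi.map_zero.symm)) (by decide),
    by rw [hi.quad]; decide, ?_⟩, ?_⟩
  · obtain ⟨w, hw⟩ := t_point_attained
    exact ⟨S.act k⁻¹ w, by rw [htr, S.act_act_inv hk, hw]⟩
  · rintro v ⟨hv0, hvq, w, rfl⟩
    rw [htr] at hv0 hvq ⊢
    rw [hi.quad] at hvq
    rcases t_point _ hvq with e | e
    · rw [e] at hv0; exact absurd hi.map_zero hv0
    · rw [e]

theorem IsPoint.conj {t k : G} {v : V} (h : IsPoint S t v) (ht : t * z = z * t) (hk : k * z = z * k) :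
    IsPoint S (k * t * k⁻¹) (S.act k v) := by
  obtain ⟨hv, hq, w, rfl⟩ := h
  have hi := S.act_iso hk
  refine ⟨fun e => hv (hi.inj (e.trans hi.map_zero.symm)), by rw [hi.quad, hq], S.act k w, ?_⟩
  rw [S.act_conj hk ht, S.act_inv_act hk, hi.add]

theorem act_fix_point {t k : G} {v : V} (h : SecondClass z t) (hv : IsPoint S t v) (hk : k * z = z * k)
    (hc : k * t = t * k) : S.act k v = v := by
  obtain ⟨v₀, -, huniq⟩ := exists_point S h
  have := hv.conj h.tz hk
  rw [hc, mul_inv_cancel_right] at this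
  exact (huniq _ this).trans (huniq _ hv).symm

theorem act_involution {t : G} (h : SecondClass z t) (v : V) : S.act t (S.act t v) = v := by
  rw [← S.act_mul h.tz h.tz, h.sq, S.act_one]

/-- Fixed vectors are orthogonal to the commutator space. -/
theorem point_perp {t : G} {v r : V} (h : SecondClass z t) (hv : IsPoint S t v) (hr : S.act t r = r) :
    B r v = 0 := by
  obtain ⟨-, -, w, rfl⟩ := hv
  have e := (S.act_iso h.tz).polar r w
  rw [hr] at e
  rw [B_comm, B_add_left, B_comm _ r, B_comm _ r, e, CharTwo.add_self_eq_zero]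

end CfsgLib.Characterizations.SuzType.Seven
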