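import Cfsg.Agent.Lib.Recognition.SelfCentThree.Maximal
import Cfsg.Agent.Lib.PGroup.RestrictedPCyclic

/-!
# A self-centralising element of order three without inverters, and a self-centralising four-group
-/

set_option autoImplicit false

namespace CfsgLib.Characterizations.SuzType.Seven

open Subgroup CfsgLib.Recognition.SelfCentThree

/-- If no involution inverts the self-centralising element `x` of order three and some subgroup of
order four is its own centraliser, the group is alternating of degree four. -/
theorem card_twelve {X : Type*} [Group X] [Finite X] {x : X} (hx : Hyp x) (E : Subgroup X)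
    (hE : Nat.card E = 4) (hself : Subgroup.centralizer (E : Set X) = E)
    (hno : ∀ s : X, orderOf s = 2 → s * x * s⁻¹ ≠ x⁻¹) :
    Nat.card X = 12 ∧ Nonempty (X ≃* alternatingGroup (Fin 4)) := by
  rcases hx.exists_invert with ⟨w, hw, hw1, hwx⟩ | ⟨M, hM, hM3, hMc⟩
  · exact absurd hwx (hno w (orderOf_eq_prime (by rw [pow_two]; exact hw) hw1))
  haveI := hM
  have hI : Inv x M := ⟨by rw [normalizer_eq_top]; exact mem_top x, hM3⟩
  have hidx : M.index = 3 := by
    have h1 := M.index_mul_card
    rw [hMc] at h1
    exact Nat.eq_of_mul_eq_mul_right Nat.card_pos h1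
  have hEM : E ≤ M := fun e he => by
    rw [← QuotientGroup.eq_one_iff, ← orderOf_eq_one_iff]
    refine Nat.eq_one_of_dvd_coprimes (show Nat.Coprime 4 3 by norm_num) ?_ ?_
    · exact (orderOf_map_dvd (QuotientGroup.mk' M) e).trans (hE ▸ orderOf_dvd_natCard _ he)
    · exact hidx ▸ orderOf_dvd_natCard _
  haveI := hI.nilpotent hx
  haveI : Nontrivial M := by
    rw [← Finite.one_lt_card_iff_nontrivial]
    have := Nat.le_of_dvd Nat.card_pos (card_dvd_of_le hEM)
    omega
  haveI : Nontrivial (center M) := (nontrivial_iff_ne_bot _).2 (Group.IsNilpotent.center_ne_bot _)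
  set Z : Subgroup X := (center M).map M.subtype with hZ
  have hZM : Z ≤ M := map_subtype_le _
  haveI hZn : Z.Normal := inferInstance
  have hZE : Z ≤ E := by
    rintro z ⟨⟨z', hz'M⟩, hz', rfl⟩
    rw [← hself]
    refine mem_centralizer_iff.2 fun e he => ?_
    exact congrArg Subtype.val (mem_center_iff.1 hz' ⟨e, hEM he⟩)
  have hZI : Inv x Z := hI.mono_cop hZM (by rw [normalizer_eq_top]; exact mem_top x)
  have hZ4 : Nat.card Z = 4 := by
    have h1 := hZI.card_mod hx
    have h2 : Nat.card Z ∣ 4 := hE ▸ card_dvd_of_le hZE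
    have h3 : 1 < Nat.card Z := by
      rw [hZ, card_map_of_injective M.subtype_injective]
      exact Finite.one_lt_card
    have h4 := Nat.le_of_dvd (by norm_num) h2
    interval_cases h5 : Nat.card Z <;> omega
  have hZeq : Z = E := eq_of_le_of_card_ge hZE (by rw [hE, hZ4])
  have hME : M = E := by
    refine le_antisymm (fun m hm => ?_) hEM
    rw [← hself, ← hZeq]
    refine mem_centralizer_iff.2 fun z hz => ?_
    obtain ⟨⟨z', hz'M⟩, hz', rfl⟩ := hz
    exact (congrArg Subtype.val (mem_center_iff.1 hz' ⟨m, hm⟩)).symm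
  have h12 : Nat.card X = 12 := by rw [hMc, hME, hE]
  subst hME
  exact ⟨h12, CfsgLib.PGroup.RestrictedPCyclic.nonempty_equiv_a4 M hE h12 hself.le⟩

end CfsgLib.Characterizations.SuzType.Seven
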