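import Cfsg.Agent.Lib.Characterizations.SuzType.Seven.Centralizer

/-!
# The quotient of the centraliser of a rotated four-group by the four-group
-/

set_option autoImplicit false
set_option linter.unusedSectionVars false
set_option linter.style.haveILetI false

namespace CfsgLib.Characterizations.SuzType.Seven

open Suz CfsgLib.Characterizations.SuzType.Three

variable {G : Type*} [Group G]

/-- The rotated four-group. -/
def four (y t : G) : Subgroup G := Subgroup.closure {t, y * t * y⁻¹}

/-- Its centraliser. -/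
def ce (y t : G) : Subgroup G :=
  Subgroup.centralizer ({t} : Set G) ⊓ Subgroup.centralizer ({y * t * y⁻¹} : Set G)

theorem mem_ce {y t c : G} :
    c ∈ ce y t ↔ c * t = t * c ∧ c * (y * t * y⁻¹) = y * t * y⁻¹ * c := by
  rw [ce, Subgroup.mem_inf, Subgroup.mem_centralizer_singleton_iff, Subgroup.mem_centralizer_singleton_iff]

theorem lz_le_ce (y t : G) : lz y t ≤ ce y t := fun _ hc' => mem_ce.2 ⟨(mem_lz.1 hc').2, lz_comm_rot hc'⟩

theorem four_comm {y t c e : G} (hc' : c ∈ ce y t) (he : e ∈ four y t) : Commute c e := by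
  have hle : four y t ≤ Subgroup.centralizer ({c} : Set G) := (Subgroup.closure_le _).2 fun w hw =>
    Subgroup.mem_centralizer_singleton_iff.2 (by
      rcases hw with rfl | rfl
      · exact (mem_ce.1 hc').1.symm
      · exact (mem_ce.1 hc').2.symm)
  exact (Subgroup.mem_centralizer_singleton_iff.1 (hle he)).symm

variable [Finite G] {z u g : G} {Q : Subgroup G} {π : G → V} {S : Suz z Q π} {y t : G}
variable (hy : IsStd S y) (h : Four z y t)
include hy h

theorem four_le_ce : four y t ≤ ce y t := (Subgroup.closure_le _).2 fun w hw => mem_ce.2 (by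
  rcases hw with rfl | rfl
  · exact ⟨rfl, h.commute.eq⟩
  · exact ⟨h.commute.symm.eq, rfl⟩)

theorem rot_sq : y * t * y⁻¹ * (y * t * y⁻¹) = 1 := by rw [conj_mul, h.sq]; group

theorem mul_rot : t * (y * t * y⁻¹) = y * y * t * (y * y)⁻¹ := by
  rw [eq_inv_of_mul_eq_one_left h.prod,
    inv_eq_of_mul_eq_one_right (show y * y * t * (y * y)⁻¹ * (y * y * t * (y * y)⁻¹) = 1 by
      rw [conj_mul, h.sq]; group)]

theorem four_cases {e : G} (he : e ∈ four y t) :
    e = 1 ∨ e = t ∨ e = y * t * y⁻¹ ∨ e = y * y * t * (y * y)⁻¹ := by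
  have hs := h.sq
  have hs' := rot_sq hy h
  have hm := mul_rot hy h
  have hm' : y * t * y⁻¹ * t = y * y * t * (y * y)⁻¹ := h.commute.eq ▸ hm
  have ht : ∀ w, t * (t * w) = w := fun w => by rw [← mul_assoc, hs, one_mul]
  have ht' : ∀ w, y * t * y⁻¹ * (y * t * y⁻¹ * w) = w := fun w => by rw [← mul_assoc, hs', one_mul]
  unfold four at he
  refine Subgroup.closure_induction_left (Or.inl rfl) ?_ ?_ he
  · intro x hx w _ hw
    rcases hx with rfl | rfl <;> rcases hw with rfl | rfl | rfl | rfl
    · exact Or.inr (Or.inl (mul_one _))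
    · exact Or.inl hs
    · exact Or.inr (Or.inr (Or.inr hm))
    · exact Or.inr (Or.inr (Or.inl (by rw [← hm, ht])))
    · exact Or.inr (Or.inr (Or.inl (mul_one _)))
    · exact Or.inr (Or.inr (Or.inr hm'))
    · exact Or.inl hs'
    · exact Or.inr (Or.inl (by rw [← hm', ht']))
  · intro x hx w _ hw
    rcases hx with rfl | rfl
    all_goals first
      | rw [inv_eq_of_mul_eq_one_right hs]
      | rw [inv_eq_of_mul_eq_one_right hs']
    all_goals rcases hw with rfl | rfl | rfl | rfl
    · exact Or.inr (Or.inl (mul_one _))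
    · exact Or.inl hs
    · exact Or.inr (Or.inr (Or.inr hm))
    · exact Or.inr (Or.inr (Or.inl (by rw [← hm, ht])))
    · exact Or.inr (Or.inr (Or.inl (mul_one _)))
    · exact Or.inr (Or.inr (Or.inr hm'))
    · exact Or.inl hs'
    · exact Or.inr (Or.inl (by rw [← hm', ht']))

theorem four_inter {e : G} (he : e ∈ four y t) (hey : e * y = y * e) : e = 1 := by
  have hcy : Commute y (y : G) := Commute.refl y
  rcases four_cases hy h he with rfl | rfl | rfl | rfl
  · rfl
  · exact absurd (show Commute y e from hey.symm) (not_commute hy h)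
  · refine absurd (show Commute y t from ?_) (not_commute hy h)
    have e' := (show Commute y (y * t * y⁻¹) from hey.symm).map (MulAut.conj y⁻¹).toMonoidHom
    simpa [mul_assoc] using e'
  · refine absurd (show Commute y t from ?_) (not_commute hy h)
    have e' := (show Commute y (y * y * t * (y * y)⁻¹) from hey.symm).map (MulAut.conj (y * y)⁻¹).toMonoidHom
    simpa [mul_assoc] using e'

theorem card_four : Nat.card ↥(four y t) = 4 := by
  classical
  have hne : y * t * y⁻¹ ≠ 1 := fun e => h.ne (conj_eq_one_iff.1 e)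
  have hne2 : y * y * t * (y * y)⁻¹ ≠ 1 := fun e => h.ne (conj_eq_one_iff.1 e)
  have h01 : t ≠ y * t * y⁻¹ := fun e => not_commute hy h (mul_inv_eq_iff_eq_mul.1 e.symm)
  have h02 : t ≠ y * y * t * (y * y)⁻¹ := fun e => hne (mul_eq_left.1 ((mul_rot hy h).trans e.symm))
  have h12 : y * t * y⁻¹ ≠ y * y * t * (y * y)⁻¹ := fun e => h.ne (mul_eq_right.1 ((mul_rot hy h).trans e.symm))
  have hset : (four y t : Set G) = {1, t, y * t * y⁻¹, y * y * t * (y * y)⁻¹} := by
    ext e
    simp only [SetLike.mem_coe, Set.mem_insert_iff, Set.mem_singleton_iff]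
    refine ⟨four_cases hy h, ?_⟩
    have m0 : t ∈ four y t := Subgroup.subset_closure (Or.inl rfl)
    have m1 : y * t * y⁻¹ ∈ four y t := Subgroup.subset_closure (Or.inr rfl)
    rintro (rfl | rfl | rfl | rfl)
    · exact one_mem _
    · exact m0
    · exact m1
    · rw [← mul_rot hy h]; exact mul_mem m0 m1
  have : Nat.card ↥(four y t) = (four y t : Set G).ncard := (Nat.card_coe_set_eq _)
  rw [this, hset, Set.ncard_insert_of_notMem (by
      simp only [Set.mem_insert_iff, Set.mem_singleton_iff, not_or]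
      exact ⟨h.ne.symm, hne.symm, hne2.symm⟩),
    Set.ncard_insert_of_notMem (by
      simp only [Set.mem_insert_iff, Set.mem_singleton_iff, not_or]
      exact ⟨h01, h02⟩), Set.ncard_pair h12]

variable (p : S.Pair u g) (hf : Form p t φ01 m02)
include p hf

omit hy h hf in
theorem form_not_conj {c : G} (fc : Form p c φ01 m02) : ¬ IsConj z c := by
  obtain ⟨e, x, he, -, hef, hx, h5, hco, rfl⟩ := fc
  exact Std.not_conj (⟨he, hef, hx, h5, hco⟩ : Std p e x)

theorem four_not_conj {e : G} (he : e ∈ four y t) (hconj : IsConj z (z * e)) : e = 1 := by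
  have hzt : ¬ IsConj z (z * t) := by
    have := form_mul p (form_zu p 1 0) hf
    rw [zero_add, zero_add, show zu z u 1 0 = z by simp [zu, zp_zero, zp_one]] at this
    exact form_not_conj p this
  have hk : ∀ k : G, k * z = z * k → ¬ IsConj z (z * (k * t * k⁻¹)) := fun k hk e => hzt
    (e.trans (isConj_iff.2 ⟨k, by rw [← conj_mul, hk, mul_inv_cancel_right]⟩).symm)
  rcases four_cases hy h he with rfl | rfl | rfl | rfl
  · rfl
  · exact absurd hconj hzt
  · exact absurd hconj (hk y hy.yz)
  · exact absurd hconj (hk (y * y) (cz_mul hy.yz hy.yz))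

/-- Elements of the centraliser normalising the coset of `z`. -/
theorem exists_split {c : G} (hc' : c ∈ ce y t) (he : c * z * c⁻¹ * z⁻¹ ∈ four y t) :
    ∃ k ∈ hct z y t, ∃ e ∈ four y t, c = k * e := by
  have hzce : z ∈ ce y t := lz_le_ce y t (z_mem_lz hy h p hf)
  have e1 : c * z * c⁻¹ = z * (c * z * c⁻¹ * z⁻¹) := by
    rw [(four_comm hzce he).eq, inv_mul_cancel_right]
  have h1 := four_not_conj hy h p hf he (isConj_iff.2 ⟨c, e1⟩)
  have hcz : c * z = z * c := by
    rw [h1, mul_one] at e1
    exact mul_inv_eq_iff_eq_mul.1 e1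
  exact cent_four_split p hy h hf hcz (mem_ce.1 hc').1 (mem_ce.1 hc').2

/-- The four-group inside its centraliser. -/
def fourN (y t : G) : Subgroup ↥(ce y t) := (four y t).subgroupOf (ce y t)

omit hy h p hf in
instance fourN_normal (y t : G) : (fourN y t).Normal := ⟨fun n hn c => by
  rw [fourN, Subgroup.mem_subgroupOf] at hn ⊢
  rw [Subgroup.coe_mul, Subgroup.coe_mul, Subgroup.coe_inv, (four_comm c.2 hn).eq, mul_inv_cancel_right]
  exact hn⟩

/-- The projection of `C(y) ∩ C(t)`. -/
def lzE (y t : G) : ↥(lz y t) →* ↥(ce y t) ⧸ fourN y t :=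
  (QuotientGroup.mk' (fourN y t)).comp (Subgroup.inclusion (lz_le_ce y t))

omit p hf in
theorem lzE_injective : Function.Injective (lzE y t) := (injective_iff_map_eq_one _).2 fun c hc' => by
  rw [lzE, MonoidHom.comp_apply, QuotientGroup.mk'_apply, QuotientGroup.eq_one_iff, fourN,
    Subgroup.mem_subgroupOf] at hc'
  exact Subtype.ext (four_inter hy h hc' (mem_lz.1 c.2).1)

omit hy h p hf in
theorem centralizer_map {A B : Type*} [Group A] [Group B] {f : A →* B} (hf' : Function.Injective f) (a : A) :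
    Subgroup.centralizer ({f a} : Set B) ⊓ f.range = (Subgroup.centralizer ({a} : Set A)).map f := by
  ext b
  rw [Subgroup.mem_inf, Subgroup.mem_centralizer_singleton_iff, Subgroup.mem_map]
  constructor
  · rintro ⟨hb, a', rfl⟩
    exact ⟨a', Subgroup.mem_centralizer_singleton_iff.2 (hf' (by rw [map_mul, map_mul, hb])), rfl⟩
  · rintro ⟨a', ha', rfl⟩
    exact ⟨by rw [← map_mul, ← map_mul, Subgroup.mem_centralizer_singleton_iff.1 ha'], a', rfl⟩

variable (hconj : ∀ a b : CQ y, orderOf a = 2 → orderOf b = 2 → IsConj a b)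
include hconj

/-- Involution centralisers of the quotient lie in the image. -/
theorem cent_le_range {i : ↥(lz y t)} (hi : orderOf i = 2) :
    Subgroup.centralizer ({lzE y t i} : Set (↥(ce y t) ⧸ fourN y t)) ≤ (lzE y t).range := by
  intro d hd
  obtain ⟨c, rfl⟩ := QuotientGroup.mk'_surjective _ d
  rw [Subgroup.mem_centralizer_singleton_iff] at hd
  have hi2 : (i : G) * i = 1 := by
    have e := pow_orderOf_eq_one i
    rw [hi, pow_two] at e
    exact congrArg Subtype.val e
  have hi1 : (i : G) ≠ 1 := fun e => by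
    rw [show i = 1 from Subtype.ext e, orderOf_one] at hi; norm_num at hi
  obtain ⟨k, hk, hki⟩ := lz_conj hy h p hf hconj i.2 hi2 hi1
  have hkce := lz_le_ce y t hk
  have hmem : (c : G) * i * (c : G)⁻¹ * (i : G)⁻¹ ∈ four y t := by
    have e : QuotientGroup.mk' (fourN y t)
        (c * Subgroup.inclusion (lz_le_ce y t) i * c⁻¹ * (Subgroup.inclusion (lz_le_ce y t) i)⁻¹) = 1 := by
      simp only [map_mul, map_inv]
      change _ * lzE y t i * _ * (lzE y t i)⁻¹ = 1
      rw [hd, mul_inv_cancel_right, mul_inv_cancel]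
    rw [QuotientGroup.mk'_apply, QuotientGroup.eq_one_iff, fourN, Subgroup.mem_subgroupOf] at e
    exact e
  obtain ⟨a, ha, e, he, hsplit⟩ := exists_split hy h p hf (c := k⁻¹ * c * k)
    (mul_mem (mul_mem (inv_mem hkce) c.2) hkce) (by
      rw [show k⁻¹ * (c : G) * k * z * (k⁻¹ * (c : G) * k)⁻¹ * z⁻¹ =
        k⁻¹ * ((c : G) * (k * z * k⁻¹) * (c : G)⁻¹ * (k * z * k⁻¹)⁻¹) * k by group, hki,
        mul_assoc, (four_comm hkce hmem).symm.eq, inv_mul_cancel_left]
      exact hmem)
  have hal : a ∈ lz y t := mem_lz.2 ⟨(mem_hct.1 ha).2.1, (mem_hct.1 ha).2.2⟩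
  refine ⟨⟨k * a * k⁻¹, mul_mem (mul_mem hk hal) (inv_mem hk)⟩, ?_⟩
  rw [lzE, MonoidHom.comp_apply]
  refine (QuotientGroup.eq.2 ?_)
  rw [fourN, Subgroup.mem_subgroupOf]
  simp only [Subgroup.coe_mul, Subgroup.coe_inv, Subgroup.coe_inclusion]
  rw [show (c : G) = k * (k⁻¹ * c * k) * k⁻¹ by group, hsplit,
    show (k * a * k⁻¹)⁻¹ * (k * (a * e) * k⁻¹) = k * (e * k⁻¹) by group,
    (four_comm (inv_mem hkce) he).symm.eq, mul_inv_cancel_left]
  exact he

/-- A centraliser of an involution in `C(y) ∩ C(t)` has order 64. -/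
theorem card_cent_invol (hL : Nat.card ↥(lz y t) = 20160) {i : ↥(lz y t)} (hi : orderOf i = 2) :
    Nat.card ↥(Subgroup.centralizer ({i} : Set ↥(lz y t))) = 64 := by
  classical
  obtain ⟨zl, -, hz, -, hcon, hle, -⟩ := lz_hyps hy h p hf hconj
  have hcard : ∀ j : ↥(lz y t), orderOf j = 2 → Nat.card ↥(Subgroup.centralizer ({j} : Set ↥(lz y t))) =
      Nat.card ↥(Subgroup.centralizer ({zl} : Set ↥(lz y t))) := fun j hj => by
    obtain ⟨k, hk⟩ := isConj_iff.1 (hcon j hj)
    have hmap := centralizer_map (f := (MulAut.conj k).toMonoidHom) (MulAut.conj k).injective zl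
    rw [MonoidHom.range_eq_top.2 (MulAut.conj k).surjective, inf_top_eq, MulEquiv.coe_toMonoidHom,
      MulAut.conj_apply, hk] at hmap
    rw [hmap, Nat.card_congr (Subgroup.equivMapOfInjective _ (MulAut.conj k).toMonoidHom
      (MulAut.conj k).injective).symm.toEquiv]
  haveI : Fact (Nat.Prime 2) := ⟨Nat.prime_two⟩
  let P : Sylow 2 ↥(lz y t) := default
  have hP : Nat.card P = 64 := by
    have e : (20160 : ℕ).factorization 2 = 6 := by
      rw [show 20160 = 2 ^ 6 * 315 by norm_num, Nat.factorization_mul (by norm_num) (by norm_num),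
        Finsupp.add_apply, Nat.Prime.factorization_pow Nat.prime_two, Finsupp.single_eq_same,
        Nat.factorization_eq_zero_of_not_dvd (show ¬ 2 ∣ 315 by norm_num)]
    rw [P.card_eq_multiplicity, hL, e]
    norm_num
  haveI : Nontrivial ↥(P : Subgroup ↥(lz y t)) := Finite.one_lt_card_iff_nontrivial.1 (by rw [hP]; norm_num)
  haveI := P.2.center_nontrivial
  obtain ⟨w, hw⟩ := exists_prime_orderOf_dvd_card' 2 (show 2 ∣ Nat.card (Subgroup.center ↥(P : Subgroup ↥(lz y t))) by
    obtain ⟨n, hn⟩ := (P.2.to_subgroup (Subgroup.center ↥(P : Subgroup ↥(lz y t)))).exists_card_eq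
    rcases n with _ | n
    · have := Finite.one_lt_card (α := ↥(Subgroup.center ↥(P : Subgroup ↥(lz y t))))
      simp [hn] at this
    · rw [hn]; exact dvd_pow_self _ (Nat.succ_ne_zero n))
  have hw' : orderOf ((w : ↥(P : Subgroup ↥(lz y t))) : ↥(lz y t)) = 2 := by
    rw [Subgroup.orderOf_coe, Subgroup.orderOf_coe, hw]
  refine le_antisymm ((hcard i hi).trans_le hle) ?_
  rw [hcard i hi, ← hcard _ hw', ← hP]
  show Nat.card ↥(P : Subgroup ↥(lz y t)) ≤ _
  refine Subgroup.card_le_of_le (H := (P : Subgroup ↥(lz y t)))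
    (K := Subgroup.centralizer ({((w : ↥(P : Subgroup ↥(lz y t))) : ↥(lz y t))} : Set ↥(lz y t))) fun x hx => Subgroup.mem_centralizer_singleton_iff.2 ?_
  exact congrArg Subtype.val (Subgroup.mem_center_iff.1 w.2 ⟨x, hx⟩)

omit hconj p hf in
/-- An element with self-centralising image in `C(y)/⟨y⟩` has self-centralising image here. -/
theorem cent_eq_zpowers {b : ↥(lz y t)}
    (hb : Subgroup.centralizer ({lzQ y t b} : Set (CQ y)) = Subgroup.zpowers (lzQ y t b)) :
    Subgroup.centralizer ({b} : Set ↥(lz y t)) = Subgroup.zpowers b := by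
  refine le_antisymm (fun c hc' => ?_) (Subgroup.zpowers_le.2 (Subgroup.mem_centralizer_singleton_iff.2 rfl))
  have : lzQ y t c ∈ Subgroup.centralizer ({lzQ y t b} : Set (CQ y)) := by
    rw [Subgroup.mem_centralizer_singleton_iff, ← map_mul, ← map_mul, Subgroup.mem_centralizer_singleton_iff.1 hc']
  rw [hb, ← MonoidHom.map_zpowers] at this
  obtain ⟨d, hd, e⟩ := this
  rwa [← lzQ_injective hy h e]

end CfsgLib.Characterizations.SuzType.Seven
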